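import Groth.Agent.PP16Lib.GrJ
import Groth.Prelude.Def_CAlgX
import Mathlib.RingTheory.Smooth.Basic
import Mathlib.Algebra.TrivSqZeroExt.Basic
import Mathlib.RingTheory.Derivation.Basic

/-!
Lifting properties of adically formally smooth algebras.
-/

set_option autoImplicit false
set_option linter.unusedSectionVars false

universe u

open scoped TensorProduct

noncomputable section

namespace Groth.Agent.PP16Lib

variable {A B : Type u} [CommRing A] [CommRing B] [Algebra A B] {J : Ideal B}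

/-- A map into a ring whose composite with a quotient by a nilpotent ideal kills a power of `J`
kills a power of `J` itself. -/
theorem exists_pow_kill {E : Type u} [CommRing E] (χ : B →+* E) {L : Ideal E} (hL : IsNilpotent L) {k : ℕ}
    (h : ∀ x ∈ J ^ k, χ x ∈ L) : ∃ k', ∀ x ∈ J ^ k', χ x = 0 := by
  obtain ⟨m, hm⟩ := hL
  refine ⟨k * m, fun x hx => ?_⟩
  have : (J ^ k).map χ ^ m ≤ L ^ m := Ideal.pow_right_mono (Ideal.map_le_iff_le_comap.mpr h) m
  rw [hm, ← Ideal.map_pow, ← pow_mul] at this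
  exact this (Ideal.mem_map_of_mem χ hx)

theorem exists_lift_nilpotent (hS : CAlgX.IsAdicFormallySmooth A B J) {E : Type u} [CommRing E]
    [Algebra A E] (L : Ideal E) (hL : IsNilpotent L) (ψ : B →ₐ[A] E ⧸ L)
    (hψ : ∃ k : ℕ, ∀ x ∈ J ^ k, ψ x = 0) : ∃ χ : B →ₐ[A] E, (Ideal.Quotient.mkₐ A L).comp χ = ψ := by
  revert ψ hψ
  revert ‹Algebra A E›
  have hL' := hL
  revert hL'
  apply Ideal.IsNilpotent.induction_on (S := E) L hL
  · intro E _ L hL _ _ ψ hψ
    exact hS E L hL ψ hψ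
  · intro E _ I₀ L hIL h₁ h₂ hLn _ ψ hψ
    let e : ((E ⧸ I₀) ⧸ L.map (Ideal.Quotient.mk I₀)) ≃ₐ[A] E ⧸ L :=
      { (DoubleQuot.quotQuotEquivQuotSup I₀ L).trans (Ideal.quotEquivOfEq (sup_eq_right.mpr hIL)) with
        commutes' := fun x => rfl }
    obtain ⟨k, hk⟩ := hψ
    have hk' : ∀ x ∈ J ^ k, e.symm.toAlgHom.comp ψ x = 0 := fun x hx => by
      rw [AlgHom.comp_apply, hk x hx, map_zero]
    obtain ⟨m, hm⟩ := hLn
    have hnil : IsNilpotent (L.map (Ideal.Quotient.mk I₀)) :=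
      ⟨m, by rw [← Ideal.map_pow, hm, Ideal.zero_eq_bot, Ideal.map_bot, Ideal.zero_eq_bot]⟩
    have hI₀ : IsNilpotent I₀ :=
      ⟨m, le_bot_iff.mp ((Ideal.pow_right_mono hIL m).trans_eq hm)⟩
    obtain ⟨g', hg'⟩ := h₂ hnil (e.symm.toAlgHom.comp ψ) ⟨k, hk'⟩
    obtain ⟨χ, rfl⟩ := h₁ hI₀ g' (exists_pow_kill g'.toRingHom hnil (k := k) fun x hx => by
      rw [← Ideal.Quotient.eq_zero_iff_mem]
      exact (DFunLike.congr_fun hg' x).trans (hk' x hx))
    refine ⟨χ, AlgHom.ext fun x => ?_⟩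
    have := congrArg e (DFunLike.congr_fun hg' x)
    simp only [AlgHom.comp_apply, AlgEquiv.coe_toAlgHom, AlgEquiv.apply_symm_apply] at this
    exact this

theorem exists_lift_of_surjective (hS : CAlgX.IsAdicFormallySmooth A B J) {E E' : Type u} [CommRing E]
    [CommRing E'] [Algebra A E] [Algebra A E'] (π : E →ₐ[A] E') (hπ : Function.Surjective π) {m : ℕ}
    (hm : ∀ L : Ideal E, (∀ x ∈ L, π x = 0) → L ^ m = ⊥)
    (ψ : B →ₐ[A] E') {k : ℕ} (hψ : ∀ x ∈ J ^ k, ψ x = 0) :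
    ∃ χ : B →ₐ[A] E, (∀ x, π (χ x) = ψ x) ∧ ∃ k', ∀ x ∈ J ^ k', χ x = 0 := by
  let e := Ideal.quotientKerAlgEquivOfSurjective hπ
  have hnil : IsNilpotent (RingHom.ker π) := ⟨m, hm _ fun x hx => hx⟩
  obtain ⟨χ, hχ⟩ := exists_lift_nilpotent hS (RingHom.ker π) hnil (e.symm.toAlgHom.comp ψ)
    ⟨k, fun x hx => by rw [AlgHom.comp_apply, hψ x hx, map_zero]⟩
  have hlift : ∀ x, π (χ x) = ψ x := fun x => by
    have h := congrArg e (DFunLike.congr_fun hχ x)
    simp only [AlgHom.comp_apply, AlgEquiv.coe_toAlgHom, AlgEquiv.apply_symm_apply] at h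
    rw [← h]
    rfl
  exact ⟨χ, hlift, exists_pow_kill χ.toRingHom hnil (k := k) fun x hx => by
    show π (χ x) = 0
    rw [hlift, hψ x hx]⟩

end Groth.Agent.PP16Lib

end
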