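import Groth.Prelude.Def_EGA41
import Groth.Agent.PP16Lib.AdicLift
import Mathlib.RingTheory.AdicCompletion.RingHom
import Mathlib.RingTheory.AdicCompletion.Completeness
import Mathlib.RingTheory.LocalRing.Module
import Mathlib.Algebra.Module.Projective

/-!
Formal smoothness for adic topologies on base and algebra: lifting into complete rings, completion.
-/

set_option autoImplicit false
set_option linter.unusedSectionVars false

universe u

noncomputable section

namespace Groth.Agent.PP16Lib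

variable {A B : Type u} [CommRing A] [CommRing B] [Algebra A B] {𝔞 : Ideal A} {𝔟 : Ideal B}

theorem adicSmooth_of_formallySmoothAdic (h : EGA41.IsFormallySmoothAdic A 𝔞 B 𝔟)
    (hAB : ∃ k : ℕ, (𝔞 ^ k).map (algebraMap A B) ≤ 𝔟) : CAlgX.IsAdicFormallySmooth A B 𝔟 := by
  intro E _ _ N hN ψ hψ
  obtain ⟨k, hk⟩ := hAB
  obtain ⟨m, hm⟩ := hψ
  have h1 : (𝔞 ^ (k * m)).map (algebraMap A E) ≤ N := Ideal.map_le_iff_le_comap.mpr fun a ha => by
    have h2 : algebraMap A B a ∈ 𝔟 ^ m := by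
      rw [pow_mul] at ha
      have := Ideal.mem_map_of_mem (algebraMap A B) ha
      rw [Ideal.map_pow] at this
      exact Ideal.pow_right_mono hk m this
    have := hm _ h2
    rw [AlgHom.commutes] at this
    rw [IsScalarTower.algebraMap_apply A E (E ⧸ N), Ideal.Quotient.algebraMap_eq, Ideal.Quotient.eq_zero_iff_mem] at this
    exact this
  refine h E N ⟨2, hN⟩ ⟨k * m * 2, ?_⟩ ψ ⟨m, hm⟩
  rw [pow_mul, Ideal.map_pow, eq_bot_iff, ← hN]
  exact Ideal.pow_right_mono h1 2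

theorem formallySmoothAdic_of_adicSmooth (h : CAlgX.IsAdicFormallySmooth A B 𝔟) :
    EGA41.IsFormallySmoothAdic A 𝔞 B 𝔟 :=
  fun _ _ _ J hJ _ ψ hψ => exists_lift_nilpotent h J hJ ψ hψ

theorem exists_lift_top (h : EGA41.IsFormallySmoothAdic A 𝔞 B 𝔟) {E E' : Type u} [CommRing E] [CommRing E']
    [Algebra A E] [Algebra A E'] (π : E →ₐ[A] E') (hπ : Function.Surjective π)
    (hker : IsNilpotent (RingHom.ker π)) (hE : ∃ k : ℕ, (𝔞 ^ k).map (algebraMap A E) = ⊥)
    (ψ : B →ₐ[A] E') (hψ : ∃ k : ℕ, ∀ x ∈ 𝔟 ^ k, ψ x = 0) :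
    ∃ χ : B →ₐ[A] E, (∀ x, π (χ x) = ψ x) ∧ ∃ k : ℕ, ∀ x ∈ 𝔟 ^ k, χ x = 0 := by
  obtain ⟨k, hk⟩ := hψ
  let e := Ideal.quotientKerAlgEquivOfSurjective hπ
  obtain ⟨χ, hχ⟩ := h E (RingHom.ker π) hker hE (e.symm.toAlgHom.comp ψ)
    ⟨k, fun x hx => by rw [AlgHom.comp_apply, hk x hx, map_zero]⟩
  have hlift : ∀ x, π (χ x) = ψ x := fun x => by
    have h := congrArg e (DFunLike.congr_fun hχ x)
    simp only [AlgHom.comp_apply, AlgEquiv.coe_toAlgHom, AlgEquiv.apply_symm_apply] at h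
    rw [← h]
    rfl
  exact ⟨χ, hlift, exists_pow_kill χ.toRingHom hker (k := k) fun x hx => by
    show π (χ x) = 0
    rw [hlift, hk x hx]⟩

/-- Two compatible maps into quotients glue to a map into the quotient by the intersection. -/
theorem exists_quotient_inf {C : Type u} [CommRing C] [Algebra A C] (I K : Ideal C)
    (u : B →ₐ[A] C ⧸ I) (v : B →ₐ[A] C ⧸ K)
    (h : ∀ x, Ideal.Quotient.factor (le_sup_left : I ≤ I ⊔ K) (u x) =
      Ideal.Quotient.factor (le_sup_right : K ≤ I ⊔ K) (v x)) :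
    ∃ w : B →ₐ[A] C ⧸ (I ⊓ K), (∀ x, Ideal.Quotient.factor (inf_le_left : I ⊓ K ≤ I) (w x) = u x) ∧
      ∀ x, Ideal.Quotient.factor (inf_le_right : I ⊓ K ≤ K) (w x) = v x := by
  let ι : (C ⧸ (I ⊓ K)) →ₐ[A] (C ⧸ I) × (C ⧸ K) :=
    (Ideal.Quotient.factorₐ A (inf_le_left : I ⊓ K ≤ I)).prod (Ideal.Quotient.factorₐ A (inf_le_right : I ⊓ K ≤ K))
  have hι : Function.Injective ι := by
    intro a b hab
    obtain ⟨a, rfl⟩ := Ideal.Quotient.mk_surjective a
    obtain ⟨b, rfl⟩ := Ideal.Quotient.mk_surjective b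
    rw [Ideal.Quotient.eq]
    exact ⟨Ideal.Quotient.eq.mp (congrArg Prod.fst hab), Ideal.Quotient.eq.mp (congrArg Prod.snd hab)⟩
  have hex : ∀ x, ∃ z, ι z = (u x, v x) := fun x => by
    obtain ⟨a, ha⟩ := Ideal.Quotient.mk_surjective (u x)
    obtain ⟨b, hb⟩ := Ideal.Quotient.mk_surjective (v x)
    have hab := h x
    rw [← ha, ← hb] at hab
    obtain ⟨i, hi, k, hk, hik⟩ := Submodule.mem_sup.mp (Ideal.Quotient.eq.mp hab)
    refine ⟨Ideal.Quotient.mk _ (a - i), Prod.ext ?_ ?_⟩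
    · show Ideal.Quotient.mk I (a - i) = u x
      rw [← ha, Ideal.Quotient.eq, sub_sub_cancel_left]
      exact neg_mem hi
    · show Ideal.Quotient.mk K (a - i) = v x
      rw [← hb, Ideal.Quotient.eq, show a - i - b = k by linear_combination -hik]
      exact hk
  let w : B →ₐ[A] C ⧸ (I ⊓ K) :=
    (AlgEquiv.ofInjective ι hι).symm.toAlgHom.comp ((u.prod v).codRestrict ι.range fun x => hex x)
  have hw : ∀ x, ι (w x) = (u x, v x) := fun x => by
    show ((AlgEquiv.ofInjective ι hι) ((AlgEquiv.ofInjective ι hι).symm _) : (C ⧸ I) × (C ⧸ K)) = _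
    rw [AlgEquiv.apply_symm_apply]
    rfl
  exact ⟨w, fun x => congrArg Prod.fst (hw x), fun x => congrArg Prod.snd (hw x)⟩

/-- Lifting along a closed ideal with topologically nilpotent powers into a complete ring. -/
theorem exists_lift_complete (hB : EGA41.IsFormallySmoothAdic A 𝔞 B 𝔟) {C : Type u} [CommRing C] [Algebra A C]
    (𝔠 : Ideal C) [IsAdicComplete 𝔠 C] (hAC : ∃ k : ℕ, (𝔞 ^ k).map (algebraMap A C) ≤ 𝔠)
    (J : Ideal C) (hJ : ∃ t : ℕ, J ^ t ≤ 𝔠) [IsHausdorff (𝔠.map (Ideal.Quotient.mk J)) (C ⧸ J)]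
    (u : B →ₐ[A] C ⧸ J) (hu : ∃ k : ℕ, (𝔟 ^ k).map u.toRingHom ≤ 𝔠.map (Ideal.Quotient.mk J)) :
    ∃ v : B →ₐ[A] C, (∃ k : ℕ, (𝔟 ^ k).map v.toRingHom ≤ 𝔠) ∧ (Ideal.Quotient.mkₐ A J).comp v = u := by
  classical
  obtain ⟨ka, hka⟩ := hAC
  obtain ⟨t, ht⟩ := hJ
  obtain ⟨k, hk⟩ := hu
  have hAn : ∀ n, ∃ l : ℕ, (𝔞 ^ l).map (algebraMap A (C ⧸ 𝔠 ^ n)) = ⊥ := fun n => ⟨ka * n, by
    rw [IsScalarTower.algebraMap_eq A C (C ⧸ 𝔠 ^ n), ← Ideal.map_map, pow_mul, Ideal.map_pow, Ideal.Quotient.algebraMap_eq,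
      Ideal.map_eq_bot_iff_le_ker, Ideal.mk_ker]
    exact Ideal.pow_right_mono hka n⟩
  let un : ∀ n, B →ₐ[A] C ⧸ (𝔠 ^ n ⊔ J) := fun n => (Ideal.Quotient.factorₐ A le_sup_right).comp u
  have hun : ∀ n, ∀ x ∈ 𝔟 ^ (k * n), un n x = 0 := fun n x hx => by
    obtain ⟨c, hc⟩ := Ideal.Quotient.mk_surjective (u x)
    rw [pow_mul] at hx
    have h1 := Ideal.mem_map_of_mem u.toRingHom hx
    rw [Ideal.map_pow] at h1
    have h2 := Ideal.pow_right_mono hk n h1
    rw [← Ideal.map_pow, show u.toRingHom x = Ideal.Quotient.mk J c from hc.symm, ← Ideal.mem_comap,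
      Ideal.comap_map_of_surjective _ Ideal.Quotient.mk_surjective, ← RingHom.ker_eq_comap_bot, Ideal.mk_ker] at h2
    show Ideal.Quotient.factor le_sup_right (u x) = 0
    rw [← hc, Ideal.Quotient.factor_mk, Ideal.Quotient.eq_zero_iff_mem]
    exact h2
  let P : ∀ n, (B →ₐ[A] C ⧸ 𝔠 ^ n) → Prop := fun n f =>
    (∀ x, Ideal.Quotient.factor (le_sup_left : 𝔠 ^ n ≤ 𝔠 ^ n ⊔ J) (f x) = un n x) ∧
      ∃ l : ℕ, ∀ x ∈ 𝔟 ^ l, f x = 0
  have base : ∀ n, n ≤ 1 → ∃ f, P n f := fun n hn => by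
    refine exists_lift_top hB (Ideal.Quotient.factorₐ A le_sup_left) (Ideal.Quotient.factor_surjective le_sup_left)
      ⟨t, ?_⟩ (hAn n) (un n) ⟨_, hun n⟩
    rw [show RingHom.ker (Ideal.Quotient.factorₐ A (le_sup_left : 𝔠 ^ n ≤ 𝔠 ^ n ⊔ J)) =
      RingHom.ker (Ideal.Quotient.factor (le_sup_left : 𝔠 ^ n ≤ 𝔠 ^ n ⊔ J)) from rfl, Ideal.Quotient.factor_ker,
      Ideal.map_sup, Ideal.map_quotient_self, bot_sup_eq, ← Ideal.map_pow, Ideal.zero_eq_bot,
      Ideal.map_eq_bot_iff_le_ker, Ideal.mk_ker]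
    interval_cases n
    · simp
    · simpa using ht
  have step : ∀ n, 1 ≤ n → ∀ f, P n f → ∃ f', P (n + 1) f' ∧
      ∀ x, Ideal.Quotient.factor (Ideal.pow_le_pow_right n.le_succ) (f' x) = f x := by
    rintro n hn f ⟨hf, l, hl⟩
    have hle : 𝔠 ^ (n + 1) ≤ 𝔠 ^ n := Ideal.pow_le_pow_right n.le_succ
    have hsup : (𝔠 ^ (n + 1) ⊔ J) ⊔ 𝔠 ^ n = 𝔠 ^ n ⊔ J := by
      rw [sup_right_comm, sup_eq_right.mpr hle]
    obtain ⟨w, hwI, hwK⟩ := exists_quotient_inf (𝔠 ^ (n + 1) ⊔ J) (𝔠 ^ n) (un (n + 1)) f fun x => by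
      obtain ⟨a, ha⟩ := Ideal.Quotient.mk_surjective (u x)
      obtain ⟨b, hb⟩ := Ideal.Quotient.mk_surjective (f x)
      have h3 := hf x
      have hu' : ∀ m, un m x = Ideal.Quotient.mk _ a := fun m => by
        show Ideal.Quotient.factor le_sup_right (u x) = _
        rw [← ha, Ideal.Quotient.factor_mk]
      rw [hu', ← hb, Ideal.Quotient.factor_mk, Ideal.Quotient.eq] at h3
      rw [hu', ← hb, Ideal.Quotient.factor_mk, Ideal.Quotient.factor_mk, Ideal.Quotient.eq, hsup, ← neg_sub]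
      exact neg_mem h3
    have hle' : 𝔠 ^ (n + 1) ≤ (𝔠 ^ (n + 1) ⊔ J) ⊓ 𝔠 ^ n := le_inf le_sup_left hle
    obtain ⟨χ, hχ, hχ'⟩ := exists_lift_top hB (Ideal.Quotient.factorₐ A hle') (Ideal.Quotient.factor_surjective hle')
      ⟨2, by
        rw [show RingHom.ker (Ideal.Quotient.factorₐ A hle') = RingHom.ker (Ideal.Quotient.factor hle') from rfl,
          Ideal.Quotient.factor_ker, ← Ideal.map_pow, Ideal.zero_eq_bot, Ideal.map_eq_bot_iff_le_ker, Ideal.mk_ker]
        refine (Ideal.pow_right_mono inf_le_right 2).trans ?_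
        rw [← pow_mul]
        exact Ideal.pow_le_pow_right (by omega)⟩
      (hAn (n + 1)) w (by
        refine ⟨max l (k * (n + 1)), fun x hx => ?_⟩
        obtain ⟨c, hc⟩ := Ideal.Quotient.mk_surjective (w x)
        have e1 := hwI x
        have e2 := hwK x
        rw [hun (n + 1) x (Ideal.pow_le_pow_right (le_max_right _ _) hx), ← hc, Ideal.Quotient.factor_mk,
          Ideal.Quotient.eq_zero_iff_mem] at e1
        rw [hl x (Ideal.pow_le_pow_right (le_max_left _ _) hx), ← hc, Ideal.Quotient.factor_mk,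
          Ideal.Quotient.eq_zero_iff_mem] at e2
        rw [← hc, Ideal.Quotient.eq_zero_iff_mem]
        exact ⟨e1, e2⟩)
    refine ⟨χ, ⟨fun x => ?_, hχ'⟩, fun x => ?_⟩
    · obtain ⟨c, hc⟩ := Ideal.Quotient.mk_surjective (χ x)
      rw [← hwI x, ← hχ x, ← hc]
      rfl
    · obtain ⟨c, hc⟩ := Ideal.Quotient.mk_surjective (χ x)
      rw [← hwK x, ← hχ x, ← hc]
      rfl
  obtain ⟨f₁, hf₁⟩ := base 1 le_rfl
  choose g hgP hgc using step
  let seq : ∀ m : ℕ, {f : B →ₐ[A] C ⧸ 𝔠 ^ (m + 1) // P (m + 1) f} := fun m =>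
    Nat.rec ⟨f₁, hf₁⟩ (fun m f => ⟨g (m + 1) (Nat.le_add_left 1 m) f.1 f.2, hgP _ _ f.1 f.2⟩) m
  let f : ∀ n, B →ₐ[A] C ⧸ 𝔠 ^ n := fun n =>
    (Ideal.Quotient.factorₐ A (Ideal.pow_le_pow_right n.le_succ)).comp (seq n).1
  have hf : ∀ {m n : ℕ} (hle : m ≤ n),
      (Ideal.Quotient.factorₐ A (Ideal.pow_le_pow_right hle)).comp (f n) = f m := by
    have key : ∀ m n, m ≤ n → ∀ h : 𝔠 ^ (n + 1) ≤ 𝔠 ^ (m + 1), ∀ x,
        Ideal.Quotient.factor h ((seq n).1 x) = (seq m).1 x := by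
      intro m n hmn
      induction n, hmn using Nat.le_induction with
      | base =>
        intro h x
        obtain ⟨c, hc⟩ := Ideal.Quotient.mk_surjective ((seq m).1 x)
        rw [← hc]
        rfl
      | succ n hmn ih =>
        intro h x
        rw [← ih (Ideal.pow_le_pow_right (by omega)) x,
          ← hgc (n + 1) (Nat.le_add_left 1 n) (seq n).1 (seq n).2 x]
        obtain ⟨c, hc⟩ := Ideal.Quotient.mk_surjective ((seq (n + 1)).1 x)
        show _ = Ideal.Quotient.factor _ (Ideal.Quotient.factor _ ((seq (n + 1)).1 x))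
        rw [← hc]
        rfl
    intro m n hle
    refine AlgHom.ext fun x => ?_
    show Ideal.Quotient.factor (Ideal.pow_le_pow_right hle) (Ideal.Quotient.factor (Ideal.pow_le_pow_right n.le_succ)
      ((seq n).1 x)) = Ideal.Quotient.factor (Ideal.pow_le_pow_right m.le_succ) ((seq m).1 x)
    rw [← key m n hle (Ideal.pow_le_pow_right (by omega)) x]
    obtain ⟨c, hc⟩ := Ideal.Quotient.mk_surjective ((seq n).1 x)
    rw [← hc]
    rfl
  refine ⟨IsAdicComplete.liftAlgHom 𝔠 f hf, ?_, AlgHom.ext fun x => ?_⟩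
  · obtain ⟨l, hl⟩ := (seq 1).2.2
    refine ⟨l, Ideal.map_le_iff_le_comap.mpr fun x hx => ?_⟩
    have h := IsAdicComplete.mk_liftAlgHom 𝔠 f hf 1 x
    rw [show f 1 x = Ideal.Quotient.factor (Ideal.pow_le_pow_right (Nat.le_succ 1)) ((seq 1).1 x) from rfl, hl x hx, map_zero,
      Ideal.Quotient.eq_zero_iff_mem, pow_one] at h
    exact h
  · obtain ⟨a, ha⟩ := Ideal.Quotient.mk_surjective (u x)
    show Ideal.Quotient.mk J (IsAdicComplete.liftAlgHom 𝔠 f hf x) = u x
    rw [← ha, ← sub_eq_zero]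
    refine IsHausdorff.haus ‹IsHausdorff (𝔠.map (Ideal.Quotient.mk J)) (C ⧸ J)› _ fun n => ?_
    rw [SModEq.zero, smul_eq_mul, Ideal.mul_top, ← map_sub, ← Ideal.map_pow, ← Ideal.mem_comap,
      Ideal.comap_map_of_surjective _ Ideal.Quotient.mk_surjective, ← RingHom.ker_eq_comap_bot, Ideal.mk_ker]
    have h := (seq n).2.1 x
    obtain ⟨c, hc⟩ := Ideal.Quotient.mk_surjective ((seq n).1 x)
    rw [show un (n + 1) x = Ideal.Quotient.mk (𝔠 ^ (n + 1) ⊔ J) a by
      show Ideal.Quotient.factor le_sup_right (u x) = _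
      rw [← ha, Ideal.Quotient.factor_mk], ← hc, Ideal.Quotient.factor_mk, Ideal.Quotient.eq] at h
    have h' := IsAdicComplete.mk_liftAlgHom 𝔠 f hf n x
    rw [show f n x = Ideal.Quotient.factor (Ideal.pow_le_pow_right n.le_succ) ((seq n).1 x) from rfl, ← hc, Ideal.Quotient.factor_mk,
      Ideal.Quotient.eq] at h'
    rw [← sub_add_sub_cancel _ c a]
    exact add_mem (Ideal.mem_sup_left h') (sup_le_sup_right (Ideal.pow_le_pow_right n.le_succ) J h)

/-- Nakayama for a nilpotent ideal. -/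
theorem eq_top_of_sup_smul_top {R X : Type u} [CommRing R] [AddCommGroup X] [Module R X] {m : Ideal R}
    (hm : IsNilpotent m) (N : Submodule R X) (hN : N ⊔ m • ⊤ = ⊤) : N = ⊤ := by
  obtain ⟨n, hn⟩ := hm
  have : ∀ j, N ⊔ m ^ j • ⊤ = ⊤ := fun j => by
    induction j with
    | zero => simp
    | succ j ih =>
      refine le_antisymm le_top ?_
      conv_lhs => rw [← ih]
      refine sup_le le_sup_left ?_
      conv_lhs => rw [← hN]
      rw [Submodule.smul_sup, pow_succ, Submodule.mul_smul]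
      exact sup_le (Submodule.smul_le_right.trans le_sup_left) le_sup_right
  have := this n
  rwa [show m ^ n = ⊥ from hn, Submodule.bot_smul, sup_bot_eq] at this

theorem eq_zero_of_forall_mem_smul {R X : Type u} [CommRing R] [AddCommGroup X] [Module R X] {m : Ideal R}
    (hm : IsNilpotent m) (h : ∀ x : X, x ∈ (m • ⊤ : Submodule R X)) (x : X) : x = 0 := by
  have hb := eq_top_of_sup_smul_top hm (⊥ : Submodule R X) (le_antisymm le_top fun y _ => Submodule.mem_sup_right (h y))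
  exact (Submodule.mem_bot R).mp (hb ▸ Submodule.mem_top)

/-- A projective module over a local ring with nilpotent maximal ideal is free. -/
theorem free_of_projective_of_isNilpotent {R M : Type u} [CommRing R] [IsLocalRing R] [AddCommGroup M] [Module R M]
    [Module.Projective R M] (h : IsNilpotent (IsLocalRing.maximalIdeal R)) : Module.Free R M := by
  classical
  let m := IsLocalRing.maximalIdeal R
  letI : Field (R ⧸ m) := Ideal.Quotient.field m
  obtain ⟨⟨ι, b⟩⟩ := Module.Free.exists_basis (R := R ⧸ m) (M := M ⧸ (m • ⊤ : Submodule R M))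
  choose v hv using fun i => Submodule.Quotient.mk_surjective _ (b i)
  let φ : (ι →₀ R) →ₗ[R] M := Finsupp.linearCombination R v
  have hφ : Function.Surjective φ := by
    rw [← LinearMap.range_eq_top]
    refine eq_top_of_sup_smul_top h _ (le_antisymm le_top fun x _ => ?_)
    have hspan : Submodule.mkQ (m • ⊤ : Submodule R M) x ∈
        Submodule.span R (Set.range fun i => Submodule.mkQ (m • ⊤ : Submodule R M) (v i)) := by
      have h1 := b.span_eq.ge (Submodule.mem_top (x := Submodule.mkQ (m • ⊤ : Submodule R M) x))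
      rw [← Submodule.restrictScalars_mem R, Submodule.restrictScalars_span R (R ⧸ m) Ideal.Quotient.mk_surjective] at h1
      simpa only [Submodule.mkQ_apply, hv] using h1
    rw [show (fun i => Submodule.mkQ (m • ⊤ : Submodule R M) (v i)) = Submodule.mkQ _ ∘ v from rfl, Set.range_comp,
      ← Submodule.map_span, ← Submodule.mem_comap, Submodule.comap_map_mkQ] at hspan
    rw [Finsupp.range_linearCombination, sup_comm]
    exact hspan
  obtain ⟨σ, hσ⟩ := Module.projective_lifting_property φ LinearMap.id hφ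
  have hσ' : ∀ y, φ (σ y) = y := fun y => LinearMap.congr_fun hσ y
  have hker : ∀ z, φ z ∈ (m • ⊤ : Submodule R M) → ∀ i, z i ∈ m := fun z hz i => by
    have h1 : Submodule.mkQ (m • ⊤ : Submodule R M) (φ z) = 0 := (Submodule.Quotient.mk_eq_zero _).mpr hz
    rw [Finsupp.linearCombination_apply, map_finsuppSum] at h1
    have h2 : Finsupp.linearCombination (R ⧸ m) b (z.mapRange (Ideal.Quotient.mk m) (map_zero _)) = 0 := by
      rw [Finsupp.linearCombination_apply, Finsupp.sum_mapRange_index (by simp), ← h1]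
      refine Finsupp.sum_congr fun i _ => ?_
      rw [map_smul, Submodule.mkQ_apply, hv]
      rfl
    have h3 := DFunLike.congr_fun (linearIndependent_iff.mp b.linearIndependent _ h2) i
    rw [Finsupp.mapRange_apply, Finsupp.zero_apply, Ideal.Quotient.eq_zero_iff_mem] at h3
    exact h3
  have hinj : Function.Injective φ := by
    rw [injective_iff_map_eq_zero]
    intro y hy
    let e : (ι →₀ R) →ₗ[R] (ι →₀ R) := LinearMap.id - σ.comp φ
    have he : ∀ z, e z ∈ (m • ⊤ : Submodule R (ι →₀ R)) := fun z => by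
      rw [← Finsupp.sum_single (e z)]
      refine Submodule.sum_mem _ fun i _ => ?_
      rw [show Finsupp.single i (e z i) = e z i • Finsupp.single i 1 by simp]
      refine Submodule.smul_mem_smul (hker _ ?_ i) Submodule.mem_top
      rw [show φ (e z) = φ (z - σ (φ z)) from rfl, map_sub, hσ', sub_self]
      exact zero_mem _
    have hey : e y = y := by
      show y - σ (φ y) = y
      rw [hy, map_zero, sub_zero]
    have hall : ∀ j, y ∈ (m ^ j • ⊤ : Submodule R (ι →₀ R)) := fun j => by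
      induction j with
      | zero => simp
      | succ j ih =>
        have h3 : e y ∈ (m ^ j • ⊤ : Submodule R (ι →₀ R)).map e := Submodule.mem_map_of_mem ih
        rw [hey, Submodule.map_smul'', Submodule.map_top] at h3
        have h4 := Submodule.smul_mono (le_refl (m ^ j)) (show LinearMap.range e ≤ (m • ⊤ : Submodule R (ι →₀ R)) from
          fun _ ⟨z, hz⟩ => hz ▸ he z) h3
        rwa [← Submodule.mul_smul, ← pow_succ] at h4
    obtain ⟨n, hn⟩ := h
    have := hall n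
    rw [show m ^ n = ⊥ from hn, Submodule.bot_smul, Submodule.mem_bot] at this
    exact this
  exact Module.Free.of_equiv (LinearEquiv.ofBijective φ ⟨hinj, hφ⟩)

section completion

variable [IsNoetherianRing B]

theorem map_completion_pow_eq_ker (n : ℕ) :
    (𝔟.map (algebraMap B (AdicCompletion 𝔟 B))) ^ n = RingHom.ker (AdicCompletion.evalₐ 𝔟 n) := by
  apply Submodule.restrictScalars_injective B
  have h := AdicCompletion.pow_smul_top_eq_ker_eval (I := 𝔟) (M := B) (n := n) (IsNoetherian.noetherian 𝔟)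
  rw [← Ideal.map_pow, ← Ideal.smul_top_eq_map]
  exact h.trans (Submodule.ext fun x => by
    show AdicCompletion.eval 𝔟 B n x = 0 ↔ AdicCompletion.evalₐ 𝔟 n x = 0
    rw [← AdicCompletion.factor_eval_eq_evalₐ 𝔟 x (le_of_eq (Ideal.mul_top _))]
    obtain ⟨c, hc⟩ := Submodule.Quotient.mk_surjective _ (AdicCompletion.eval 𝔟 B n x)
    rw [← hc]
    erw [Submodule.mapQ_apply]
    erw [Submodule.Quotient.mk_eq_zero, Submodule.Quotient.mk_eq_zero]
    rw [smul_eq_mul, Ideal.mul_top]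
    rfl)

theorem formallySmoothAdic_completion_iff :
    EGA41.IsFormallySmoothAdic A 𝔞 B 𝔟 ↔
      EGA41.IsFormallySmoothAdic A 𝔞 (AdicCompletion 𝔟 B) (𝔟.map (algebraMap B (AdicCompletion 𝔟 B))) := by
  let ι : B →ₐ[A] AdicCompletion 𝔟 B := IsScalarTower.toAlgHom A B _
  have hev : ∀ n b, AdicCompletion.evalₐ 𝔟 n (ι b) = Ideal.Quotient.mk (𝔟 ^ n) b := fun n b =>
    (AdicCompletion.evalₐ 𝔟 n).commutes b
  constructor
  · intro h E _ _ J hJ hE u hu
    obtain ⟨k, hk⟩ := hu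
    obtain ⟨v, hv⟩ := h E J hJ hE (u.comp ι) ⟨k, fun x hx => hk _ (by
      rw [← Ideal.map_pow]
      exact Ideal.mem_map_of_mem _ hx)⟩
    obtain ⟨l, hl⟩ := exists_pow_kill v.toRingHom hJ (k := k) fun x hx => by
      rw [← Ideal.Quotient.eq_zero_iff_mem]
      exact (DFunLike.congr_fun hv x).trans (hk _ (by
        rw [← Ideal.map_pow]
        exact Ideal.mem_map_of_mem _ hx))
    let l' := max l k
    let vb : (B ⧸ 𝔟 ^ l') →ₐ[A] E := Ideal.Quotient.liftₐ _ v fun x hx => hl x (Ideal.pow_le_pow_right (le_max_left l k) hx)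
    refine ⟨vb.comp ((AdicCompletion.evalₐ 𝔟 l').restrictScalars A), AlgHom.ext fun z => ?_⟩
    obtain ⟨b, hb⟩ := Ideal.Quotient.mk_surjective (AdicCompletion.evalₐ 𝔟 l' z)
    have hz : z - ι b ∈ (𝔟.map (algebraMap B (AdicCompletion 𝔟 B))) ^ l' := by
      rw [map_completion_pow_eq_ker, RingHom.mem_ker, map_sub, hev, hb, sub_self]
    have h1 := hk _ (Ideal.pow_le_pow_right (le_max_right l k) hz)
    rw [map_sub, sub_eq_zero] at h1
    show Ideal.Quotient.mk J (vb (AdicCompletion.evalₐ 𝔟 l' z)) = u z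
    rw [h1, ← hb]
    exact DFunLike.congr_fun hv b
  · intro h E _ _ J hJ hE u hu
    obtain ⟨k, hk⟩ := hu
    let ub : (B ⧸ 𝔟 ^ k) →ₐ[A] E ⧸ J := Ideal.Quotient.liftₐ _ u hk
    obtain ⟨v, hv⟩ := h E J hJ hE (ub.comp ((AdicCompletion.evalₐ 𝔟 k).restrictScalars A))
      ⟨k, fun z hz => by
        rw [map_completion_pow_eq_ker, RingHom.mem_ker] at hz
        show ub (AdicCompletion.evalₐ 𝔟 k z) = 0
        rw [hz, map_zero]⟩
    refine ⟨v.comp ι, AlgHom.ext fun b => ?_⟩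
    have h1 : Ideal.Quotient.mk J (v (ι b)) = ub (AdicCompletion.evalₐ 𝔟 k (ι b)) := DFunLike.congr_fun hv (ι b)
    rw [hev] at h1
    exact h1

end completion

end Groth.Agent.PP16Lib

end
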