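import Groth.Agent.PP16Lib.AdicSmoothConv
import Mathlib.RingTheory.Kaehler.Basic
import Mathlib.LinearAlgebra.TensorProduct.RightExactness
import Mathlib.RingTheory.Nilpotent.Basic

/-!
Differentials and adic formal smoothness: extension of derivations, projectivity, relative criteria.
-/

set_option autoImplicit false
set_option linter.unusedSectionVars false

universe u v

open scoped TensorProduct
open KaehlerDifferential

noncomputable section

namespace Groth.Agent.PP16Lib

/-- Lifting along a square-zero surjection, with the structure map of the test ring given explicitly. -/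
theorem exists_lift_ringHom {A B : Type u} [CommRing A] [CommRing B] [Algebra A B] {J : Ideal B}
    (hS : CAlgX.IsAdicFormallySmooth A B J) {E E' : Type u} [CommRing E] [CommRing E'] (φ : A →+* E)
    (π : E →+* E') (hπ : Function.Surjective π) (hπ2 : RingHom.ker π ^ 2 = ⊥) (ψ : B →+* E')
    (hc : ∀ a, ψ (algebraMap A B a) = π (φ a)) {k : ℕ} (hk : ∀ x ∈ J ^ k, ψ x = 0) :
    ∃ χ : B →+* E, (∀ a, χ (algebraMap A B a) = φ a) ∧ ∀ b, π (χ b) = ψ b := by
  letI : Algebra A E := φ.toAlgebra
  letI : Algebra A E' := (π.comp φ).toAlgebra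
  let π' : E →ₐ[A] E' := { π with commutes' := fun _ => rfl }
  let ψ' : B →ₐ[A] E' := { ψ with commutes' := hc }
  obtain ⟨χ, hχ, -⟩ := exists_lift_of_surjective hS π' hπ (m := 2)
    (fun L hL => le_bot_iff.mp ((Ideal.pow_right_mono (fun x hx => hL x hx) 2).trans hπ2.le)) ψ' hk
  exact ⟨χ.toRingHom, χ.commutes, hχ⟩

/-- Formal smoothness composes with adic formal smoothness. -/
theorem adicSmooth_comp {Λ A B : Type u} [CommRing Λ] [CommRing A] [CommRing B] [Algebra Λ A] [Algebra A B]
    [Algebra Λ B] [IsScalarTower Λ A B] {J : Ideal B} [Algebra.FormallySmooth Λ A]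
    (hS : CAlgX.IsAdicFormallySmooth A B J) : CAlgX.IsAdicFormallySmooth Λ B J := by
  intro E _ _ N hN ψ hψ
  obtain ⟨k, hk⟩ := hψ
  let φ := Algebra.FormallySmooth.lift N ⟨2, hN⟩ (ψ.comp (IsScalarTower.toAlgHom Λ A B))
  obtain ⟨χ, h1, h2⟩ := exists_lift_ringHom hS φ.toRingHom (Ideal.Quotient.mk N) Ideal.Quotient.mk_surjective
    (by rw [Ideal.mk_ker, hN]) ψ.toRingHom (fun a => (Algebra.FormallySmooth.mk_lift N ⟨2, hN⟩ (ψ.comp (IsScalarTower.toAlgHom Λ A B)) a).symm) hk
  have hc : ∀ l, χ (algebraMap Λ B l) = algebraMap Λ E l := fun l => by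
    rw [IsScalarTower.algebraMap_apply Λ A B, h1]
    exact φ.commutes l
  exact ⟨{ χ with commutes' := hc }, AlgHom.ext h2⟩

section derivation

variable {Λ : Type v} {A B : Type u} [CommRing Λ] [CommRing A] [CommRing B] [Algebra Λ A] [Algebra A B]
  [Algebra Λ B] [IsScalarTower Λ A B] {J : Ideal B}
  {Q : Type u} [CommRing Q] [Algebra B Q]
  {M M' : Type u} [AddCommGroup M] [AddCommGroup M'] [Module Q M] [Module Q M'] [Module B M] [Module B M']
  [IsScalarTower B Q M] [IsScalarTower B Q M'] [Module A M] [IsScalarTower A B M]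
  [Module Λ M] [IsScalarTower Λ B M] [Module Λ M'] [IsScalarTower Λ B M'] [IsScalarTower Λ A M]

theorem exists_derivation (hS : CAlgX.IsAdicFormallySmooth A B J) {k : ℕ}
    (hQ : ∀ x ∈ J ^ k, algebraMap B Q x = 0) (p : M →ₗ[Q] M') (hp : Function.Surjective p)
    (D : Derivation Λ A M) (d' : Derivation Λ B M') (hc : ∀ a, p (D a) = d' (algebraMap A B a)) :
    ∃ d : Derivation Λ B M, (∀ a, d (algebraMap A B a) = D a) ∧ ∀ b, p (d b) = d' b := by
  letI : Module Qᵐᵒᵖ M := Module.compHom _ ((RingHom.id Q).fromOpposite fun _ _ => Commute.all _ _)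
  haveI : IsCentralScalar Q M := ⟨fun _ _ => rfl⟩
  letI : Module Qᵐᵒᵖ M' := Module.compHom _ ((RingHom.id Q).fromOpposite fun _ _ => Commute.all _ _)
  haveI : IsCentralScalar Q M' := ⟨fun _ _ => rfl⟩
  let π : TrivSqZeroExt Q M →+* TrivSqZeroExt Q M' := (TrivSqZeroExt.map p).toRingHom
  have hπ : Function.Surjective π := fun y => by
    obtain ⟨m, hm⟩ := hp y.snd
    exact ⟨TrivSqZeroExt.inl y.fst + TrivSqZeroExt.inr m, TrivSqZeroExt.ext (by simp [π]) (by simp [π, hm])⟩
  have hπ2 : RingHom.ker π ^ 2 = ⊥ := by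
    rw [eq_bot_iff, pow_two, Ideal.mul_le]
    intro a ha b hb
    have fa : a.fst = 0 := by simpa [π] using congrArg TrivSqZeroExt.fst (RingHom.mem_ker.mp ha)
    have fb : b.fst = 0 := by simpa [π] using congrArg TrivSqZeroExt.fst (RingHom.mem_ker.mp hb)
    rw [Ideal.mem_bot]
    exact TrivSqZeroExt.ext (by simp [fa, fb]) (by simp [fa, fb])
  let φ : A →+* TrivSqZeroExt Q M :=
    { toFun := fun a => TrivSqZeroExt.inl (algebraMap B Q (algebraMap A B a)) + TrivSqZeroExt.inr (D a)
      map_one' := by simp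
      map_mul' := fun a b => TrivSqZeroExt.ext (by simp) (by simp [op_smul_eq_smul, algebraMap_smul])
      map_zero' := by simp
      map_add' := fun a b => TrivSqZeroExt.ext (by simp) (by simp) }
  let ψ : B →+* TrivSqZeroExt Q M' :=
    { toFun := fun b => TrivSqZeroExt.inl (algebraMap B Q b) + TrivSqZeroExt.inr (d' b)
      map_one' := by simp
      map_mul' := fun a b => TrivSqZeroExt.ext (by simp) (by simp [op_smul_eq_smul, algebraMap_smul])
      map_zero' := by simp
      map_add' := fun a b => TrivSqZeroExt.ext (by simp) (by simp) }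
  have hd' : ∀ x ∈ J ^ (k + k), d' x = 0 := fun x hx => by
    rw [pow_add] at hx
    refine Submodule.mul_induction_on hx (fun a ha b hb => ?_) fun a b ha hb => by rw [map_add, ha, hb, add_zero]
    rw [Derivation.leibniz, ← algebraMap_smul Q a, ← algebraMap_smul Q b, hQ a ha, hQ b hb, zero_smul, zero_smul,
      add_zero]
  obtain ⟨χ, h1, h2⟩ := exists_lift_ringHom hS φ π hπ hπ2 ψ
    (fun a => TrivSqZeroExt.ext (by simp [π, φ, ψ]) (by simp [π, φ, ψ, hc]))
    (k := k + k) fun x hx => TrivSqZeroExt.ext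
      (by simp [ψ, hQ x (Ideal.pow_le_pow_right (Nat.le_add_right k k) hx)]) (by simp [ψ, hd' x hx])
  have hfst : ∀ b, (χ b).fst = algebraMap B Q b := fun b => by
    simpa [π, ψ] using congrArg TrivSqZeroExt.fst (h2 b)
  have hA : ∀ a, (χ (algebraMap A B a)).snd = D a := fun a => by simp [h1, φ]
  let d : B →ₗ[Λ] M :=
    { toFun := fun b => (χ b).snd
      map_add' := fun a b => by simp
      map_smul' := fun l b => by
        show (χ (l • b)).snd = l • (χ b).snd
        rw [Algebra.smul_def, map_mul, TrivSqZeroExt.snd_mul, hfst, hfst, op_smul_eq_smul,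
          IsScalarTower.algebraMap_apply Λ A B, hA, Derivation.map_algebraMap, smul_zero, add_zero,
          algebraMap_smul, ← IsScalarTower.algebraMap_apply, algebraMap_smul] }
  refine ⟨Derivation.mk' d fun a b => ?_, hA, fun b => ?_⟩
  · show (χ (a * b)).snd = a • (χ b).snd + b • (χ a).snd
    rw [map_mul, TrivSqZeroExt.snd_mul, hfst, hfst, op_smul_eq_smul, algebraMap_smul, algebraMap_smul]
  · show p (χ b).snd = d' b
    simpa [π, ψ] using congrArg TrivSqZeroExt.snd (h2 b)

end derivation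

/-- Lifting out of projective modules over a quotient ring. -/
theorem exists_lift_projective {B : Type u} [CommRing B] (I : Ideal B) {P : Type u} [AddCommGroup P]
    [Module (B ⧸ I) P] [Module B P] [IsScalarTower B (B ⧸ I) P] [Module.Projective (B ⧸ I) P]
    {M M' : Type u} [AddCommGroup M] [AddCommGroup M'] [Module B M] [Module B M']
    (hM : ∀ x ∈ I, ∀ m : M, x • m = 0) (p : M →ₗ[B] M') (hp : Function.Surjective p) (f : P →ₗ[B] M') :
    ∃ g : P →ₗ[B] M, p.comp g = f := by
  classical
  obtain ⟨Λ, i, r, hr⟩ := exists_split (B ⧸ I) P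
  choose m hm using fun a => hp (f (r (Finsupp.single a 1)))
  let G : (Λ →₀ B ⧸ I) →ₗ[B] M :=
    Finsupp.lsum B fun a => Submodule.liftQ I (LinearMap.toSpanSingleton B M (m a)) fun x hx => by
      rw [LinearMap.mem_ker, LinearMap.toSpanSingleton_apply]
      exact hM x hx _
  have hG : ∀ z, p (G z) = f (r z) := fun z => by
    induction z using Finsupp.induction_linear with
    | zero => simp
    | add x y hx hy => simp only [map_add, hx, hy]
    | single a c =>
      obtain ⟨b, rfl⟩ := Ideal.Quotient.mk_surjective c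
      have e : Finsupp.single a (Ideal.Quotient.mk I b) = b • Finsupp.single a (1 : B ⧸ I) := by
        rw [Finsupp.smul_single, ← Algebra.algebraMap_eq_smul_one]
        rfl
      rw [e, map_smul G, map_smul p, LinearMap.map_smul_of_tower r, map_smul f, ← hm]
      congr 2
      show G (Finsupp.single a (1 : B ⧸ I)) = m a
      simp only [G, Finsupp.lsum_single]
      show LinearMap.toSpanSingleton B M (m a) 1 = m a
      simp
  refine ⟨G.comp (i.restrictScalars B), LinearMap.ext fun y => ?_⟩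
  show p (G (i y)) = f y
  rw [hG]
  exact congrArg f (LinearMap.congr_fun hr y)

section omega

variable {A B : Type u} [CommRing A] [CommRing B] [Algebra A B] {J : Ideal B}

/-- `Ω ⊗ B/J^k` is projective for an adically formally smooth algebra. -/
theorem projective_tensor_omega (hS : CAlgX.IsAdicFormallySmooth A B J) (I : Ideal B) {k : ℕ} (hI : J ^ k ≤ I) :
    Module.Projective (B ⧸ I) ((B ⧸ I) ⊗[B] KaehlerDifferential A B) := by
  classical
  let M := (((B ⧸ I) ⊗[B] KaehlerDifferential A B) →₀ B ⧸ I)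
  let p : M →ₗ[B ⧸ I] (B ⧸ I) ⊗[B] KaehlerDifferential A B := Finsupp.linearCombination (B ⧸ I) id
  have hps : Function.Surjective p := fun y => ⟨Finsupp.single y 1, by
    show Finsupp.linearCombination (B ⧸ I) id (Finsupp.single y 1) = y
    rw [Finsupp.linearCombination_single, one_smul]
    rfl⟩
  let d' : Derivation A B ((B ⧸ I) ⊗[B] KaehlerDifferential A B) :=
    (TensorProduct.mk B (B ⧸ I) (KaehlerDifferential A B) 1).compDer (KaehlerDifferential.D A B)
  obtain ⟨d, -, hd⟩ := exists_derivation (Λ := A) (A := A) hS (Q := B ⧸ I)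
    (fun x hx => Ideal.Quotient.eq_zero_iff_mem.mpr (hI hx)) p hps 0 d'
    fun a => by
      rw [Derivation.map_algebraMap, Derivation.zero_apply, map_zero]
  refine Module.Projective.of_split (d.liftKaehlerDifferential.liftBaseChange (B ⧸ I)) p
    (TensorProduct.AlgebraTensorModule.ext fun c w => ?_)
  induction (KaehlerDifferential.span_range_derivation A B).ge (Submodule.mem_top (x := w)) using
    Submodule.span_induction with
  | mem w hw =>
    obtain ⟨b, rfl⟩ := hw
    rw [LinearMap.comp_apply, LinearMap.liftBaseChange_tmul, map_smul, Derivation.liftKaehlerDifferential_comp_D,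
      hd]
    show c • ((1 : B ⧸ I) ⊗ₜ[B] KaehlerDifferential.D A B b) = _
    rw [TensorProduct.smul_tmul', smul_eq_mul, mul_one]
    rfl
  | zero => simp
  | add x y _ _ hx hy => rw [TensorProduct.tmul_add, map_add, map_add, hx, hy]
  | smul b x _ hx => rw [TensorProduct.tmul_smul, LinearMap.map_smul_of_tower, LinearMap.map_smul_of_tower, hx]

end omega

section relative

variable {Λ A B : Type u} [CommRing Λ] [CommRing A] [CommRing B] [Algebra Λ A] [Algebra A B]
  [Algebra Λ B] [IsScalarTower Λ A B] {J : Ideal B}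

theorem injective_of_adicSmooth {Λ : Type v} [CommRing Λ] [Algebra Λ A] [Algebra Λ B] [IsScalarTower Λ A B]
    (hS : CAlgX.IsAdicFormallySmooth A B J) :
    Function.Injective ((mapBaseChange Λ A B).lTensor (B ⧸ J)) := by
  let Y := (B ⧸ J) ⊗[B] (B ⊗[A] KaehlerDifferential Λ A)
  let inc : KaehlerDifferential Λ A →ₗ[A] Y :=
    ((TensorProduct.mk B (B ⧸ J) (B ⊗[A] KaehlerDifferential Λ A) 1).restrictScalars A).comp
      (TensorProduct.mk A B (KaehlerDifferential Λ A) 1)
  let D : Derivation Λ A Y := inc.compDer (KaehlerDifferential.D Λ A)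
  obtain ⟨d, hd, -⟩ := exists_derivation hS (Q := B ⧸ J) (k := 1)
    (fun x hx => Ideal.Quotient.eq_zero_iff_mem.mpr (by simpa using hx))
    (0 : Y →ₗ[B ⧸ J] PUnit.{u + 1}) (fun y => ⟨0, Subsingleton.elim _ _⟩) D 0 fun a => Subsingleton.elim _ _
  let v : (B ⧸ J) ⊗[B] KaehlerDifferential Λ B →ₗ[B] Y :=
    (d.liftKaehlerDifferential.liftBaseChange (B ⧸ J)).restrictScalars B
  refine Function.LeftInverse.injective (g := v) fun y => ?_
  induction y using TensorProduct.induction_on with
  | zero => simp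
  | add a b ha hb => rw [map_add, map_add, ha, hb]
  | tmul c w =>
    induction w using TensorProduct.induction_on with
    | zero => simp
    | add a b ha hb => rw [TensorProduct.tmul_add, map_add, map_add, ha, hb]
    | tmul b w =>
      induction (KaehlerDifferential.span_range_derivation Λ A).ge (Submodule.mem_top (x := w)) using
        Submodule.span_induction generalizing b with
      | mem w hw =>
        obtain ⟨a, rfl⟩ := hw
        rw [LinearMap.lTensor_tmul, KaehlerDifferential.mapBaseChange_tmul, KaehlerDifferential.map_D,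
          TensorProduct.tmul_smul, map_smul]
        simp only [v, LinearMap.coe_restrictScalars, LinearMap.liftBaseChange_tmul,
          Derivation.liftKaehlerDifferential_comp_D, hd]
        show b • c • ((1 : B ⧸ J) ⊗ₜ[B] ((1 : B) ⊗ₜ[A] KaehlerDifferential.D Λ A a)) = _
        rw [TensorProduct.smul_tmul', smul_eq_mul, mul_one, ← TensorProduct.tmul_smul, TensorProduct.smul_tmul',
          smul_eq_mul, mul_one]
      | zero => simp
      | add x y _ _ hx hy => simp only [TensorProduct.tmul_add, map_add, hx, hy]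
      | smul a x _ hx => rw [← TensorProduct.smul_tmul]; exact hx _

variable (Λ A B J) in
/-- The reduction `B/J^k ⊗ X → B/J ⊗ X`. -/
def redMap (k : ℕ) (X : Type u) [AddCommGroup X] [Module B X] :
    (B ⧸ J ^ (k + 1)) ⊗[B] X →ₗ[B] (B ⧸ J) ⊗[B] X :=
  ((Ideal.Quotient.factorₐ B (Ideal.pow_le_self (Nat.succ_ne_zero k))).toLinearMap).rTensor X

omit [Algebra Λ A] in
theorem redMap_surjective (k : ℕ) (X : Type u) [AddCommGroup X] [Module B X] :
    Function.Surjective (redMap B J k X) :=
  LinearMap.rTensor_surjective X fun y => by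
    obtain ⟨b, rfl⟩ := Ideal.Quotient.mk_surjective y
    exact ⟨Ideal.Quotient.mk _ b, rfl⟩

theorem mem_smul_of_redMap_eq_zero (k : ℕ) (X : Type u) [AddCommGroup X] [Module B X]
    {y : (B ⧸ J ^ (k + 1)) ⊗[B] X} (hy : redMap B J k X y = 0) :
    y ∈ J • (⊤ : Submodule B ((B ⧸ J ^ (k + 1)) ⊗[B] X)) := by
  let W := J • (⊤ : Submodule B ((B ⧸ J ^ (k + 1)) ⊗[B] X))
  let f : B →ₗ[B] X →ₗ[B] ((B ⧸ J ^ (k + 1)) ⊗[B] X) ⧸ W :=
    LinearMap.toSpanSingleton B _ (W.mkQ.comp (TensorProduct.mk B (B ⧸ J ^ (k + 1)) X 1))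
  let g : (B ⧸ J) ⊗[B] X →ₗ[B] ((B ⧸ J ^ (k + 1)) ⊗[B] X) ⧸ W :=
    TensorProduct.lift (Submodule.liftQ J f fun b hb => by
      refine LinearMap.ext fun x => ?_
      show b • W.mkQ ((1 : B ⧸ J ^ (k + 1)) ⊗ₜ[B] x) = 0
      rw [← map_smul, Submodule.mkQ_apply, Submodule.Quotient.mk_eq_zero]
      exact Submodule.smul_mem_smul hb Submodule.mem_top)
  have : g.comp (redMap B J k X) = W.mkQ := by
    refine TensorProduct.ext' fun c x => ?_
    obtain ⟨b, rfl⟩ := Ideal.Quotient.mk_surjective c
    show b • W.mkQ ((1 : B ⧸ J ^ (k + 1)) ⊗ₜ[B] x) = W.mkQ (Ideal.Quotient.mk _ b ⊗ₜ[B] x)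
    rw [← map_smul, TensorProduct.smul_tmul', ← Algebra.algebraMap_eq_smul_one]
    rfl
  have h := LinearMap.congr_fun this y
  rw [LinearMap.comp_apply, hy, map_zero] at h
  exact (Submodule.Quotient.mk_eq_zero W).mp h.symm

/-- Derivations of `A` into modules killed by a power of `J` extend to `B`. -/
theorem exists_extension (hB : CAlgX.IsAdicFormallySmooth Λ B J)
    (hinj : Function.Injective ((mapBaseChange Λ A B).lTensor (B ⧸ J)))
    (hproj : Module.Projective (B ⧸ J) ((B ⧸ J) ⊗[B] KaehlerDifferential A B))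
    {M : Type u} [AddCommGroup M] [Module B M] [Module A M] [IsScalarTower A B M] [Module Λ M]
    [IsScalarTower Λ B M] [IsScalarTower Λ A M] (k : ℕ) (hM : ∀ x ∈ J ^ (k + 1), ∀ m : M, x • m = 0)
    (D : Derivation Λ A M) : ∃ d : Derivation Λ B M, ∀ a, d (algebraMap A B a) = D a := by
  set u := mapBaseChange Λ A B with hu
  -- a left inverse modulo `J`
  let p0 := (KaehlerDifferential.map Λ A B B).lTensor (B ⧸ J)
  have hex : Function.Exact (u.lTensor (B ⧸ J)) p0 :=
    lTensor_exact _ (KaehlerDifferential.exact_mapBaseChange_map Λ A B) (KaehlerDifferential.map_surjective Λ A B)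
  have hkill : ∀ (X : Type u) [AddCommGroup X] [Module B X], ∀ x ∈ J, ∀ y : (B ⧸ J) ⊗[B] X, x • y = 0 :=
    fun X _ _ x hx y => by
      rw [← algebraMap_smul (B ⧸ J) x y, show algebraMap B (B ⧸ J) x = 0 from Ideal.Quotient.eq_zero_iff_mem.mpr hx,
        zero_smul]
  obtain ⟨σ, hσ⟩ := exists_lift_projective J (hkill _) p0
    (LinearMap.lTensor_surjective _ (KaehlerDifferential.map_surjective Λ A B)) LinearMap.id
  have hmem : ∀ y, y - σ (p0 y) ∈ LinearMap.range (u.lTensor (B ⧸ J)) := fun y =>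
    (hex _).mp (by rw [map_sub, show p0 (σ (p0 y)) = p0 y from LinearMap.congr_fun hσ _, sub_self])
  let e0 := LinearEquiv.ofInjective (u.lTensor (B ⧸ J)) hinj
  let v0 := e0.symm.toLinearMap.comp ((LinearMap.id - σ.comp p0).codRestrict _ hmem)
  have hv0 : ∀ y, v0 (u.lTensor (B ⧸ J) y) = y := fun y => by
    apply hinj
    show u.lTensor (B ⧸ J) (e0.symm ⟨_, hmem _⟩) = _
    rw [← LinearEquiv.ofInjective_apply (u.lTensor (B ⧸ J)) (h := hinj) (e0.symm _), LinearEquiv.apply_symm_apply]
    show u.lTensor (B ⧸ J) y - σ (p0 (u.lTensor (B ⧸ J) y)) = u.lTensor (B ⧸ J) y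
    rw [(hex _).mpr ⟨y, rfl⟩, map_zero, sub_zero]
  -- lift it modulo `J^(k+1)`
  haveI := projective_tensor_omega hB (J ^ (k + 1)) le_rfl
  have hkillk : ∀ (X : Type u) [AddCommGroup X] [Module B X], ∀ x ∈ J ^ (k + 1),
      ∀ y : (B ⧸ J ^ (k + 1)) ⊗[B] X, x • y = 0 := fun X _ _ x hx y => by
    rw [← algebraMap_smul (B ⧸ J ^ (k + 1)) x y,
      show algebraMap B (B ⧸ J ^ (k + 1)) x = 0 from Ideal.Quotient.eq_zero_iff_mem.mpr hx, zero_smul]
  obtain ⟨v1, hv1⟩ := exists_lift_projective (J ^ (k + 1)) (hkillk _) (redMap B J k (B ⊗[A] KaehlerDifferential Λ A))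
    (redMap_surjective k _) (v0.comp (redMap B J k (KaehlerDifferential Λ B)))
  let g : Module.End B ((B ⧸ J ^ (k + 1)) ⊗[B] (B ⊗[A] KaehlerDifferential Λ A)) :=
    1 - v1.comp (u.lTensor (B ⧸ J ^ (k + 1)))
  have hg : ∀ y, g y ∈ J • (⊤ : Submodule B _) := fun y => by
    refine mem_smul_of_redMap_eq_zero k _ ?_
    show redMap B J k _ (y - v1 (u.lTensor _ y)) = 0
    rw [map_sub, show redMap B J k _ (v1 (u.lTensor (B ⧸ J ^ (k + 1)) y)) =
      v0 (redMap B J k _ (u.lTensor (B ⧸ J ^ (k + 1)) y)) from LinearMap.congr_fun hv1 _,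
      show redMap B J k _ (u.lTensor (B ⧸ J ^ (k + 1)) y) = u.lTensor (B ⧸ J) (redMap B J k _ y) from
        LinearMap.congr_fun ((LinearMap.rTensor_comp_lTensor _ _ _).trans (LinearMap.lTensor_comp_rTensor _ _ _).symm) y,
      hv0, sub_self]
  have hgn : g ^ (k + 1) = 0 := by
    have : ∀ j y, (g ^ j) y ∈ J ^ j • (⊤ : Submodule B _) := fun j => by
      induction j with
      | zero => simp
      | succ j ih =>
        intro y
        rw [pow_succ' g, Module.End.mul_apply]
        have h1 := Submodule.mem_map_of_mem (f := g) (ih y)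
        rw [Submodule.map_smul''] at h1
        have h2 : (⊤ : Submodule B _).map g ≤ J • ⊤ := by
          rintro _ ⟨z, -, rfl⟩; exact hg z
        have h3 := Submodule.smul_mono (le_refl (J ^ j)) h2 h1
        rwa [← Submodule.mul_smul, ← pow_succ] at h3
    refine LinearMap.ext fun y => ?_
    have h := this (k + 1) y
    refine Submodule.smul_induction_on (p := fun z => z = 0) h (fun x hx z _ => hkillk _ x hx z) fun a b ha hb => by
      rw [ha, hb, add_zero]
  have hnil : IsNilpotent g := ⟨k + 1, hgn⟩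
  obtain ⟨w, hw⟩ := IsNilpotent.isUnit_one_sub (R := Module.End B ((B ⧸ J ^ (k + 1)) ⊗[B] (B ⊗[A] KaehlerDifferential Λ A))) (r := g) hnil
  -- the extension
  let v := (↑w⁻¹ : Module.End B ((B ⧸ J ^ (k + 1)) ⊗[B] (B ⊗[A] KaehlerDifferential Λ A))).comp v1
  have hv : ∀ y, v (u.lTensor (B ⧸ J ^ (k + 1)) y) = y := fun y => by
    have h : (1 - g) y = v1 (u.lTensor (B ⧸ J ^ (k + 1)) y) := by
      show y - (y - v1 (u.lTensor _ y)) = _
      rw [sub_sub_cancel]
    show (↑w⁻¹ : Module.End B _) (v1 (u.lTensor (B ⧸ J ^ (k + 1)) y)) = y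
    rw [← h, ← hw, ← Module.End.mul_apply, Units.inv_mul, Module.End.one_apply]
  let F0 : B ⊗[A] KaehlerDifferential Λ A →ₗ[B] M := D.liftKaehlerDifferential.liftBaseChange B
  let μ : (B ⧸ J ^ (k + 1)) ⊗[B] M →ₗ[B] M :=
    TensorProduct.lift (Submodule.liftQ _ (LinearMap.lsmul B M) fun x hx => LinearMap.ext fun m => hM x hx m)
  let F := μ.comp (F0.lTensor (B ⧸ J ^ (k + 1)))
  refine ⟨((F.comp v).comp (TensorProduct.mk B (B ⧸ J ^ (k + 1)) (KaehlerDifferential Λ B) 1)).compDer
    (KaehlerDifferential.D Λ B), fun a => ?_⟩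
  show F (v ((1 : B ⧸ J ^ (k + 1)) ⊗ₜ[B] KaehlerDifferential.D Λ B (algebraMap A B a))) = D a
  have h : u.lTensor (B ⧸ J ^ (k + 1)) ((1 : B ⧸ J ^ (k + 1)) ⊗ₜ[B] ((1 : B) ⊗ₜ[A] KaehlerDifferential.D Λ A a)) =
      (1 : B ⧸ J ^ (k + 1)) ⊗ₜ[B] KaehlerDifferential.D Λ B (algebraMap A B a) := by
    rw [LinearMap.lTensor_tmul, hu, KaehlerDifferential.mapBaseChange_tmul, one_smul, KaehlerDifferential.map_D]
  rw [← h, hv]
  show (1 : B) • F0 ((1 : B) ⊗ₜ[A] KaehlerDifferential.D Λ A a) = D a
  rw [one_smul]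
  show D.liftKaehlerDifferential.liftBaseChange B ((1 : B) ⊗ₜ[A] KaehlerDifferential.D Λ A a) = D a
  rw [LinearMap.liftBaseChange_tmul, one_smul, Derivation.liftKaehlerDifferential_comp_D]

theorem adicSmooth_relative (hB : CAlgX.IsAdicFormallySmooth Λ B J)
    (hinj : Function.Injective ((mapBaseChange Λ A B).lTensor (B ⧸ J)))
    (hproj : Module.Projective (B ⧸ J) ((B ⧸ J) ⊗[B] KaehlerDifferential A B)) :
    CAlgX.IsAdicFormallySmooth A B J := by
  intro E _ _ N hN ψ hψ
  obtain ⟨k, hk⟩ := hψ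
  letI : Algebra Λ E := ((algebraMap A E).comp (algebraMap Λ A)).toAlgebra
  haveI : IsScalarTower Λ A E := IsScalarTower.of_algebraMap_eq fun _ => rfl
  let ψΛ : B →ₐ[Λ] E ⧸ N :=
    { ψ.toRingHom with
      commutes' := fun l => by
        show ψ (algebraMap Λ B l) = _
        rw [IsScalarTower.algebraMap_apply Λ A B, ψ.commutes]
        rfl }
  obtain ⟨χ, hχ⟩ := hB E N hN ψΛ ⟨k, hk⟩
  have hχ' : ∀ b, Ideal.Quotient.mk N (χ b) = ψ b := fun b => DFunLike.congr_fun hχ b
  have hN0 : ∀ {x y : E}, x ∈ N → y ∈ N → x * y = 0 := fun {x y} hx hy => by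
    rw [← Ideal.mem_bot, ← hN, pow_two]
    exact Ideal.mul_mem_mul hx hy
  have hd0 : ∀ a, algebraMap A E a - χ (algebraMap A B a) ∈ N := fun a => by
    rw [← Ideal.Quotient.eq, hχ', ψ.commutes]
    rfl
  letI : Algebra B E := χ.toRingHom.toAlgebra
  letI : Module B ↥N := Submodule.module' N
  haveI : IsScalarTower A B ↥N := ⟨fun a b n => Subtype.ext (by
    show χ (a • b) * (n : E) = a • (χ b * (n : E))
    rw [Algebra.smul_def, map_mul, Algebra.smul_def a, mul_assoc, ← sub_eq_zero, ← sub_mul]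
    refine hN0 ?_ (N.mul_mem_left _ n.2)
    rw [← neg_sub]
    exact neg_mem (hd0 a))⟩
  haveI : IsScalarTower Λ B ↥N := ⟨fun l b n => Subtype.ext (by
    show χ (l • b) * (n : E) = l • (χ b * (n : E))
    rw [Algebra.smul_def, map_mul, χ.commutes, Algebra.smul_def l, mul_assoc])⟩
  haveI : IsScalarTower Λ A ↥N := ⟨fun l a n => Subtype.ext (smul_assoc l a (n : E))⟩
  let D : A →ₗ[Λ] ↥N :=
    { toFun := fun a => ⟨_, hd0 a⟩
      map_add' := fun a b => Subtype.ext (by simp; ring)
      map_smul' := fun l a => Subtype.ext (by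
        show algebraMap A E (l • a) - χ (algebraMap A B (l • a)) = l • (algebraMap A E a - χ (algebraMap A B a))
        rw [Algebra.smul_def l a, map_mul, map_mul, map_mul, ← IsScalarTower.algebraMap_apply,
          ← IsScalarTower.algebraMap_apply, χ.commutes, Algebra.smul_def l, mul_sub]) }
  let D' : Derivation Λ A ↥N := Derivation.mk' D fun a b => Subtype.ext (by
    show algebraMap A E (a * b) - χ (algebraMap A B (a * b)) =
      a • (algebraMap A E b - χ (algebraMap A B b)) + b • (algebraMap A E a - χ (algebraMap A B a))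
    rw [map_mul, map_mul, map_mul, Algebra.smul_def, Algebra.smul_def]
    linear_combination (-1 : E) * hN0 (hd0 a) (hd0 b))
  obtain ⟨d, hd⟩ := exists_extension hB hinj hproj k (M := ↥N) (fun x hx n => Subtype.ext (by
    show χ x * (n : E) = 0
    refine hN0 ?_ n.2
    rw [← Ideal.Quotient.eq_zero_iff_mem, hχ']
    exact hk x (Ideal.pow_le_pow_right (Nat.le_succ k) hx))) D'
  refine ⟨{ toFun := fun b => χ b + (d b : E)
            map_one' := by simp
            map_mul' := fun a b => by
              rw [map_mul χ, Derivation.leibniz, Submodule.coe_add]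
              show χ a * χ b + (χ a * (d b : E) + χ b * (d a : E)) = _
              linear_combination (-1 : E) * hN0 (d a).2 (d b).2
            map_zero' := by simp
            map_add' := fun a b => by simp; ring
            commutes' := fun a => by
              rw [hd]
              show χ (algebraMap A B a) + (algebraMap A E a - χ (algebraMap A B a)) = _
              rw [add_sub_cancel] }, AlgHom.ext fun b => ?_⟩
  show Ideal.Quotient.mk N (χ b + (d b : E)) = ψ b
  rw [map_add, hχ', Ideal.Quotient.eq_zero_iff_mem.mpr (d b).2, add_zero]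

end relative

end Groth.Agent.PP16Lib

end
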