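import Groth.Agent.PP16Lib.SymGrRegular
import Groth.Agent.PP16Lib.AdicOmega
import Groth.Agent.EGA41Lib.FieldCrit
import Mathlib.RingTheory.AdjoinRoot
import Mathlib.RingTheory.TensorProduct.Maps
import Mathlib.Algebra.TrivSqZeroExt.Basic

/-!
Purely inseparable extensions of exponent one: local rings, regularity and differentials.
-/

set_option autoImplicit false
set_option linter.unusedSectionVars false

universe u v

open IsLocalRing
open scoped TensorProduct

noncomputable section

namespace Groth.Agent.PP16Lib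

section powers

variable (p : ℕ) [hp : Fact p.Prime] {R : Type u} [CommRing R] [IsLocalRing R] {S : Type u} [CommRing S]
  [CharP S p] (ι : R →+* S)

theorem isUnit_iff_of_pow (hinj : Function.Injective ι) (hpow : ∀ x, ∃ a, x ^ p = ι a) {x : S} {a : R}
    (hx : x ^ p = ι a) : IsUnit x ↔ IsUnit a := by
  refine ⟨fun h => ?_, fun h => (isUnit_pow_iff hp.out.ne_zero).mp (hx ▸ h.map ι)⟩
  obtain ⟨y, hy⟩ := h.exists_right_inv
  obtain ⟨c, hc⟩ := hpow y
  refine IsUnit.of_mul_eq_one c (hinj ?_)
  rw [map_mul, ← hx, ← hc, ← mul_pow, hy, one_pow, map_one]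

theorem isLocalRing_of_pow (hinj : Function.Injective ι) (hpow : ∀ x, ∃ a, x ^ p = ι a) : IsLocalRing S := by
  haveI : Nontrivial S := hinj.nontrivial
  refine IsLocalRing.of_nonunits_add fun x y hx hy => ?_
  obtain ⟨a, ha⟩ := hpow x
  obtain ⟨b, hb⟩ := hpow y
  rw [mem_nonunits_iff, isUnit_iff_of_pow p ι hinj hpow (a := a + b) (by rw [add_pow_char, ha, hb, map_add])]
  rw [mem_nonunits_iff, isUnit_iff_of_pow p ι hinj hpow ha] at hx
  rw [mem_nonunits_iff, isUnit_iff_of_pow p ι hinj hpow hb] at hy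
  exact IsLocalRing.nonunits_add hx hy

theorem ringKrullDim_le_of_pow (hpow : ∀ x, ∃ a, x ^ p = ι a) : ringKrullDim S ≤ ringKrullDim R := by
  refine Order.krullDim_le_of_strictMono (PrimeSpectrum.comap ι) fun P Q hPQ => ?_
  refine lt_of_le_not_ge (Ideal.comap_mono (show P.asIdeal ≤ Q.asIdeal from hPQ.le)) fun h => hPQ.not_ge ?_
  intro x hx
  obtain ⟨a, ha⟩ := hpow x
  refine P.isPrime.mem_of_pow_mem p ?_
  rw [ha]
  refine h (show ι a ∈ Q.asIdeal from ?_)
  rw [← ha]
  exact Ideal.pow_mem_of_mem _ hx _ hp.out.pos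

end powers

section tensor

variable {k k' A : Type u} [Field k] [Field k'] [Algebra k k'] [CommRing A] [Algebra k A]

theorem includeRight_injective' : Function.Injective (Algebra.TensorProduct.includeRight : A →ₐ[k] k' ⊗[k] A) :=
  Algebra.TensorProduct.includeRight_injective (algebraMap k k').injective

theorem charP_tensor (p : ℕ) [CharP k p] [Nontrivial A] : CharP (k' ⊗[k] A) p :=
  charP_of_injective_ringHom (f := (algebraMap k (k' ⊗[k] A))) (by
    intro x y h
    rw [← (Algebra.TensorProduct.includeRight (R := k) (A := k') (B := A)).commutes x,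
      ← (Algebra.TensorProduct.includeRight (R := k) (A := k') (B := A)).commutes y] at h
    exact (algebraMap k A).injective (includeRight_injective' h)) p

theorem exists_pow_tensor (p : ℕ) [Fact p.Prime] [CharP k p] [Nontrivial A]
    (hk : ∀ x : k', x ^ p ∈ (algebraMap k k').range) (x : k' ⊗[k] A) :
    ∃ a, x ^ p = (Algebra.TensorProduct.includeRight : A →ₐ[k] k' ⊗[k] A).toRingHom a := by
  haveI := charP_tensor (k := k) (k' := k') (A := A) p
  induction x using TensorProduct.induction_on with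
  | zero => exact ⟨0, by rw [map_zero, zero_pow (Fact.out : p.Prime).ne_zero]⟩
  | add x y hx hy =>
    obtain ⟨a, ha⟩ := hx
    obtain ⟨b, hb⟩ := hy
    exact ⟨a + b, by rw [add_pow_char, ha, hb, map_add]⟩
  | tmul c a =>
    obtain ⟨r, hr⟩ := hk c
    refine ⟨r • a ^ p, ?_⟩
    rw [Algebra.TensorProduct.tmul_pow, ← hr, Algebra.algebraMap_eq_smul_one, TensorProduct.smul_tmul]
    rfl

theorem isLocalRing_tensor (p : ℕ) [Fact p.Prime] [CharP k p] [IsLocalRing A]
    (hk : ∀ x : k', x ^ p ∈ (algebraMap k k').range) : IsLocalRing (k' ⊗[k] A) :=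
  haveI := charP_tensor (k := k) (k' := k') (A := A) p
  isLocalRing_of_pow p (Algebra.TensorProduct.includeRight : A →ₐ[k] k' ⊗[k] A).toRingHom includeRight_injective'
    (exists_pow_tensor p hk)

theorem map_mem_maximalIdeal (p : ℕ) [Fact p.Prime] [CharP k p] [IsLocalRing A] [IsLocalRing (k' ⊗[k] A)]
    (hk : ∀ x : k', x ^ p ∈ (algebraMap k k').range) {a : A} (ha : a ∈ maximalIdeal A) :
    Algebra.TensorProduct.includeRight (R := k) (A := k') a ∈ maximalIdeal (k' ⊗[k] A) := by
  haveI := charP_tensor (k := k) (k' := k') (A := A) p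
  rw [IsLocalRing.mem_maximalIdeal, mem_nonunits_iff,
    isUnit_iff_of_pow p (Algebra.TensorProduct.includeRight : A →ₐ[k] k' ⊗[k] A).toRingHom includeRight_injective'
      (exists_pow_tensor p hk) (a := a ^ p) (by simp), isUnit_pow_iff (Fact.out : p.Prime).ne_zero]
  exact ha

theorem isNoetherianRing_tensor [IsNoetherianRing A] [Module.Finite k k'] : IsNoetherianRing (k' ⊗[k] A) :=
  haveI : IsNoetherianRing (A ⊗[k] k') := IsNoetherianRing.of_finite A (A ⊗[k] k')
  isNoetherianRing_of_ringEquiv (A ⊗[k] k') (Algebra.TensorProduct.comm k A k').toRingEquiv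

/-- Adic formal smoothness is stable under base change. -/
theorem adicSmooth_tensor {m : Ideal A} (hA : CAlgX.IsAdicFormallySmooth k A m) (J : Ideal (k' ⊗[k] A))
    (hJ : ∀ a ∈ m, Algebra.TensorProduct.includeRight (R := k) (A := k') a ∈ J) :
    CAlgX.IsAdicFormallySmooth k' (k' ⊗[k] A) J := by
  intro E _ _ N hN ψ hψ
  obtain ⟨n, hn⟩ := hψ
  letI : Algebra k E := ((algebraMap k' E).comp (algebraMap k k')).toAlgebra
  haveI : IsScalarTower k k' E := IsScalarTower.of_algebraMap_eq fun _ => rfl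
  obtain ⟨χ, hχ⟩ := hA E N hN ((ψ.restrictScalars k).comp Algebra.TensorProduct.includeRight) ⟨n, fun x hx =>
    hn _ (Ideal.pow_right_mono (Ideal.map_le_iff_le_comap.mpr hJ) n
      (by rw [← Ideal.map_pow]; exact Ideal.mem_map_of_mem _ hx))⟩
  refine ⟨Algebra.TensorProduct.lift (Algebra.ofId k' E) χ (fun _ _ => Commute.all _ _), ?_⟩
  refine Algebra.TensorProduct.ext' fun c a => ?_
  rw [AlgHom.comp_apply, Algebra.TensorProduct.lift_tmul, map_mul,
    show c ⊗ₜ[k] a = algebraMap k' (k' ⊗[k] A) c * Algebra.TensorProduct.includeRight a by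
      simp [Algebra.TensorProduct.algebraMap_apply],
    map_mul ψ, AlgHom.commutes ψ]
  exact congrArg₂ (· * ·) (AlgHom.commutes _ c) (DFunLike.congr_fun hχ a)

end tensor

section adjoinRoot

open Polynomial

variable {F : Type u} [Field F] (p : ℕ) [hp : Fact p.Prime] {R : Type u} [CommRing R] [IsLocalRing R]
  [CharP R p] [Algebra F R]

theorem exists_pow_adjoinRoot (b : R) (hinj : Function.Injective (AdjoinRoot.of (X ^ p - C b)))
    (x : AdjoinRoot (X ^ p - C b)) : ∃ a, x ^ p = AdjoinRoot.of (X ^ p - C b) a := by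
  haveI : CharP (AdjoinRoot (X ^ p - C b)) p := charP_of_injective_ringHom hinj p
  have hroot : AdjoinRoot.root (X ^ p - C b) ^ p = AdjoinRoot.of (X ^ p - C b) b := by
    have h := AdjoinRoot.eval₂_root (X ^ p - C b)
    rwa [eval₂_sub, eval₂_pow, eval₂_X, eval₂_C, sub_eq_zero] at h
  induction x using AdjoinRoot.induction_on with
  | ih g =>
    induction g using Polynomial.induction_on' with
    | add f g hf hg =>
      obtain ⟨a, ha⟩ := hf
      obtain ⟨c, hc⟩ := hg
      exact ⟨a + c, by rw [map_add, add_pow_char, ha, hc, map_add]⟩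
    | monomial n c =>
      refine ⟨c ^ p * b ^ n, ?_⟩
      rw [← C_mul_X_pow_eq_monomial, map_mul, map_pow, AdjoinRoot.mk_X, AdjoinRoot.mk_C, mul_pow, ← pow_mul,
        mul_comm n, pow_mul, hroot, map_mul, map_pow, map_pow]

theorem of_injective (b : R) : Function.Injective (AdjoinRoot.of (X ^ p - C b)) := by
  rw [injective_iff_map_eq_zero]
  intro a ha
  rw [← AdjoinRoot.mk_C, AdjoinRoot.mk_eq_zero] at ha
  by_contra h
  refine (monic_X_pow_sub_C b hp.out.ne_zero).not_dvd_of_natDegree_lt (C_ne_zero.mpr h) ?_ ha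
  rw [natDegree_C, natDegree_X_pow_sub_C]
  exact hp.out.pos

/-- If `b` has zero differential in the fibre, adjoining its `p`-th root destroys regularity. -/
theorem not_regular_adjoinRoot [IsRegularLocalRing R] [Algebra.FormallySmooth F (R ⧸ maximalIdeal R)]
    (hF : ∀ r : F, r ^ p = r) (b : R)
    (hb : (1 : R ⧸ maximalIdeal R) ⊗ₜ[R] KaehlerDifferential.D F R b = 0) :
    ¬ IsRegularRing (AdjoinRoot (X ^ p - C b)) := by
  classical
  intro hreg
  letI : Field (R ⧸ maximalIdeal R) := Ideal.Quotient.field _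
  haveI : CharP (R ⧸ maximalIdeal R) p := (CharP.charP_iff_prime_eq_zero hp.out).mpr (by
    rw [← map_natCast (Ideal.Quotient.mk (maximalIdeal R)) p, CharP.cast_eq_zero, map_zero])
  -- `b` is a `p`-th power modulo the maximal ideal
  have hDK : KaehlerDifferential.D F (R ⧸ maximalIdeal R) (Ideal.Quotient.mk _ b) = 0 := by
    have h := congrArg ((KaehlerDifferential.map F F R (R ⧸ maximalIdeal R)).liftBaseChange (R ⧸ maximalIdeal R)) hb
    rwa [LinearMap.liftBaseChange_tmul, one_smul, KaehlerDifferential.map_D, map_zero] at h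
  have hbar : Ideal.Quotient.mk (maximalIdeal R) b ∈ (frobenius (R ⧸ maximalIdeal R) p).range := by
    by_contra hcon
    have hle : EGA41Lib.pSub p F (R ⧸ maximalIdeal R) ≤ (frobenius (R ⧸ maximalIdeal R) p).range := fun z hz => by
      induction hz using Algebra.adjoin_induction with
      | mem z hz =>
        obtain ⟨y, rfl⟩ := hz
        exact ⟨y, frobenius_def p y⟩
      | algebraMap r => exact ⟨algebraMap F _ r, by rw [frobenius_def, ← map_pow, hF]⟩
      | add a b _ _ ha hb => exact add_mem ha hb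
      | mul a b _ _ ha hb => exact mul_mem ha hb
    have hind := EGA41Lib.ind_single (p := p) (EGA41Lib.pow_mem_pSub p F)
      (s := Ideal.Quotient.mk (maximalIdeal R) b) fun h => hcon (hle h)
    exact ((EGA41Lib.isPIndependent_iff_linearIndependent _).mp hind).ne_zero PUnit.unit hDK
  obtain ⟨cbar, hc⟩ := hbar
  obtain ⟨c, rfl⟩ := Ideal.Quotient.mk_surjective cbar
  rw [frobenius_def, ← map_pow, Ideal.Quotient.eq] at hc
  -- the derivation extending `m → m/m²` kills `b`
  obtain ⟨δ, hδ⟩ := exists_delta (A := F) (maximalIdeal R)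
  have hδb : δ b = 0 := by
    have h := congrArg (δ.liftKaehlerDifferential.liftBaseChange (R ⧸ maximalIdeal R)) hb
    rwa [LinearMap.liftBaseChange_tmul, one_smul, Derivation.liftKaehlerDifferential_comp_D, map_zero] at h
  letI : Module (R ⧸ maximalIdeal R)ᵐᵒᵖ ((maximalIdeal R).Cotangent × (R ⧸ maximalIdeal R)) := Module.compHom _ ((RingHom.id (R ⧸ maximalIdeal R)).fromOpposite fun _ _ => Commute.all _ _)
  haveI : IsCentralScalar (R ⧸ maximalIdeal R) ((maximalIdeal R).Cotangent × (R ⧸ maximalIdeal R)) := ⟨fun _ _ => rfl⟩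
  let φ : R →+* TrivSqZeroExt (R ⧸ maximalIdeal R) ((maximalIdeal R).Cotangent × (R ⧸ maximalIdeal R)) :=
    { toFun := fun r => TrivSqZeroExt.inl (Ideal.Quotient.mk (maximalIdeal R) r) + TrivSqZeroExt.inr (δ r, 0)
      map_one' := by simp; rfl
      map_mul' := fun r s => TrivSqZeroExt.ext (by simp) (by
        simp [op_smul_eq_smul, ← Ideal.Quotient.algebraMap_eq, algebraMap_smul, add_comm])
      map_zero' := by simp; rfl
      map_add' := fun r s => TrivSqZeroExt.ext (by simp) (by simp) }
  let ρ : TrivSqZeroExt (R ⧸ maximalIdeal R) ((maximalIdeal R).Cotangent × (R ⧸ maximalIdeal R)) := TrivSqZeroExt.inl (Ideal.Quotient.mk (maximalIdeal R) c) + TrivSqZeroExt.inr (0, 1)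
  have hρ : (X ^ p - C b).eval₂ φ ρ = 0 := by
    rw [eval₂_sub, eval₂_pow, eval₂_X, eval₂_C, sub_eq_zero]
    refine TrivSqZeroExt.ext ?_ ?_
    · simp only [ρ, φ, TrivSqZeroExt.fst_pow, RingHom.coe_mk, MonoidHom.coe_mk, OneHom.coe_mk, TrivSqZeroExt.fst_add,
        TrivSqZeroExt.fst_inl, TrivSqZeroExt.fst_inr, add_zero]
      rw [← map_pow, Ideal.Quotient.eq]
      exact hc
    · rw [TrivSqZeroExt.snd_pow, ← Nat.cast_smul_eq_nsmul (R ⧸ maximalIdeal R), CharP.cast_eq_zero, zero_smul]
      simp [φ, hδb]; rfl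
  let θ := AdjoinRoot.lift φ ρ hρ
  -- the ring is regular of dimension at most `dim R`
  haveI : CharP (AdjoinRoot (X ^ p - C b)) p := charP_of_injective_ringHom (of_injective p b) p
  have hpow := exists_pow_adjoinRoot p b (of_injective p b)
  haveI := isLocalRing_of_pow p _ (of_injective p b) hpow
  haveI := IsRegularLocalRing.of_isRegularRing_of_isLocalRing (AdjoinRoot (X ^ p - C b))
  let m' := maximalIdeal (AdjoinRoot (X ^ p - C b))
  have hθm : ∀ z ∈ m', (θ z).fst = 0 := fun z hz => by
    obtain ⟨a, ha⟩ := hpow z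
    have ham : a ∈ maximalIdeal R := fun hu => hz ((isUnit_iff_of_pow p _ (of_injective p b) hpow ha).mpr hu)
    have h : (θ z).fst ^ p = 0 := by
      rw [← TrivSqZeroExt.fst_pow, ← map_pow, ha, AdjoinRoot.lift_of]
      simp [φ, Ideal.Quotient.eq_zero_iff_mem.mpr ham]
    exact eq_zero_of_pow_eq_zero h
  obtain ⟨s, hs, hspan⟩ := Submodule.FG.exists_span_finset_card_eq_spanFinrank m'.fg_of_isNoetherianRing
  let W := Submodule.span (R ⧸ maximalIdeal R) ((fun z => (θ z).snd) '' (s : Set (AdjoinRoot (X ^ p - C b))))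
  have hW : ∀ z ∈ m', (θ z).snd ∈ W := fun z hz => by
    have hz' : z ∈ Submodule.span (AdjoinRoot (X ^ p - C b)) (s : Set (AdjoinRoot (X ^ p - C b))) := by rwa [hspan]
    induction hz' using Submodule.span_induction with
    | mem w hw => exact Submodule.subset_span ⟨w, hw, rfl⟩
    | zero => rw [map_zero]; exact zero_mem _
    | add x y hx hy hx' hy' =>
      rw [map_add, TrivSqZeroExt.snd_add]
      exact add_mem (hx' (hspan ▸ hx)) (hy' (hspan ▸ hy))
    | smul c x hx hx' =>
      rw [smul_eq_mul, map_mul, TrivSqZeroExt.snd_mul, hθm x (hspan ▸ hx)]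
      simp only [MulOpposite.op_zero, zero_smul, add_zero]
      exact W.smul_mem _ (hx' (hspan ▸ hx))
  have htop : W = ⊤ := by
    have h1 : ∀ y : (maximalIdeal R).Cotangent, ((y, 0) : ((maximalIdeal R).Cotangent × (R ⧸ maximalIdeal R))) ∈ W := fun y => by
      obtain ⟨x, rfl⟩ := (maximalIdeal R).toCotangent_surjective y
      have hx : AdjoinRoot.of (X ^ p - C b) (x : R) ∈ m' := fun hu => by
        have := (isUnit_iff_of_pow p _ (of_injective p b) hpow (a := (x : R) ^ p) (by rw [map_pow])).mp hu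
        exact x.2 ((isUnit_pow_iff hp.out.ne_zero).mp this)
      have := hW _ hx
      rwa [AdjoinRoot.lift_of, show (φ (x : R)).snd = (δ (x : R), 0) by simp [φ], hδ] at this
    have h2 : ((0, 1) : ((maximalIdeal R).Cotangent × (R ⧸ maximalIdeal R))) ∈ W := by
      have hU : AdjoinRoot.root (X ^ p - C b) - AdjoinRoot.of (X ^ p - C b) c ∈ m' := fun hu => by
        have h := (isUnit_iff_of_pow p _ (of_injective p b) hpow (a := b - c ^ p) (by
          rw [sub_pow_char, map_sub, map_pow]
          congr 1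
          have h := AdjoinRoot.eval₂_root (X ^ p - C b)
          rwa [eval₂_sub, eval₂_pow, eval₂_X, eval₂_C, sub_eq_zero] at h)).mp hu
        exact (neg_sub (c ^ p) b ▸ (maximalIdeal R).neg_mem hc : b - c ^ p ∈ maximalIdeal R) h
      have := hW _ hU
      rw [map_sub, AdjoinRoot.lift_root, AdjoinRoot.lift_of] at this
      have h3 := add_mem this (h1 (δ c))
      convert h3 using 1
      simp [ρ, φ]
    refine eq_top_iff.mpr fun y _ => ?_
    rw [show y = ((y.1, 0) : ((maximalIdeal R).Cotangent × (R ⧸ maximalIdeal R))) + y.2 • ((0, 1) : ((maximalIdeal R).Cotangent × (R ⧸ maximalIdeal R))) by ext <;> simp]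
    exact add_mem (h1 _) (W.smul_mem _ h2)
  haveI : Module.Finite (R ⧸ maximalIdeal R) (maximalIdeal R).Cotangent :=
    inferInstanceAs (Module.Finite (ResidueField R) (CotangentSpace R))
  have h3 : Module.finrank (R ⧸ maximalIdeal R) ((maximalIdeal R).Cotangent × (R ⧸ maximalIdeal R)) ≤ s.card := by
    rw [← finrank_top (R ⧸ maximalIdeal R) ((maximalIdeal R).Cotangent × (R ⧸ maximalIdeal R)), ← htop]
    show Module.finrank (R ⧸ maximalIdeal R) (Submodule.span (R ⧸ maximalIdeal R) ((fun z => (θ z).snd) '' (s : Set (AdjoinRoot (X ^ p - C b))))) ≤ _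
    rw [← Finset.coe_image]
    exact (finrank_span_finset_le_card _).trans Finset.card_image_le
  have h4 : Module.finrank (R ⧸ maximalIdeal R) ((maximalIdeal R).Cotangent × (R ⧸ maximalIdeal R)) = (maximalIdeal R).spanFinrank + 1 := by
    rw [Module.finrank_prod, Module.finrank_self, spanFinrank_maximalIdeal_eq_finrank_cotangentSpace]
    rfl
  have h5 : ((maximalIdeal (AdjoinRoot (X ^ p - C b))).spanFinrank : WithBot ℕ∞) ≤ (maximalIdeal R).spanFinrank := by
    rw [IsRegularLocalRing.spanFinrank_maximalIdeal, IsRegularLocalRing.spanFinrank_maximalIdeal]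
    exact ringKrullDim_le_of_pow p _ hpow
  have h6 : (maximalIdeal (AdjoinRoot (X ^ p - C b))).spanFinrank ≤ (maximalIdeal R).spanFinrank := by
    exact_mod_cast h5
  have : (maximalIdeal R).spanFinrank + 1 ≤ (maximalIdeal R).spanFinrank :=
    (h4 ▸ h3).trans (hs.le.trans h6)
  omega

end adjoinRoot

end Groth.Agent.PP16Lib

end
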