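import Groth.Agent.S4571
import Groth.Agent.PP16Lib.GeomReg
import Mathlib.FieldTheory.KummerPolynomial
import Mathlib.FieldTheory.IntermediateField.Adjoin.Basic
import Mathlib.FieldTheory.IsAlgClosed.AlgebraicClosure

/-!
Injectivity of `Ω_{k/ℤ} ⊗ K → Ω_{A/ℤ} ⊗ K`: separable residue field, or regularity after purely inseparable base change.
-/

set_option autoImplicit false
set_option linter.unusedSectionVars false

universe u v

open IsLocalRing
open scoped TensorProduct
open KaehlerDifferential (D mapBaseChange)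

noncomputable section

namespace Groth.Agent.PP16Lib

section separable

variable {k A K : Type u} [Field k] [CommRing A] [Algebra k A] [Field K] [Algebra A K] [Algebra k K]
  [IsScalarTower k A K]

theorem injective_lTensor_of_injective (hinj : Function.Injective (mapBaseChange ℤ k K)) :
    Function.Injective ((mapBaseChange ℤ k A).lTensor K) := by
  let w : K ⊗[A] KaehlerDifferential ℤ A →ₗ[K] KaehlerDifferential ℤ K :=
    (KaehlerDifferential.map ℤ ℤ A K).liftBaseChange K
  let e := TensorProduct.AlgebraTensorModule.cancelBaseChange k A K K (KaehlerDifferential ℤ k)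
  have h : ∀ y, w ((mapBaseChange ℤ k A).lTensor K y) = mapBaseChange ℤ k K (e y) := fun y => by
    induction y using TensorProduct.induction_on with
    | zero => simp
    | add a b ha hb => simp only [map_add, ha, hb]
    | tmul c y =>
      induction y using TensorProduct.induction_on with
      | zero => simp
      | add a b ha hb => simp only [TensorProduct.tmul_add, map_add, ha, hb]
      | tmul a z =>
        induction (KaehlerDifferential.span_range_derivation ℤ k).ge (Submodule.mem_top (x := z)) using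
          Submodule.span_induction generalizing a c with
        | mem z hz =>
          obtain ⟨x, rfl⟩ := hz
          simp only [e, w, LinearMap.lTensor_tmul, KaehlerDifferential.mapBaseChange_tmul, KaehlerDifferential.map_D,
            LinearMap.liftBaseChange_tmul, TensorProduct.AlgebraTensorModule.cancelBaseChange_tmul, map_smul,
            ← IsScalarTower.algebraMap_apply k A K]
          rw [← algebraMap_smul K a (D ℤ K (algebraMap k K x)), smul_smul, Algebra.smul_def a c, mul_comm]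
        | zero => simp
        | add x y _ _ hx hy => simp only [TensorProduct.tmul_add, map_add, hx, hy]
        | smul r x _ hx => rw [← TensorProduct.smul_tmul]; exact hx _ _
  intro y y' hy
  exact e.injective (hinj (by rw [← h, ← h, hy]))

theorem injective_lTensor_of_isGeometricallyReduced [Algebra.IsGeometricallyReduced k K] :
    Function.Injective ((mapBaseChange ℤ k A).lTensor K) :=
  injective_lTensor_of_injective (EGA41Lib.isGeometricallyReduced_iff_injective.mp inferInstance)

end separable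

section insep

open Polynomial

variable {k A : Type u} [Field k] (p : ℕ) [hp : Fact p.Prime] [CharP k p] [CommRing A] [Algebra k A]
  [IsLocalRing A] [IsNoetherianRing A]

theorem prime_subfield_pow (r : (⊥ : Subfield k)) : r ^ p = r := by
  let S : Subfield k :=
    { (RingHom.eqLocusField (frobenius k p) (RingHom.id k)) with }
  have h : (r : k) ∈ S := (bot_le : (⊥ : Subfield k) ≤ S) r.2
  exact Subtype.ext h

/-- Regularity of `k'(b^{1/p}) ⊗ A` in the form needed below. -/
theorem not_isRegularRing_of_D_eq_zero {k' k'' : Type u} [Field k'] [Algebra k k'] [Field k''] [Algebra k k'']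
    [Algebra k' k''] [IsScalarTower k k' k''] (t : k') [IsLocalRing (k' ⊗[k] A)] [IsRegularLocalRing (k' ⊗[k] A)]
    [CharP (k' ⊗[k] A) p] [Algebra (⊥ : Subfield k) (k' ⊗[k] A)]
    [Algebra.FormallySmooth (⊥ : Subfield k) ((k' ⊗[k] A) ⧸ maximalIdeal (k' ⊗[k] A))]
    (hb : (1 : (k' ⊗[k] A) ⧸ maximalIdeal (k' ⊗[k] A)) ⊗ₜ[k' ⊗[k] A]
      D (⊥ : Subfield k) (k' ⊗[k] A) (t ⊗ₜ[k] (1 : A)) = 0)
    (e : AdjoinRoot (X ^ p - C t) ≃ₐ[k'] k'') :
    ¬ IsRegularRing (k'' ⊗[k] A) := by
  intro hreg
  refine not_regular_adjoinRoot (F := (⊥ : Subfield k)) p (prime_subfield_pow p) (t ⊗ₜ[k] (1 : A)) hb ?_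
  set f := X ^ p - C (t ⊗ₜ[k] (1 : A)) with hf
  let r : k'' := e (AdjoinRoot.root _)
  have hr : r ^ p = algebraMap k' k'' t := by
    have h := AdjoinRoot.eval₂_root (X ^ p - C t)
    rw [eval₂_sub, eval₂_pow, eval₂_X, eval₂_C, sub_eq_zero] at h
    rw [← map_pow, h, ← AdjoinRoot.algebraMap_eq, e.commutes]
  let incl : k' ⊗[k] A →ₐ[k] k'' ⊗[k] A :=
    Algebra.TensorProduct.map (IsScalarTower.toAlgHom k k' k'') (AlgHom.id k A)
  let F1 : AdjoinRoot f →+* k'' ⊗[k] A := AdjoinRoot.lift incl.toRingHom (r ⊗ₜ[k] (1 : A)) (by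
    rw [hf, eval₂_sub, eval₂_pow, eval₂_X, eval₂_C, sub_eq_zero, Algebra.TensorProduct.tmul_pow, one_pow, hr]
    rfl)
  let g : AdjoinRoot (X ^ p - C t) →+* AdjoinRoot f :=
    AdjoinRoot.lift ((AdjoinRoot.of f).comp Algebra.TensorProduct.includeLeftRingHom) (AdjoinRoot.root f) (by
      have h := AdjoinRoot.eval₂_root f
      rw [hf, eval₂_sub, eval₂_pow, eval₂_X, eval₂_C] at h
      rw [eval₂_sub, eval₂_pow, eval₂_X, eval₂_C]
      exact h)
  let g' : k'' →ₐ[k] AdjoinRoot f :=
    { g.comp e.symm.toRingHom with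
      commutes' := fun x => by
        show g (e.symm (algebraMap k k'' x)) = _
        rw [IsScalarTower.algebraMap_apply k k' k'', e.symm.commutes, AdjoinRoot.algebraMap_eq, AdjoinRoot.lift_of,
          IsScalarTower.algebraMap_apply k (k' ⊗[k] A) (AdjoinRoot f), AdjoinRoot.algebraMap_eq]
        rfl }
  let a' : A →ₐ[k] AdjoinRoot f :=
    (IsScalarTower.toAlgHom k (k' ⊗[k] A) (AdjoinRoot f)).comp Algebra.TensorProduct.includeRight
  let F2 : k'' ⊗[k] A →+* AdjoinRoot f :=
    (Algebra.TensorProduct.lift g' a' (fun _ _ => Commute.all _ _)).toRingHom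
  have hF2 : ∀ c a, F2 (c ⊗ₜ[k] a) = g' c * a' a := fun c a => Algebra.TensorProduct.lift_tmul _ _ _ c a
  have ha' : ∀ a, a' a = AdjoinRoot.of f ((1 : k') ⊗ₜ[k] a) := fun a => rfl
  have h21 : F2.comp F1 = RingHom.id _ := by
    refine AdjoinRoot.ringHom_ext (RingHom.ext fun x => ?_) ?_
    · show F2 (F1 (AdjoinRoot.of f x)) = AdjoinRoot.of f x
      rw [AdjoinRoot.lift_of]
      induction x using TensorProduct.induction_on with
      | zero => simp
      | add a b ha hb => simp only [map_add, ha, hb]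
      | tmul c a =>
        show F2 (algebraMap k' k'' c ⊗ₜ[k] a) = _
        rw [hF2]
        show g (e.symm (algebraMap k' k'' c)) * _ = _
        rw [e.symm.commutes, AdjoinRoot.algebraMap_eq, AdjoinRoot.lift_of, ha', RingHom.comp_apply, ← map_mul]
        simp [Algebra.TensorProduct.includeLeftRingHom]
    · show F2 (F1 (AdjoinRoot.root f)) = AdjoinRoot.root f
      rw [AdjoinRoot.lift_root, hF2, map_one, mul_one]
      show g (e.symm (e (AdjoinRoot.root _))) = _
      rw [e.symm_apply_apply, AdjoinRoot.lift_root]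
  have hG : F1.comp g'.toRingHom = Algebra.TensorProduct.includeLeftRingHom := by
    have hg : F1.comp g = (Algebra.TensorProduct.includeLeftRingHom (R := k) (B := A)).comp e.toRingHom := by
      refine AdjoinRoot.ringHom_ext (RingHom.ext fun x => ?_) ?_
      · show F1 (g (AdjoinRoot.of _ x)) = (e (AdjoinRoot.of _ x)) ⊗ₜ[k] (1 : A)
        rw [AdjoinRoot.lift_of, RingHom.comp_apply, AdjoinRoot.lift_of, ← AdjoinRoot.algebraMap_eq, e.commutes]
        rfl
      · show F1 (g (AdjoinRoot.root _)) = r ⊗ₜ[k] (1 : A)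
        rw [AdjoinRoot.lift_root, AdjoinRoot.lift_root]
    refine RingHom.ext fun c => ?_
    show F1 (g (e.symm c)) = c ⊗ₜ[k] (1 : A)
    have := RingHom.congr_fun hg (e.symm c)
    simp only [RingHom.comp_apply] at this
    rw [this]
    show e (e.symm c) ⊗ₜ[k] (1 : A) = _
    rw [e.apply_symm_apply]
  have h12 : F1.comp F2 = RingHom.id _ := by
    refine RingHom.ext fun x => ?_
    induction x using TensorProduct.induction_on with
    | zero => simp
    | add a b ha hb => simp only [map_add, ha, hb]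
    | tmul c a =>
      show F1 (F2 (c ⊗ₜ[k] a)) = c ⊗ₜ[k] a
      rw [hF2, map_mul, show F1 (g' c) = c ⊗ₜ[k] (1 : A) from RingHom.congr_fun hG c, ha', AdjoinRoot.lift_of]
      simp [incl]
  exact IsRegularRing.of_ringEquiv (RingEquiv.ofRingHom F1 F2 h12 h21).symm

theorem D_eq_zero_of_map {F R : Type u} [CommRing F] [CommRing R] [IsLocalRing R] [CharP R p] [Algebra F R]
    [Algebra A R] [Algebra k R] [IsScalarTower k A R] (hloc : ∀ a ∈ maximalIdeal A, algebraMap A R a ∈ maximalIdeal R)
    {n : ℕ} (c : Fin (n + 1) → ResidueField A) (t : Fin (n + 1) → k) (s : Fin n → R)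
    (hs : ∀ i, s i ^ p = algebraMap k R (t i.castSucc)) (hc : c (Fin.last n) ≠ 0)
    (hy : (mapBaseChange ℤ k A).lTensor (ResidueField A)
      (∑ i, c i ⊗ₜ[A] ((1 : A) ⊗ₜ[k] D ℤ k (t i))) = 0) :
    (1 : R ⧸ maximalIdeal R) ⊗ₜ[R] D F R (algebraMap k R (t (Fin.last n))) = 0 := by
  classical
  let K := ResidueField A
  letI : Field (R ⧸ maximalIdeal R) := Ideal.Quotient.field _
  let σ : K →+* R ⧸ maximalIdeal R :=
    Ideal.Quotient.lift (maximalIdeal A) (algebraMap A (R ⧸ maximalIdeal R)) fun a ha =>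
      Ideal.Quotient.eq_zero_iff_mem.mpr (hloc a ha)
  letI : Algebra K (R ⧸ maximalIdeal R) := σ.toAlgebra
  haveI : IsScalarTower A K (R ⧸ maximalIdeal R) := IsScalarTower.of_algebraMap_eq fun _ => rfl
  let T := (R ⧸ maximalIdeal R) ⊗[R] KaehlerDifferential F R
  let d0 : Derivation ℤ A T := Derivation.mk'
    ((AddMonoidHom.toIntLinearMap (AddMonoidHom.mk' (fun a => (1 : R ⧸ maximalIdeal R) ⊗ₜ[R]
      D F R (algebraMap A R a)) fun a b => by
        rw [map_add, map_add, TensorProduct.tmul_add]))) fun a b => by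
    show (1 : R ⧸ maximalIdeal R) ⊗ₜ[R] D F R (algebraMap A R (a * b)) = _
    rw [map_mul, Derivation.leibniz, TensorProduct.tmul_add, TensorProduct.tmul_smul, TensorProduct.tmul_smul,
      algebraMap_smul, algebraMap_smul]
    rfl
  let Φ : K ⊗[A] KaehlerDifferential ℤ A →ₗ[K] T := d0.liftKaehlerDifferential.liftBaseChange K
  have hΦ := congrArg Φ hy
  rw [map_zero, map_sum, map_sum] at hΦ
  have hterm : ∀ i, Φ ((mapBaseChange ℤ k A).lTensor K (c i ⊗ₜ[A] ((1 : A) ⊗ₜ[k] D ℤ k (t i)))) =
      c i • ((1 : R ⧸ maximalIdeal R) ⊗ₜ[R] D F R (algebraMap k R (t i))) := fun i => by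
    rw [LinearMap.lTensor_tmul, KaehlerDifferential.mapBaseChange_tmul, one_smul, KaehlerDifferential.map_D,
      LinearMap.liftBaseChange_tmul, Derivation.liftKaehlerDifferential_comp_D,
      IsScalarTower.algebraMap_apply k A R (t i)]
    rfl
  rw [Finset.sum_congr rfl fun i _ => hterm i, Fin.sum_univ_castSucc] at hΦ
  have hzero : ∀ i : Fin n, D F R (algebraMap k R (t i.castSucc)) = 0 := fun i => by
    rw [← hs, Derivation.leibniz_pow, ← Nat.cast_smul_eq_nsmul R, CharP.cast_eq_zero, zero_smul]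
  rw [Finset.sum_eq_zero fun i _ => show c (Fin.castSucc i) • ((1 : R ⧸ maximalIdeal R) ⊗ₜ[R]
      D F R (algebraMap k R (t i.castSucc))) = 0 by rw [hzero, TensorProduct.tmul_zero]; exact smul_zero (A := T) (c (Fin.castSucc i)),
    zero_add] at hΦ
  have h1 := congrArg ((σ (c (Fin.last n)))⁻¹ • ·) hΦ
  have hne : σ (c (Fin.last n)) ≠ 0 := (map_ne_zero σ).mpr hc
  simp only [smul_zero] at h1
  rw [show c (Fin.last n) • ((1 : R ⧸ maximalIdeal R) ⊗ₜ[R] D F R (algebraMap k R (t (Fin.last n)))) =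
    σ (c (Fin.last n)) • ((1 : R ⧸ maximalIdeal R) ⊗ₜ[R] D F R (algebraMap k R (t (Fin.last n)))) from rfl,
    smul_smul, inv_mul_cancel₀ hne, one_smul] at h1
  exact h1

theorem pow_mem_range_adjoinRoot {k' : Type u} [Field k'] [Algebra k k'] [CharP k' p]
    (hpow' : ∀ x : k', x ^ p ∈ Set.range (algebraMap k k')) (t : k)
    [Fact (Irreducible (X ^ p - C (algebraMap k k' t)))] (x : AdjoinRoot (X ^ p - C (algebraMap k k' t))) :
    x ^ p ∈ Set.range (algebraMap k (AdjoinRoot (X ^ p - C (algebraMap k k' t)))) := by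
  have hroot : AdjoinRoot.root (X ^ p - C (algebraMap k k' t)) ^ p = AdjoinRoot.of _ (algebraMap k k' t) := by
    have h := AdjoinRoot.eval₂_root (X ^ p - C (algebraMap k k' t))
    rwa [eval₂_sub, eval₂_pow, eval₂_X, eval₂_C, sub_eq_zero] at h
  haveI : CharP (AdjoinRoot (X ^ p - C (algebraMap k k' t))) p :=
    charP_of_injective_ringHom (AdjoinRoot.of (X ^ p - C (algebraMap k k' t))).injective p
  obtain ⟨q, rfl⟩ := AdjoinRoot.mk_surjective x
  induction q using Polynomial.induction_on' with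
  | add u v hu hv =>
    obtain ⟨a, ha⟩ := hu
    obtain ⟨b, hb⟩ := hv
    exact ⟨a + b, by rw [map_add, map_add, add_pow_char, ha, hb]⟩
  | monomial m a =>
    obtain ⟨r, hr⟩ := hpow' a
    refine ⟨r * t ^ m, ?_⟩
    rw [← C_mul_X_pow_eq_monomial, map_mul (AdjoinRoot.mk _), map_pow (AdjoinRoot.mk _), AdjoinRoot.mk_X,
      AdjoinRoot.mk_C, mul_pow, ← pow_mul, mul_comm m, pow_mul, hroot,
      IsScalarTower.algebraMap_apply k k' (AdjoinRoot _), AdjoinRoot.algebraMap_eq, map_mul, map_pow, ← map_pow _ a p, hr,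
      map_mul, map_pow]
    simp [map_pow]

theorem eq_zero_of_roots
    (h : ∀ (k' : Type u) [Field k'] [Algebra k k'], Module.Finite k k' →
      (∀ x : k', x ^ p ∈ Set.range (algebraMap k k')) → IsRegularRing (k' ⊗[k] A))
    {k' : Type u} [Field k'] [Algebra k k'] [FiniteDimensional k k']
    (hpow' : ∀ x : k', x ^ p ∈ Set.range (algebraMap k k')) {n : ℕ} (c : Fin (n + 1) → ResidueField A)
    (t : Fin (n + 1) → k) (s : Fin n → k') (hs : ∀ i, s i ^ p = algebraMap k k' (t i.castSucc))
    (hlast : ∀ b : k', b ^ p ≠ algebraMap k k' (t (Fin.last n)))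
    (hy : (mapBaseChange ℤ k A).lTensor (ResidueField A)
      (∑ i, c i ⊗ₜ[A] ((1 : A) ⊗ₜ[k] D ℤ k (t i))) = 0) :
    c (Fin.last n) = 0 := by
  classical
  by_contra hc
  let K := ResidueField A
  -- the ring `R = k' ⊗ A`
  haveI : CharP k' p := charP_of_injective_ringHom (algebraMap k k').injective p
  haveI : CharP (k' ⊗[k] A) p := charP_tensor p
  haveI := isLocalRing_tensor (A := A) (k' := k') p fun x => hpow' x
  haveI := h k' inferInstance hpow'
  haveI := IsRegularLocalRing.of_isRegularRing_of_isLocalRing (k' ⊗[k] A)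
  letI : Algebra A (k' ⊗[k] A) := (Algebra.TensorProduct.includeRight : A →ₐ[k] k' ⊗[k] A).toRingHom.toAlgebra
  haveI : IsScalarTower k A (k' ⊗[k] A) := IsScalarTower.of_algebraMap_eq fun x =>
    ((Algebra.TensorProduct.includeRight : A →ₐ[k] k' ⊗[k] A).commutes x).symm
  have hloc : ∀ a ∈ maximalIdeal A, algebraMap A (k' ⊗[k] A) a ∈ maximalIdeal (k' ⊗[k] A) :=
    fun a ha => map_mem_maximalIdeal p (fun x => hpow' x) ha
  letI : Field ((k' ⊗[k] A) ⧸ maximalIdeal (k' ⊗[k] A)) := Ideal.Quotient.field _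
  haveI := S4571.formallySmooth_of_prime (k := k) (K := (k' ⊗[k] A) ⧸ maximalIdeal (k' ⊗[k] A))
  have hb := D_eq_zero_of_map p (F := (⊥ : Subfield k)) hloc c t (fun i => s i ⊗ₜ[k] (1 : A)) (fun i => by
    rw [Algebra.TensorProduct.tmul_pow, one_pow, hs]
    exact (Algebra.TensorProduct.algebraMap_apply (t i.castSucc)).symm) hc hy
  rw [Algebra.TensorProduct.algebraMap_apply] at hb
  -- contradiction
  haveI : Fact (Irreducible (X ^ p - C (algebraMap k k' (t (Fin.last n))))) :=
    ⟨X_pow_sub_C_irreducible_of_prime hp.out hlast⟩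
  haveI : Module.Finite k' (AdjoinRoot (X ^ p - C (algebraMap k k' (t (Fin.last n))))) :=
    (monic_X_pow_sub_C _ hp.out.ne_zero).finite_adjoinRoot
  haveI : Module.Finite k (AdjoinRoot (X ^ p - C (algebraMap k k' (t (Fin.last n))))) := Module.Finite.trans k' _
  have hpow'' := pow_mem_range_adjoinRoot p hpow' (t (Fin.last n))
  exact not_isRegularRing_of_D_eq_zero p (algebraMap k k' (t (Fin.last n))) hb AlgEquiv.refl
    (h _ inferInstance hpow'')

theorem injective_of_regular_tensor
    (h : ∀ (k' : Type u) [Field k'] [Algebra k k'], Module.Finite k k' →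
      (∀ x : k', x ^ p ∈ Set.range (algebraMap k k')) → IsRegularRing (k' ⊗[k] A)) :
    Function.Injective ((mapBaseChange ℤ k A).lTensor (ResidueField A)) := by
  classical
  let K := ResidueField A
  let P : ℕ → Prop := fun n => ∃ (c : Fin n → K) (t : Fin n → k),
    (∑ i, c i ⊗ₜ[A] ((1 : A) ⊗ₜ[k] D ℤ k (t i)) : K ⊗[A] (A ⊗[k] KaehlerDifferential ℤ k)) ≠ 0 ∧
      (mapBaseChange ℤ k A).lTensor K (∑ i, c i ⊗ₜ[A] ((1 : A) ⊗ₜ[k] D ℤ k (t i))) = 0
  have hrep : ∀ y : K ⊗[A] (A ⊗[k] KaehlerDifferential ℤ k), ∃ (n : ℕ) (c : Fin n → K) (t : Fin n → k),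
      ∑ i, c i ⊗ₜ[A] ((1 : A) ⊗ₜ[k] D ℤ k (t i)) = y := by
    intro y
    induction y using TensorProduct.induction_on with
    | zero => exact ⟨0, Fin.elim0, Fin.elim0, by simp⟩
    | add a b ha hb =>
      obtain ⟨n, c, t, rfl⟩ := ha
      obtain ⟨m, c', t', rfl⟩ := hb
      exact ⟨n + m, Fin.append c c', Fin.append t t', by simp [Fin.sum_univ_add]⟩
    | tmul c w =>
      induction w using TensorProduct.induction_on with
      | zero => exact ⟨0, Fin.elim0, Fin.elim0, by simp⟩
      | add a b ha hb =>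
        obtain ⟨n, c1, t, h1⟩ := ha
        obtain ⟨m, c', t', h2⟩ := hb
        exact ⟨n + m, Fin.append c1 c', Fin.append t t', by
          rw [TensorProduct.tmul_add, ← h1, ← h2]; simp [Fin.sum_univ_add]⟩
      | tmul a z =>
        induction (KaehlerDifferential.span_range_derivation ℤ k).ge (Submodule.mem_top (x := z)) using
          Submodule.span_induction generalizing a with
        | mem z hz =>
          obtain ⟨x, rfl⟩ := hz
          exact ⟨1, fun _ => a • c, fun _ => x, by
            simp [TensorProduct.smul_tmul, TensorProduct.smul_tmul']⟩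
        | zero => exact ⟨0, Fin.elim0, Fin.elim0, by simp⟩
        | add x y _ _ hx hy =>
          obtain ⟨n, c1, t, h1⟩ := hx a
          obtain ⟨m, c', t', h2⟩ := hy a
          exact ⟨n + m, Fin.append c1 c', Fin.append t t', by
            rw [TensorProduct.tmul_add, TensorProduct.tmul_add, ← h1, ← h2]; simp [Fin.sum_univ_add]⟩
        | smul r x _ hx => rw [← TensorProduct.smul_tmul]; exact hx _
  refine (injective_iff_map_eq_zero _).mpr fun y hy => ?_
  obtain ⟨n0, c0, t0, rfl⟩ := hrep y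
  by_contra hne
  have hex : ∃ n, P n := ⟨n0, c0, t0, hne, hy⟩
  obtain ⟨c, t, hne, hy⟩ := Nat.find_spec hex
  rcases hn : Nat.find hex with _ | n
  · refine hne ?_
    have : IsEmpty (Fin (Nat.find hex)) := by rw [hn]; infer_instance
    exact Finset.sum_of_isEmpty _
  have hmin : ∀ (c : Fin n → K) (t : Fin n → k),
      (mapBaseChange ℤ k A).lTensor K (∑ i, c i ⊗ₜ[A] ((1 : A) ⊗ₜ[k] D ℤ k (t i))) = 0 →
      (∑ i, c i ⊗ₜ[A] ((1 : A) ⊗ₜ[k] D ℤ k (t i)) : K ⊗[A] (A ⊗[k] KaehlerDifferential ℤ k)) = 0 :=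
    fun c t h0 => by
      by_contra h1
      exact Nat.find_min hex (hn ▸ Nat.lt_succ_self n) ⟨c, t, h1, h0⟩
  clear! c0 t0
  revert c t
  rw [hn]
  intro c t hne hy
  -- adjoin the `p`-th roots of all but the last element
  choose s hs using fun i : Fin n => IsAlgClosed.exists_pow_nat_eq (algebraMap k (AlgebraicClosure k) (t i.castSucc)) hp.out.pos
  let k' := IntermediateField.adjoin k (Set.range s)
  haveI : FiniteDimensional k k' := IntermediateField.finiteDimensional_adjoin fun x _ =>
    (Algebra.IsAlgebraic.isAlgebraic x).isIntegral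
  let W : Submodule k (KaehlerDifferential ℤ k) := Submodule.span k (Set.range fun i : Fin n => D ℤ k (t i.castSucc))
  haveI : CharP (AlgebraicClosure k) p := charP_of_injective_ringHom (algebraMap k (AlgebraicClosure k)).injective p
  have hk' : ∀ x : AlgebraicClosure k, x ∈ k' → ∃ r : k, algebraMap k (AlgebraicClosure k) r = x ^ p ∧ D ℤ k r ∈ W :=
    fun x hx => by
    induction hx using IntermediateField.adjoin_induction with
    | mem x hx =>
      obtain ⟨i, rfl⟩ := hx
      exact ⟨t i.castSucc, (hs i).symm, Submodule.subset_span ⟨i, rfl⟩⟩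
    | algebraMap a =>
      refine ⟨a ^ p, map_pow _ _ _, ?_⟩
      rw [Derivation.leibniz_pow, ← Nat.cast_smul_eq_nsmul k, CharP.cast_eq_zero, zero_smul]
      exact zero_mem _
    | add x y _ _ hx hy =>
      obtain ⟨a, ha, ha'⟩ := hx
      obtain ⟨b, hb, hb'⟩ := hy
      exact ⟨a + b, by rw [map_add, ha, hb, add_pow_char], by rw [map_add]; exact add_mem ha' hb'⟩
    | inv x _ hx =>
      obtain ⟨a, ha, ha'⟩ := hx
      exact ⟨a⁻¹, by rw [map_inv₀, ha, inv_pow], by rw [Derivation.leibniz_inv]; exact W.smul_mem _ ha'⟩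
    | mul x y _ _ hx hy =>
      obtain ⟨a, ha, ha'⟩ := hx
      obtain ⟨b, hb, hb'⟩ := hy
      exact ⟨a * b, by rw [map_mul, ha, hb, mul_pow], by
        rw [Derivation.leibniz]; exact add_mem (W.smul_mem _ hb') (W.smul_mem _ ha')⟩
  have hpow' : ∀ x : k', x ^ p ∈ Set.range (algebraMap k k') := fun x => by
    obtain ⟨r, hr, -⟩ := hk' x x.2
    exact ⟨r, Subtype.ext hr⟩
  -- the last element is not a `p`-th power there
  have hlast : ∀ b : k', b ^ p ≠ algebraMap k k' (t (Fin.last n)) := by
    intro b hb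
    obtain ⟨r, hr, hrW⟩ := hk' b b.2
    have : r = t (Fin.last n) := (algebraMap k (AlgebraicClosure k)).injective (hr.trans (congrArg Subtype.val hb))
    obtain ⟨a, ha⟩ := (Submodule.mem_span_range_iff_exists_fun k).mp (this ▸ hrW)
    have hsum : (∑ i, c i ⊗ₜ[A] ((1 : A) ⊗ₜ[k] D ℤ k (t i))) =
        ∑ i : Fin n, (c i.castSucc + algebraMap A K (algebraMap k A (a i)) * c (Fin.last n)) ⊗ₜ[A]
          ((1 : A) ⊗ₜ[k] D ℤ k (t i.castSucc)) := by
      rw [Fin.sum_univ_castSucc, ← ha, TensorProduct.tmul_sum, TensorProduct.tmul_sum, ← Finset.sum_add_distrib]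
      refine Finset.sum_congr rfl fun i _ => ?_
      rw [TensorProduct.add_tmul, TensorProduct.tmul_smul (a i), ← algebraMap_smul A (a i) ((1 : A) ⊗ₜ[k] _),
        ← TensorProduct.smul_tmul, Algebra.smul_def]
    exact hne (hsum.trans (hmin _ _ (hsum ▸ hy)))
  have hc := eq_zero_of_roots p h hpow' c t (fun i => ⟨s i, IntermediateField.subset_adjoin k _ ⟨i, rfl⟩⟩)
    (fun i => Subtype.ext (hs i)) hlast hy
  have hsum : (∑ i, c i ⊗ₜ[A] ((1 : A) ⊗ₜ[k] D ℤ k (t i))) =
      ∑ i : Fin n, c i.castSucc ⊗ₜ[A] ((1 : A) ⊗ₜ[k] D ℤ k (t i.castSucc)) := by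
    rw [Fin.sum_univ_castSucc, hc, TensorProduct.zero_tmul, add_zero]
  exact hne (hsum.trans (hmin _ _ (hsum ▸ hy)))

/-- Geometric regularity at exponent one implies adic formal smoothness. -/
theorem adicSmooth_of_regular_tensor
    (h : ∀ (k' : Type u) [Field k'] [Algebra k k'], Module.Finite k k' →
      (∀ x : k', x ^ p ∈ Set.range (algebraMap k k')) → IsRegularRing (k' ⊗[k] A)) :
    CAlgX.IsAdicFormallySmooth k A (maximalIdeal A) := by
  haveI := h k inferInstance fun x => ⟨x ^ p, rfl⟩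
  haveI : IsRegularRing A := IsRegularRing.of_ringEquiv (Algebra.TensorProduct.lid k A).toRingEquiv
  haveI := IsRegularLocalRing.of_isRegularRing_of_isLocalRing A
  exact S4571.result.mpr ⟨symGrBijective_of_isRegularLocalRing A, injective_of_regular_tensor p h⟩

end insep

end Groth.Agent.PP16Lib

end
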