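import Groth.Agent.PP16Lib.GeomRegFS
import Groth.Agent.S4512
import Groth.Agent.S2035
import Mathlib.RingTheory.Localization.BaseChange

/-!
Geometric regularity: local rings and adic formal smoothness.
-/

set_option autoImplicit false
set_option linter.unusedSectionVars false
universe u

open IsLocalRing
open scoped TensorProduct

namespace Groth.Agent.PP16Lib

theorem isGeometricallyRegular_iff_adicSmooth {k A : Type u} [Field k] [CommRing A] [IsLocalRing A]
    [IsNoetherianRing A] [Algebra k A] :
    CAlg.IsGeometricallyRegular k A ↔ CAlgX.IsAdicFormallySmooth k A (maximalIdeal A) := by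
  refine ⟨fun h => ?_, fun h k' _ _ _ => S4512.isRegularRing_tensor h⟩
  obtain ⟨p, hp⟩ := CharP.exists k
  rcases CharP.char_is_prime_or_zero k p with hp' | hp'
  · haveI : Fact p.Prime := ⟨hp'⟩
    exact adicSmooth_of_regular_tensor p fun k' _ _ hf _ => h k' hf
  · subst hp'
    haveI : CharZero k := CharP.charP_to_charZero k
    haveI := h k inferInstance
    haveI : IsRegularRing A := IsRegularRing.of_ringEquiv (Algebra.TensorProduct.lid k A).toRingEquiv
    exact S2035.result.mp (IsRegularLocalRing.of_isRegularRing_of_isLocalRing A)

theorem isRegularLocalRing_atPrime_iff {T T' : Type u} [CommRing T] [CommRing T'] [Algebra T T'] (M : Submonoid T)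
    [IsLocalization M T'] (P' : Ideal T') [P'.IsPrime] :
    IsRegularLocalRing (Localization.AtPrime (P'.comap (algebraMap T T'))) ↔
      IsRegularLocalRing (Localization.AtPrime P') := by
  haveI := IsLocalization.isLocalization_isLocalization_atPrime_isLocalization M (Localization.AtPrime P') P'
  let e := (IsLocalization.algEquiv (P'.comap (algebraMap T T')).primeCompl (Localization.AtPrime P')
    (Localization.AtPrime (P'.comap (algebraMap T T')))).toRingEquiv
  exact ⟨fun _ => IsRegularLocalRing.of_ringEquiv e.symm,
    fun _ => IsRegularLocalRing.of_ringEquiv (R := Localization.AtPrime P') e⟩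

theorem isRegularRing_of_isLocalization {T T' : Type u} [CommRing T] [CommRing T'] [Algebra T T'] (M : Submonoid T)
    [IsLocalization M T'] [IsRegularRing T] : IsRegularRing T' := by
  haveI : IsNoetherianRing T' := IsLocalization.isNoetherianRing M T' inferInstance
  rw [isRegularRing_iff]
  intro P' hP'
  exact (isRegularLocalRing_atPrime_iff M P').mp inferInstance

variable {k C : Type u} [Field k] [CommRing C] [Algebra k C] [IsNoetherianRing C]

theorem isGeometricallyRegular_iff_atPrime :
    CAlg.IsGeometricallyRegular k C ↔
      ∀ (p : Ideal C) [p.IsPrime], CAlg.IsGeometricallyRegular k (Localization.AtPrime p) := by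
  constructor
  · intro h p _ k' _ _ hf
    letI : Algebra (k' ⊗[k] C) (k' ⊗[k] Localization.AtPrime p) :=
      (Algebra.TensorProduct.map (AlgHom.id k' k') (IsScalarTower.toAlgHom k C (Localization.AtPrime p))).toRingHom.toAlgebra
    haveI : IsScalarTower k' (k' ⊗[k] C) (k' ⊗[k] Localization.AtPrime p) :=
      IsScalarTower.of_algebraMap_eq fun c => ((Algebra.TensorProduct.map (AlgHom.id k' k')
        (IsScalarTower.toAlgHom k C (Localization.AtPrime p))).commutes c).symm
    haveI := h k' hf
    haveI := IsLocalization.tensorProduct_tensorProduct_right (R := k) (S := k') p.primeCompl (Localization.AtPrime p)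
      (RingHom.ext fun c => by simp [RingHom.algebraMap_toAlgebra])
    exact isRegularRing_of_isLocalization (p.primeCompl.map (Algebra.TensorProduct.includeRight (R := k) (A := k')))
  · intro h k' _ _ hf
    haveI := isNoetherianRing_tensor (k := k) (k' := k') (A := C)
    rw [isRegularRing_iff]
    intro P hP
    let p := P.comap (Algebra.TensorProduct.includeRight (R := k) (A := k') (B := C))
    haveI : p.IsPrime := Ideal.comap_isPrime _ P
    letI : Algebra (k' ⊗[k] C) (k' ⊗[k] Localization.AtPrime p) :=
      (Algebra.TensorProduct.map (AlgHom.id k' k') (IsScalarTower.toAlgHom k C (Localization.AtPrime p))).toRingHom.toAlgebra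
    haveI : IsScalarTower k' (k' ⊗[k] C) (k' ⊗[k] Localization.AtPrime p) :=
      IsScalarTower.of_algebraMap_eq fun c => ((Algebra.TensorProduct.map (AlgHom.id k' k')
        (IsScalarTower.toAlgHom k C (Localization.AtPrime p))).commutes c).symm
    haveI := IsLocalization.tensorProduct_tensorProduct_right (R := k) (S := k') p.primeCompl (Localization.AtPrime p)
      (RingHom.ext fun c => by simp [RingHom.algebraMap_toAlgebra])
    let M := p.primeCompl.map (Algebra.TensorProduct.includeRight (R := k) (A := k') (B := C))
    have hdis : Disjoint (M : Set (k' ⊗[k] C)) P := Set.disjoint_left.mpr fun x hx hx' => by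
      obtain ⟨c, hc, rfl⟩ := Submonoid.mem_map.mp hx
      exact hc hx'
    haveI : IsLocalization M (k' ⊗[k] Localization.AtPrime p) := by assumption
    haveI := IsLocalization.isPrime_of_isPrime_disjoint M (k' ⊗[k] Localization.AtPrime p) P hP hdis
    haveI := h p k' hf
    have h2 := (isRegularLocalRing_atPrime_iff M (P.map (algebraMap (k' ⊗[k] C) (k' ⊗[k] Localization.AtPrime p)))).mpr
      inferInstance
    have heq : ∀ (P₁ P₂ : Ideal (k' ⊗[k] C)) [P₁.IsPrime] [P₂.IsPrime], P₁ = P₂ →
        IsRegularLocalRing (Localization.AtPrime P₁) → IsRegularLocalRing (Localization.AtPrime P₂) := by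
      intro P₁ P₂ _ _ he hr
      subst he
      exact hr
    exact heq _ P (IsLocalization.comap_map_of_isPrime_disjoint M (k' ⊗[k] Localization.AtPrime p) hP hdis) h2

end Groth.Agent.PP16Lib
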