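import Groth.Agent.PP16Lib.CompletionEquiv
import Groth.Agent.RegularSerre.Localization
import Mathlib.RingTheory.RegularLocalRing.Polynomial

/-!
Adic completions of regular rings are regular.
-/

set_option autoImplicit false
universe u

open IsLocalRing

namespace Groth.Agent.PP16Lib

variable {A : Type u} [CommRing A] [IsNoetherianRing A] (J : Ideal A)

theorem exists_sub_mem_map_pow (N : ℕ) (z : AdicCompletion J A) :
    ∃ x : A, algebraMap A (AdicCompletion J A) x - z ∈ (J ^ N).map (algebraMap A (AdicCompletion J A)) := by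
  obtain ⟨x, hx⟩ := Submodule.Quotient.mk_surjective _ (AdicCompletion.eval J A N z)
  refine ⟨x, ?_⟩
  rw [← Submodule.restrictScalars_mem A, ← Ideal.smul_top_eq_map,
    AdicCompletion.pow_smul_top_eq_ker_eval (IsNoetherian.noetherian J), LinearMap.mem_ker, map_sub, sub_eq_zero,
    ← hx, AdicCompletion.algebraMap_apply]
  rfl

theorem mem_of_algebraMap_mem {I : Ideal A} {N : ℕ} (hI : J ^ N ≤ I) {a : A}
    (ha : algebraMap A (AdicCompletion J A) a ∈ I.map (algebraMap A (AdicCompletion J A))) : a ∈ I := by
  let ρ : AdicCompletion J A →ₐ[A] A ⧸ I := (Ideal.Quotient.factorₐ A hI).comp (AdicCompletion.evalₐ J N)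
  have h : I.map (algebraMap A (AdicCompletion J A)) ≤ RingHom.ker ρ := Ideal.map_le_iff_le_comap.mpr fun x hx => by
    rw [Ideal.mem_comap, RingHom.mem_ker, ρ.commutes]
    exact Ideal.Quotient.eq_zero_iff_mem.mpr hx
  have := h ha
  rw [RingHom.mem_ker, ρ.commutes] at this
  exact Ideal.Quotient.eq_zero_iff_mem.mp this

theorem isRegularLocalRing_atPrime_completion_iff {m : Ideal A} [m.IsMaximal] (hle : J ≤ m)
    (M : Ideal (AdicCompletion J A)) [M.IsPrime] (hMm : m.map (algebraMap A (AdicCompletion J A)) = M) :
    IsRegularLocalRing (Localization.AtPrime m) ↔ IsRegularLocalRing (Localization.AtPrime M) := by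
  haveI : M.IsMaximal := hMm ▸ AdicCompletion.isMaximal_map_of_le J m hle (IsNoetherian.noetherian J)
  haveI : IsNoetherianRing (AdicCompletion J A) := S0543.result A J
  haveI : IsNoetherianRing (Localization.AtPrime M) := IsLocalization.isNoetherianRing M.primeCompl _ inferInstance
  haveI : IsNoetherianRing (Localization.AtPrime m) := IsLocalization.isNoetherianRing m.primeCompl _ inferInstance
  have hcomap : m = M.comap (algebraMap A (AdicCompletion J A)) :=
    (‹m.IsMaximal›.eq_of_le (Ideal.comap_ne_top _ (Ideal.IsPrime.ne_top ‹_›)) (hMm ▸ Ideal.le_comap_map))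
  let φ := Localization.localRingHom m M (algebraMap A (AdicCompletion J A)) hcomap
  have hφ : ∀ a, φ (algebraMap A _ a) = algebraMap (AdicCompletion J A) _ (algebraMap A _ a) :=
    fun a => Localization.localRingHom_to_map m M _ hcomap a
  have hpow : ∀ (N : ℕ) (z : AdicCompletion J A),
      algebraMap (AdicCompletion J A) (Localization.AtPrime M) z ∈ maximalIdeal (Localization.AtPrime M) ^ N →
      z ∈ M ^ N := fun N z hz => by
    rw [← Localization.AtPrime.map_eq_maximalIdeal, ← Ideal.map_pow,
      IsLocalization.algebraMap_mem_map_algebraMap_iff M.primeCompl] at hz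
    obtain ⟨s, hs, hsz⟩ := hz
    rcases N with _ | N
    · simp
    obtain ⟨c, i, hi, hci⟩ := ‹M.IsMaximal›.exists_inv hs
    have h1 : (1 - c * s) ^ (N + 1) * z ∈ M ^ (N + 1) :=
      Ideal.mul_mem_right _ _ (Ideal.pow_mem_pow (show 1 - c * s ∈ M by rwa [← hci, add_sub_cancel_left]) _)
    obtain ⟨d, hd⟩ : ∃ d, (1 - c * s) ^ (N + 1) = 1 - d * s := by
      obtain ⟨d, hd⟩ := (sub_dvd_pow_sub_pow (1 - c * s) 1 (N + 1))
      exact ⟨c * d, by rw [one_pow] at hd; linear_combination hd⟩
    rw [hd, sub_mul, one_mul, mul_assoc] at h1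
    have h2 := add_mem h1 (Ideal.mul_mem_left _ d hsz)
    rwa [sub_add_cancel] at h2
  refine isRegularLocalRing_iff_of_quotients φ ?_ (fun N x hx => ?_) fun y => ?_
  · rw [← Localization.AtPrime.map_eq_maximalIdeal, ← Localization.AtPrime.map_eq_maximalIdeal, Ideal.map_map,
      show φ.comp (algebraMap A (Localization.AtPrime m)) = (algebraMap (AdicCompletion J A) (Localization.AtPrime M)).comp
        (algebraMap A (AdicCompletion J A)) from RingHom.ext hφ, ← Ideal.map_map, hMm]
  · obtain ⟨a, s, rfl⟩ := IsLocalization.exists_mk'_eq m.primeCompl x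
    have h1 : φ (algebraMap A _ a) ∈ maximalIdeal (Localization.AtPrime M) ^ N := by
      rw [← IsLocalization.mk'_spec (Localization.AtPrime m) a s, map_mul]
      exact Ideal.mul_mem_right _ _ hx
    rw [hφ] at h1
    have h2 := hpow N _ h1
    rw [← hMm, ← Ideal.map_pow] at h2
    rw [← Localization.AtPrime.map_eq_maximalIdeal, ← Ideal.map_pow, IsLocalization.mk'_mem_map_algebraMap_iff]
    exact ⟨1, one_mem _, by
      rw [one_mul]; exact mem_of_algebraMap_mem J (Ideal.pow_right_mono hle N) h2⟩
  · obtain ⟨z, s, rfl⟩ := IsLocalization.exists_mk'_eq M.primeCompl y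
    obtain ⟨c, i, hi, hci⟩ := ‹M.IsMaximal›.exists_inv s.2
    obtain ⟨x, hx⟩ := exists_sub_mem_map_pow J 2 (z * (c * (1 + i)))
    refine ⟨algebraMap A _ x, ?_⟩
    have h2 : (J ^ 2).map (algebraMap A (AdicCompletion J A)) ≤ M ^ 2 := by
      rw [← hMm, ← Ideal.map_pow]
      exact Ideal.map_mono (Ideal.pow_right_mono hle 2)
    have h3 : (algebraMap A (AdicCompletion J A) x) * s - z ∈ M ^ 2 := by
      have : (algebraMap A (AdicCompletion J A) x) * s - z =
          (algebraMap A (AdicCompletion J A) x - z * (c * (1 + i))) * s + (-z) * (i * i) := by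
        linear_combination (z * (1 + i)) * hci
      rw [this, pow_two]
      exact add_mem (Ideal.mul_mem_right _ _ (pow_two M ▸ h2 hx)) (Ideal.mul_mem_left _ _ (Ideal.mul_mem_mul hi hi))
    rw [hφ, ← Localization.AtPrime.map_eq_maximalIdeal, ← Ideal.map_pow]
    rw [show algebraMap (AdicCompletion J A) (Localization.AtPrime M) (algebraMap A _ x) -
        IsLocalization.mk' (Localization.AtPrime M) z s =
      IsLocalization.mk' (Localization.AtPrime M) (algebraMap A (AdicCompletion J A) x * s - z) s by
      rw [IsLocalization.eq_mk'_iff_mul_eq, sub_mul, IsLocalization.mk'_spec, map_sub, map_mul]]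
    exact (IsLocalization.mk'_mem_map_algebraMap_iff ..).mpr ⟨1, one_mem _, by rwa [one_mul]⟩

theorem isRegularRing_completion [IsRegularRing A] : IsRegularRing (AdicCompletion J A) := by
  haveI : IsNoetherianRing (AdicCompletion J A) := S0543.result A J
  rw [isRegularRing_iff]
  intro P hP
  obtain ⟨M, hM, hPM⟩ := Ideal.exists_le_maximal P hP.ne_top
  haveI := AdicCompletion.isAdicComplete_self J (IsNoetherian.noetherian J)
  have hJM : J.map (algebraMap A (AdicCompletion J A)) ≤ M :=
    (IsAdicComplete.le_jacobson_bot _).trans (sInf_le ⟨bot_le, hM⟩)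
  haveI := hM.isPrime
  have hsurj : Function.Surjective ((Ideal.Quotient.mk M).comp (algebraMap A (AdicCompletion J A))) := fun y => by
    obtain ⟨z, rfl⟩ := Ideal.Quotient.mk_surjective y
    obtain ⟨x, hx⟩ := exists_sub_mem_map_pow J 1 z
    exact ⟨x, Ideal.Quotient.eq.mpr (hJM (by rwa [pow_one] at hx))⟩
  haveI hm : (M.comap (algebraMap A (AdicCompletion J A))).IsMaximal := by
    letI := Ideal.Quotient.field M
    have := RingHom.ker_isMaximal_of_surjective _ hsurj
    rwa [← RingHom.comap_ker, Ideal.mk_ker] at this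
  have hle : J ≤ M.comap (algebraMap A (AdicCompletion J A)) := Ideal.map_le_iff_le_comap.mp hJM
  have hmap : (M.comap (algebraMap A (AdicCompletion J A))).map (algebraMap A (AdicCompletion J A)) = M :=
    (AdicCompletion.isMaximal_map_of_le J _ hle (IsNoetherian.noetherian J)).eq_of_le hM.ne_top Ideal.map_comap_le
  haveI : IsRegularLocalRing (Localization.AtPrime M) := (isRegularLocalRing_atPrime_completion_iff J hle M hmap).mp
    inferInstance
  haveI := RegularSerre.isRegularRing_of_isRegularLocalRing (Localization.AtPrime M)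
  have hdis : Disjoint (M.primeCompl : Set (AdicCompletion J A)) P :=
    Set.disjoint_left.mpr fun x hx hx' => hx (hPM hx')
  haveI := IsLocalization.isPrime_of_isPrime_disjoint M.primeCompl (Localization.AtPrime M) P hP hdis
  let P' := P.map (algebraMap (AdicCompletion J A) (Localization.AtPrime M))
  haveI := IsLocalization.isLocalization_isLocalization_atPrime_isLocalization M.primeCompl
    (Localization.AtPrime P') P'
  have hcomap : P'.comap (algebraMap (AdicCompletion J A) (Localization.AtPrime M)) = P :=
    IsLocalization.comap_map_of_isPrime_disjoint M.primeCompl (Localization.AtPrime M) hP hdis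
  haveI : IsLocalization.AtPrime (Localization.AtPrime P') P := by
    convert! ‹IsLocalization.AtPrime (Localization.AtPrime P') (P'.comap _)› using 1; exact hcomap.symm
  exact IsRegularLocalRing.of_ringEquiv (R := Localization.AtPrime P') (IsLocalization.algEquiv P.primeCompl
    (Localization.AtPrime P') (Localization.AtPrime P)).toRingEquiv

theorem isRegularRing_mvPowerSeries [IsRegularRing A] (n : ℕ) : IsRegularRing (MvPowerSeries (Fin n) A) :=
  haveI := isRegularRing_completion (MvPolynomial.idealOfVars (Fin n) A)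
  IsRegularRing.of_ringEquiv (MvPowerSeries.toAdicCompletionAlgEquiv (Fin n) A).symm.toRingEquiv

end Groth.Agent.PP16Lib
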