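import Groth.Agent.PP16Lib.QuasiReg
import Groth.Agent.QReg.RegularLocal
import Mathlib.RingTheory.KrullDimension.NonZeroDivisors
import Mathlib.RingTheory.RegularLocalRing.Defs
import Mathlib.RingTheory.Filtration

/-!
A Noetherian local ring is regular iff `Sym^n(m/m²) → m^n/m^(n+1)` is bijective for all `n`.
-/

set_option autoImplicit false
set_option linter.unusedSectionVars false

universe u

open IsLocalRing MvPolynomial

noncomputable section

namespace Groth.Agent.PP16Lib

variable {R : Type u} [CommRing R] [IsLocalRing R]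

theorem mem_pow_of_mul_mem {e : ℕ} {f : Fin (e + 1) → R} (hf : CAlgX.IsQuasiRegular f)
    (hspan : Ideal.span (Set.range f) = maximalIdeal R) (n : ℕ) :
    ∀ a, f 0 * a ∈ maximalIdeal R ^ (n + 1) → a ∈ maximalIdeal R ^ n := by
  intro a ha
  suffices ∀ k ≤ n, a ∈ maximalIdeal R ^ k from this n le_rfl
  intro k
  induction k with
  | zero => simp
  | succ k ih =>
    intro hk
    obtain ⟨F, hF, rfl⟩ := AdicLim.exists_isHomogeneous_eval f hspan (ih (Nat.le_of_succ_le hk))
    have h2 := hf (1 + k) (X 0 * F) ((isHomogeneous_X _ _).mul hF) (by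
      rw [hspan, map_mul, eval_X]
      exact Ideal.pow_le_pow_right (by omega) ha)
    refine QReg.eval_mem_pow_succ (fun i => hspan ▸ Ideal.subset_span ⟨i, rfl⟩) hF fun d => ?_
    have h3 := h2 (Finsupp.single 0 1 + d)
    rwa [coeff_X_mul, hspan] at h3

variable [IsNoetherianRing R]

theorem mem_nonZeroDivisors_of_quasiRegular {e : ℕ} {f : Fin (e + 1) → R} (hf : CAlgX.IsQuasiRegular f)
    (hspan : Ideal.span (Set.range f) = maximalIdeal R) : f 0 ∈ nonZeroDivisors R := by
  refine mem_nonZeroDivisors_iff_right.mpr fun a ha => ?_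
  have h : a ∈ ⨅ n, maximalIdeal R ^ n := by
    refine Submodule.mem_iInf _ |>.mpr fun n => mem_pow_of_mul_mem hf hspan n a ?_
    rw [mul_comm, ha]
    exact zero_mem _
  rwa [Ideal.iInf_pow_eq_bot_of_isLocalRing _ (maximalIdeal.isMaximal R).ne_top, Ideal.mem_bot] at h

theorem map_mk_span {e : ℕ} {f : Fin (e + 1) → R} :
    Ideal.span (Set.range fun i : Fin e => Ideal.Quotient.mk (Ideal.span {f 0}) (f i.succ)) =
      (Ideal.span (Set.range f)).map (Ideal.Quotient.mk (Ideal.span {f 0})) := by
  rw [Ideal.map_span, ← Set.range_comp]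
  refine le_antisymm (Ideal.span_mono ?_) (Ideal.span_le.mpr ?_)
  · rintro _ ⟨i, rfl⟩
    exact ⟨i.succ, rfl⟩
  · rintro _ ⟨i, rfl⟩
    induction i using Fin.cases with
    | zero => rw [Function.comp_apply, Ideal.Quotient.eq_zero_iff_mem.mpr (Ideal.mem_span_singleton_self _)]; exact zero_mem _
    | succ i => exact Ideal.subset_span ⟨i, rfl⟩

theorem isQuasiRegular_quotient {e : ℕ} {f : Fin (e + 1) → R} (hf : CAlgX.IsQuasiRegular f)
    (hspan : Ideal.span (Set.range f) = maximalIdeal R) :
    CAlgX.IsQuasiRegular fun i : Fin e => Ideal.Quotient.mk (Ideal.span {f 0}) (f i.succ) := by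
  classical
  intro n Q hQ he d
  rw [map_mk_span, hspan] at he ⊢
  obtain ⟨P₀, hP₀⟩ := MvPolynomial.map_surjective (Ideal.Quotient.mk (Ideal.span {f 0})) Ideal.Quotient.mk_surjective Q
  obtain ⟨P, hP, hPQ⟩ : ∃ P, P.IsHomogeneous n ∧ MvPolynomial.map (Ideal.Quotient.mk (Ideal.span {f 0})) P = Q := by
    refine ⟨homogeneousComponent n P₀, homogeneousComponent_isHomogeneous n P₀, MvPolynomial.ext _ _ fun d => ?_⟩
    rw [coeff_map, coeff_homogeneousComponent, ← hP₀, coeff_map]
    split_ifs with hd
    · rfl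
    · rw [map_zero, ← coeff_map, hP₀]
      by_contra hne
      refine hd ?_
      rw [Finsupp.degree_eq_weight_one]
      exact hQ (Ne.symm hne)
  have hev : eval (fun i : Fin e => f i.succ) P ∈ maximalIdeal R ^ (n + 1) ⊔ Ideal.span {f 0} := by
    rw [← Ideal.mk_ker (I := Ideal.span {f 0}), sup_comm, RingHom.ker_eq_comap_bot, sup_comm,
      ← Ideal.comap_map_of_surjective _ Ideal.Quotient.mk_surjective, Ideal.mem_comap, Ideal.map_pow]
    rw [← hPQ, eval_map] at he
    convert he using 1
    rw [eval_eq, eval₂_eq, map_sum]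
    simp [map_mul, map_prod, map_pow]
  obtain ⟨y, hy, z, hz, hyz⟩ := Submodule.mem_sup.mp hev
  obtain ⟨a, rfl⟩ := Ideal.mem_span_singleton'.mp hz
  rw [← hPQ, coeff_map]
  refine Ideal.mem_map_of_mem _ ?_
  rcases n with _ | j
  · by_cases hd : P.coeff d = 0
    · rw [hd]; exact zero_mem _
    obtain rfl : d = 0 := (Finsupp.degree_eq_zero_iff d).mp (by rw [Finsupp.degree_eq_weight_one]; exact hP hd)
    rw [(totalDegree_eq_zero_iff_eq_C).mp (Nat.eq_zero_of_le_zero hP.totalDegree_le), eval_C] at hyz
    rw [← hyz]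
    exact add_mem (by simpa using hy) (Ideal.mul_mem_left _ _ (hspan ▸ Ideal.subset_span ⟨0, rfl⟩))
  · have hg : eval (fun i : Fin e => f i.succ) P ∈ maximalIdeal R ^ (j + 1) :=
      QReg.eval_mem_pow (fun i => hspan ▸ Ideal.subset_span ⟨i.succ, rfl⟩) hP
    have ha : f 0 * a ∈ maximalIdeal R ^ (j + 1) := by
      rw [show f 0 * a = eval (fun i : Fin e => f i.succ) P - y by rw [← hyz]; ring]
      exact sub_mem hg (Ideal.pow_le_pow_right (Nat.le_succ _) hy)
    obtain ⟨F, hF, hFa⟩ := AdicLim.exists_isHomogeneous_eval f hspan (mem_pow_of_mul_mem hf hspan j a ha)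
    have h2 := hf (j + 1) (rename Fin.succ P - X 0 * F)
      (hP.rename_isHomogeneous.sub (by simpa [add_comm] using (isHomogeneous_X R (0 : Fin (e + 1))).mul hF)) (by
      rw [hspan, map_sub, eval_rename, map_mul, eval_X, hFa]
      have : eval (f ∘ Fin.succ) P = eval (fun i : Fin e => f i.succ) P := rfl
      rw [this, ← hyz]
      convert hy using 1
      ring) (d.mapDomain Fin.succ)
    rwa [coeff_sub, coeff_rename_mapDomain _ (Fin.succ_injective _), coeff_X_mul', if_neg, sub_zero, hspan] at h2
    simp [Finsupp.mapDomain_of_notMem_range, Fin.succ_ne_zero]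

theorem le_ringKrullDim_of_quasiRegular (e : ℕ) :
    ∀ {R : Type u} [CommRing R] [IsLocalRing R] [IsNoetherianRing R] (f : Fin e → R),
      CAlgX.IsQuasiRegular f → Ideal.span (Set.range f) = maximalIdeal R → (e : WithBot ℕ∞) ≤ ringKrullDim R := by
  induction e with
  | zero => intros; exact ringKrullDim_nonneg_of_nontrivial
  | succ e ih =>
    intro R _ _ _ f hf hspan
    haveI : Nontrivial (R ⧸ Ideal.span {f 0}) := Ideal.Quotient.nontrivial_iff.mpr fun h => by
      have h1 : f 0 ∈ maximalIdeal R := hspan ▸ Ideal.subset_span ⟨0, rfl⟩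
      exact (maximalIdeal.isMaximal R).ne_top (top_le_iff.mp (h ▸ (Ideal.span_singleton_le_iff_mem _).mpr h1))
    haveI : IsLocalRing (R ⧸ Ideal.span {f 0}) :=
      IsLocalRing.of_surjective' (Ideal.Quotient.mk _) Ideal.Quotient.mk_surjective
    have h2 := ih _ (isQuasiRegular_quotient hf hspan) (by
      rw [map_mk_span, hspan]
      exact map_maximalIdeal_of_surjective _ Ideal.Quotient.mk_surjective)
    rw [Nat.cast_succ]
    exact (add_le_add_left h2 1).trans
      (ringKrullDim_quotient_succ_le_of_nonZeroDivisor (mem_nonZeroDivisors_of_quasiRegular hf hspan))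

theorem isRegularLocalRing_of_symGrBijective (h : PP16.SymGrBijective R (maximalIdeal R)) :
    IsRegularLocalRing R := by
  classical
  obtain ⟨s, hs, hspan⟩ := Submodule.FG.exists_span_finset_card_eq_spanFinrank (maximalIdeal R).fg_of_isNoetherianRing
  let f : Fin s.card → R := fun i => (s.equivFin.symm i : R)
  have hf : Ideal.span (Set.range f) = maximalIdeal R := by
    rw [show Set.range f = (s : Set R) from (s.equivFin.symm.surjective.range_comp _).trans Subtype.range_coe]
    exact hspan
  have hb : Function.Bijective (classMap (maximalIdeal R) fun a : ULift.{u} (Fin s.card) =>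
      (⟨f a.down, hf ▸ Ideal.subset_span ⟨a.down, rfl⟩⟩ : maximalIdeal R)) := by
    have hsur : Function.Surjective (classMap (maximalIdeal R) fun a : ULift.{u} (Fin s.card) =>
        (⟨f a.down, hf ▸ Ideal.subset_span ⟨a.down, rfl⟩⟩ : maximalIdeal R)) :=
      classMap_surjective _ _ ((congrArg Ideal.span (Equiv.ulift.surjective.range_comp f)).trans hf)
    refine ⟨?_, hsur⟩
    let L : (ULift.{u} (Fin s.card) →₀ ResidueField R) →ₗ[ResidueField R] CotangentSpace R :=
      Finsupp.linearCombination (ResidueField R) fun a : ULift.{u} (Fin s.card) =>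
        (maximalIdeal R).toCotangent ⟨f a.down, hf ▸ Ideal.subset_span ⟨a.down, rfl⟩⟩
    show Function.Injective L
    refine (LinearMap.injective_iff_surjective_of_finrank_eq_finrank ?_).mpr hsur
    rw [← spanFinrank_maximalIdeal_eq_finrank_cotangentSpace, ← hs, Module.finrank_finsupp_self,
      Fintype.card_ulift, Fintype.card_fin]
  apply IsRegularLocalRing.of_spanFinrank_maximalIdeal_le
  rw [← hs]
  exact le_ringKrullDim_of_quasiRegular _ f ((isQuasiRegular_iff_bijective f _ hf).mpr ⟨hb, h⟩) hf

theorem symGrBijective_of_isRegularLocalRing (S : Type u) [CommRing S] [IsRegularLocalRing S] :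
    PP16.SymGrBijective S (maximalIdeal S) := by
  obtain ⟨f, hf, hspan⟩ := QReg.exists_quasiRegular_parameters S
  exact ((isQuasiRegular_iff_bijective f _ hspan).mp hf).2

theorem isRegularLocalRing_iff_symGrBijective :
    IsRegularLocalRing R ↔ PP16.SymGrBijective R (maximalIdeal R) :=
  ⟨fun _ => symGrBijective_of_isRegularLocalRing R, isRegularLocalRing_of_symGrBijective⟩

end Groth.Agent.PP16Lib

end
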