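import Groth.Agent.S4571
import Groth.Agent.PP16Lib.SymGrRegular
import Groth.Agent.QReg.Change
import Groth.Agent.S0543
import Groth.Agent.EGA41Lib.AdicLift
import Mathlib.RingTheory.MvPowerSeries.Equiv
import Mathlib.RingTheory.AdicCompletion.Completeness
import Mathlib.RingTheory.AdicCompletion.LocalRing

/-!
Completions of regular local rings containing a formally smooth coefficient base; regularity and completion.
-/

set_option autoImplicit false
universe u

open IsLocalRing

namespace Groth.Agent.PP16Lib

section completion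

open AdicCompletion

variable {R S : Type u} [CommRing R] [CommRing S] {I : Ideal R} {J : Ideal S}

theorem factorPow_evalₐ {m n : ℕ} (hle : m ≤ n) (x : AdicCompletion I R) :
    Ideal.Quotient.factorPow I hle (evalₐ I n x) = evalₐ I m x := by
  induction x using AdicCompletion.induction_on with
  | _ x =>
    rw [evalₐ_mk, evalₐ_mk]
    show Ideal.Quotient.mk (I ^ m) (x n) = Ideal.Quotient.mk (I ^ m) (x m)
    exact AdicCompletion.Ideal.mk_eq_mk I hle x

theorem exists_completion_equiv_of_quotients (e : ∀ n, (R ⧸ I ^ n) ≃+* S ⧸ J ^ n)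
    (he : ∀ {m n : ℕ} (hle : m ≤ n) (x : R ⧸ I ^ n),
      Ideal.Quotient.factorPow J hle (e n x) = e m (Ideal.Quotient.factorPow I hle x)) :
    ∃ Φ : AdicCompletion I R ≃+* AdicCompletion J S, ∀ n x, evalₐ J n (Φ x) = e n (evalₐ I n x) := by
  let fwd : AdicCompletion I R →+* AdicCompletion J S :=
    liftRingHom J (fun n => (e n).toRingHom.comp (evalₐ I n).toRingHom) fun {m n} hle => RingHom.ext fun x => by
      show Ideal.Quotient.factorPow J hle (e n (evalₐ I n x)) = e m (evalₐ I m x)
      rw [he, factorPow_evalₐ]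
  let bwd : AdicCompletion J S →+* AdicCompletion I R :=
    liftRingHom I (fun n => (e n).symm.toRingHom.comp (evalₐ J n).toRingHom) fun {m n} hle => RingHom.ext fun x => by
      show Ideal.Quotient.factorPow I hle ((e n).symm (evalₐ J n x)) = (e m).symm (evalₐ J m x)
      apply (e m).injective
      rw [← he, RingEquiv.apply_symm_apply, RingEquiv.apply_symm_apply, factorPow_evalₐ]
  refine ⟨RingEquiv.ofRingHom fwd bwd (RingHom.ext fun x => ext_evalₐ fun n => ?_)
    (RingHom.ext fun x => ext_evalₐ fun n => ?_), fun n x => by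
      show evalₐ J n (fwd x) = _
      rw [evalₐ_liftRingHom]
      rfl⟩
  · show evalₐ J n (fwd (bwd x)) = evalₐ J n x
    rw [evalₐ_liftRingHom]
    show e n (evalₐ I n (bwd x)) = _
    rw [evalₐ_liftRingHom]
    exact (e n).apply_symm_apply _
  · show evalₐ I n (bwd (fwd x)) = evalₐ I n x
    rw [evalₐ_liftRingHom]
    show (e n).symm (evalₐ J n (fwd x)) = _
    rw [evalₐ_liftRingHom]
    exact (e n).symm_apply_apply _

end completion

open MvPolynomial in
theorem exists_completion_equiv_compat {F A : Type u} [CommRing F] [CommRing A] [IsLocalRing A] [IsNoetherianRing A]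
    [Algebra F A] [Algebra.FormallySmooth F (A ⧸ maximalIdeal A)] (hG : PP16.SymGrBijective A (maximalIdeal A)) :
    ∃ (n : ℕ) (e : AdicCompletion (maximalIdeal A) A ≃+* MvPowerSeries (Fin n) (ResidueField A)),
      ∀ x : F, e (algebraMap A (AdicCompletion (maximalIdeal A) A) (algebraMap F A x)) =
        MvPowerSeries.C (algebraMap F (ResidueField A) x) := by
  classical
  haveI := PP16Lib.isRegularLocalRing_of_symGrBijective hG
  obtain ⟨f, hf, hspan⟩ := QReg.exists_quasiRegular_parameters A
  generalize (maximalIdeal A).spanFinrank = d at f hf hspan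
  letI : Field (A ⧸ maximalIdeal A) := Ideal.Quotient.field _
  -- compatible sections of the residue field
  choose g hg using EGA41Lib.exists_lift_succ (k := F) (K := A ⧸ maximalIdeal A) (maximalIdeal A)
  let e1 : (A ⧸ maximalIdeal A) ≃ₐ[F] A ⧸ maximalIdeal A ^ (0 + 1) :=
    Ideal.quotientEquivAlgOfEq F (by rw [zero_add, pow_one])
  let σ : (n : ℕ) → (A ⧸ maximalIdeal A) →ₐ[F] A ⧸ maximalIdeal A ^ (n + 1) := fun n =>
    Nat.rec (motive := fun n => (A ⧸ maximalIdeal A) →ₐ[F] A ⧸ maximalIdeal A ^ (n + 1)) e1.toAlgHom g n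
  have hσ : ∀ {m n : ℕ} (hle : m ≤ n) (y : A ⧸ maximalIdeal A),
      Ideal.Quotient.factorPow (maximalIdeal A) (Nat.succ_le_succ hle) (σ n y) = σ m y := fun {m n} hle y => by
    induction hle with
    | refl =>
      obtain ⟨z, hz⟩ := Ideal.Quotient.mk_surjective (σ m y)
      rw [← hz]
      rfl
    | @step n hle ih =>
      obtain ⟨z, hz⟩ := Ideal.Quotient.mk_surjective (σ (n + 1) y)
      rw [← ih, show σ n y = Ideal.Quotient.factorPow (maximalIdeal A) (Nat.le_succ (n + 1)) (σ (n + 1) y) from
        (hg n (σ n) y).symm, ← hz]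
      rfl
  have hσres : ∀ (N : ℕ) (y : A ⧸ maximalIdeal A) (a : A),
      σ N y = Ideal.Quotient.mk _ a → Ideal.Quotient.mk (maximalIdeal A) a = y := fun N y a ha => by
    obtain ⟨b, rfl⟩ := Ideal.Quotient.mk_surjective y
    have h := hσ (Nat.zero_le N) (Ideal.Quotient.mk _ b)
    rw [ha] at h
    have h2 : Ideal.Quotient.mk (maximalIdeal A ^ (0 + 1)) a = Ideal.Quotient.mk (maximalIdeal A ^ (0 + 1)) b := h
    rw [Ideal.Quotient.eq, zero_add, pow_one] at h2
    exact Ideal.Quotient.eq.mpr h2
  let θ : ∀ N : ℕ, MvPolynomial (Fin d) (A ⧸ maximalIdeal A) →+* A ⧸ maximalIdeal A ^ N := fun N =>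
    eval₂Hom ((Ideal.Quotient.factorPow (maximalIdeal A) (Nat.le_succ N)).comp (σ N).toRingHom)
      fun i => Ideal.Quotient.mk _ (f i)
  have hlift : ∀ (N : ℕ) (c : A ⧸ maximalIdeal A), ∃ a : A, Ideal.Quotient.mk (maximalIdeal A) a = c ∧
      θ N (C c) = Ideal.Quotient.mk _ a := fun N c => by
    obtain ⟨a, ha⟩ := Ideal.Quotient.mk_surjective (σ N c)
    refine ⟨a, hσres N c a ha.symm, ?_⟩
    rw [eval₂Hom_C, RingHom.comp_apply]
    show Ideal.Quotient.factorPow (maximalIdeal A) (Nat.le_succ N) (σ N c) = _
    rw [← ha]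
    rfl
  have heval : ∀ (N : ℕ) (Q : MvPolynomial (Fin d) A) (P : MvPolynomial (Fin d) (A ⧸ maximalIdeal A)),
      (∀ m, θ N (C (P.coeff m)) = Ideal.Quotient.mk _ (Q.coeff m)) → P.support = Q.support →
      θ N P = Ideal.Quotient.mk _ (eval f Q) := fun N Q P h hs => by
    conv_lhs => rw [P.as_sum]
    conv_rhs => rw [Q.as_sum]
    rw [map_sum, map_sum, map_sum, hs]
    refine Finset.sum_congr rfl fun m _ => ?_
    rw [show monomial m (P.coeff m) = C (P.coeff m) * monomial m 1 by rw [C_mul_monomial, mul_one],
      show monomial m (Q.coeff m) = C (Q.coeff m) * monomial m 1 by rw [C_mul_monomial, mul_one],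
      map_mul, map_mul, map_mul, h, eval_C]
    congr 1
    show eval₂Hom _ _ (monomial m 1) = _
    simp [eval₂Hom_monomial, eval_monomial, map_finsuppProd]
  have hker : ∀ (N : ℕ) (P : MvPolynomial (Fin d) (A ⧸ maximalIdeal A)),
      θ N P = 0 ↔ P ∈ idealOfVars (Fin d) (A ⧸ maximalIdeal A) ^ N := fun N P => by
    constructor
    · intro hP
      suffices ∀ j ≤ N, P ∈ idealOfVars (Fin d) (A ⧸ maximalIdeal A) ^ j from this N le_rfl
      intro j
      induction j with
      | zero => simp
      | succ j ih =>
        intro hj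
        have hPj := ih (Nat.le_of_succ_le hj)
        rw [mem_pow_idealOfVars_iff'] at hPj ⊢
        choose a ha hθa using fun m => hlift N ((homogeneousComponent j P).coeff m)
        let Q : MvPolynomial (Fin d) A := ∑ m ∈ (homogeneousComponent j P).support, monomial m (a m)
        have hQc : ∀ m, Q.coeff m = if m ∈ (homogeneousComponent j P).support then a m else 0 := fun m => by
          simp [Q, coeff_sum, coeff_monomial]
        have hQs : (homogeneousComponent j P).support = Q.support := by
          ext m
          rw [mem_support_iff (p := Q), hQc]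
          split_ifs with hm
          · refine iff_of_true hm fun h0 => (mem_support_iff.mp hm) ?_
            rw [← ha m, h0, map_zero]
          · exact iff_of_false hm (by simp)
        have hQh : Q.IsHomogeneous j := IsHomogeneous.sum _ _ _ fun m hm => isHomogeneous_monomial _ (by
          rw [Finsupp.degree_eq_weight_one]
          exact homogeneousComponent_isHomogeneous j P (mem_support_iff.mp hm))
        have hrest : P - homogeneousComponent j P ∈ idealOfVars (Fin d) (A ⧸ maximalIdeal A) ^ (j + 1) := by
          rw [mem_pow_idealOfVars_iff']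
          intro m hm
          rw [coeff_sub, coeff_homogeneousComponent]
          split_ifs with hmj
          · exact sub_self _
          · rw [sub_zero]; exact hPj m (by omega)
        have hmap : ∀ q ∈ idealOfVars (Fin d) (A ⧸ maximalIdeal A) ^ (j + 1),
            θ N q ∈ (maximalIdeal A ^ (j + 1)).map (Ideal.Quotient.mk (maximalIdeal A ^ N)) := fun q hq => by
          rw [Ideal.map_pow]
          have hq' := Ideal.mem_map_of_mem (θ N) hq
          rw [Ideal.map_pow] at hq'
          refine Ideal.pow_right_mono ?_ _ hq'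
          rw [idealOfVars, Ideal.map_span]
          refine Ideal.span_le.mpr ?_
          rintro _ ⟨_, ⟨i, rfl⟩, rfl⟩
          simp only [θ, eval₂Hom_X']
          exact Ideal.mem_map_of_mem _ (hspan ▸ Ideal.subset_span ⟨i, rfl⟩)
        have h1 : θ N (homogeneousComponent j P) = Ideal.Quotient.mk _ (eval f Q) :=
          heval N Q _ (fun m => by
            rw [hQc]; split_ifs with hm
            · exact hθa m
            · rw [notMem_support_iff.mp hm, C_0, map_zero, map_zero]) hQs
        have h2 : eval f Q ∈ maximalIdeal A ^ (j + 1) := by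
          have h3 : θ N (homogeneousComponent j P) = - θ N (P - homogeneousComponent j P) := by
            rw [map_sub, hP, zero_sub, neg_neg]
          have h4 := hmap _ hrest
          rw [← Ideal.neg_mem_iff, ← h3, h1, Ideal.mem_quotient_iff_mem_sup,
            sup_eq_left.mpr (Ideal.pow_le_pow_right hj)] at h4
          exact h4
        intro m hm
        by_cases hmj : Finsupp.degree m = j
        · have h5 := hf j Q hQh (by rwa [hspan]) m
          rw [hspan, hQc] at h5
          by_contra h0
          have hms : m ∈ (homogeneousComponent j P).support := by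
            rw [mem_support_iff, coeff_homogeneousComponent, if_pos hmj]; exact h0
          rw [if_pos hms] at h5
          have h6 := ha m
          rw [Ideal.Quotient.eq_zero_iff_mem.mpr h5, coeff_homogeneousComponent, if_pos hmj] at h6
          exact h0 h6.symm
        · exact hPj m (by omega)
    · intro hP
      have h : θ N P ∈ ((maximalIdeal A).map (Ideal.Quotient.mk (maximalIdeal A ^ N))) ^ N := by
        have hq' := Ideal.mem_map_of_mem (θ N) hP
        rw [Ideal.map_pow] at hq'
        refine Ideal.pow_right_mono ?_ _ hq'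
        rw [idealOfVars, Ideal.map_span]
        refine Ideal.span_le.mpr ?_
        rintro _ ⟨_, ⟨i, rfl⟩, rfl⟩
        simp only [θ, eval₂Hom_X']
        exact Ideal.mem_map_of_mem _ (hspan ▸ Ideal.subset_span ⟨i, rfl⟩)
      rwa [← Ideal.map_pow, Ideal.map_quotient_self, Ideal.mem_bot] at h
  have hsurj : ∀ N, Function.Surjective (θ N) := fun N y => by
    obtain ⟨a, rfl⟩ := Ideal.Quotient.mk_surjective y
    suffices ∀ j ≤ N, ∃ P b, b ∈ maximalIdeal A ^ j ∧ θ N P + Ideal.Quotient.mk _ b = Ideal.Quotient.mk _ a by
      obtain ⟨P, b, hb, h⟩ := this N le_rfl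
      exact ⟨P, by rw [← h, Ideal.Quotient.eq_zero_iff_mem.mpr hb, add_zero]⟩
    intro j
    induction j with
    | zero => exact fun _ => ⟨0, a, by simp, by simp⟩
    | succ j ih =>
      intro hj
      obtain ⟨P, b, hb, h⟩ := ih (Nat.le_of_succ_le hj)
      obtain ⟨H, hH, rfl⟩ := AdicLim.exists_isHomogeneous_eval f hspan hb
      choose c hc hθc using fun m => hlift N (Ideal.Quotient.mk (maximalIdeal A) (H.coeff m))
      refine ⟨P + ∑ m ∈ H.support, monomial m (Ideal.Quotient.mk (maximalIdeal A) (H.coeff m)),
        eval f (∑ m ∈ H.support, monomial m (H.coeff m - c m)), ?_, ?_⟩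
      · refine QReg.eval_mem_pow_succ (fun i => hspan ▸ Ideal.subset_span ⟨i, rfl⟩)
          (IsHomogeneous.sum _ _ _ fun m hm => isHomogeneous_monomial _ (by
            rw [Finsupp.degree_eq_weight_one]; exact hH (mem_support_iff.mp hm))) fun m => ?_
        rw [coeff_sum]
        refine Submodule.sum_mem _ fun m' _ => ?_
        rw [coeff_monomial]
        split_ifs
        · exact Ideal.Quotient.eq.mp (hc m').symm
        · exact zero_mem _
      · rw [← h, map_add, add_assoc]
        congr 1
        conv_rhs => rw [H.as_sum]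
        rw [map_sum, map_sum, map_sum, map_sum, ← Finset.sum_add_distrib, map_sum (Ideal.Quotient.mk _)]
        refine Finset.sum_congr rfl fun m _ => ?_
        have hmono : ∀ (c' : A ⧸ maximalIdeal A) (a' : A), θ N (C c') = Ideal.Quotient.mk _ a' →
            θ N (monomial m c') = Ideal.Quotient.mk _ (eval f (monomial m a')) := fun c' a' h' => by
          rw [show monomial m c' = C c' * monomial m 1 by rw [C_mul_monomial, mul_one],
            show monomial m a' = C a' * monomial m 1 by rw [C_mul_monomial, mul_one], map_mul, map_mul, map_mul, h',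
            eval_C]
          congr 1
          show eval₂Hom _ _ (monomial m 1) = _
          simp [eval₂Hom_monomial, eval_monomial, map_finsuppProd]
        rw [hmono _ _ (hθc m), ← map_add, ← map_add, ← map_add, add_sub_cancel]
  let e : ∀ N, (MvPolynomial (Fin d) (A ⧸ maximalIdeal A) ⧸ idealOfVars (Fin d) (A ⧸ maximalIdeal A) ^ N) ≃+*
      A ⧸ maximalIdeal A ^ N := fun N =>
    (Ideal.quotEquivOfEq (Ideal.ext fun P => (hker N P).symm)).trans
      (RingHom.quotientKerEquivOfSurjective (hsurj N))
  have hcompat : ∀ {m n : ℕ} (hle : m ≤ n), (Ideal.Quotient.factorPow (maximalIdeal A) hle).comp (θ n) = θ m :=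
    fun {m n} hle => by
    refine MvPolynomial.ringHom_ext (fun c => ?_) fun i => ?_
    · simp only [θ, RingHom.comp_apply, eval₂Hom_C]
      obtain ⟨z, hz⟩ := Ideal.Quotient.mk_surjective (σ n c)
      show Ideal.Quotient.factorPow _ hle (Ideal.Quotient.factorPow _ (Nat.le_succ n) (σ n c)) =
        Ideal.Quotient.factorPow _ (Nat.le_succ m) (σ m c)
      rw [← hσ hle c, ← hz]
      rfl
    · simp only [θ, RingHom.comp_apply, eval₂Hom_X']
      rfl
  obtain ⟨Φ, hΦ⟩ := exists_completion_equiv_of_quotients e fun {m n} hle x => by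
    obtain ⟨P, rfl⟩ := Ideal.Quotient.mk_surjective x
    exact RingHom.congr_fun (hcompat hle) P
  let τ := MvPowerSeries.toAdicCompletionAlgEquiv (Fin d) (A ⧸ maximalIdeal A)
  refine ⟨d, Φ.symm.trans τ.symm.toRingEquiv, fun x => ?_⟩
  have h1 : Φ (τ (MvPowerSeries.C (Ideal.Quotient.mk (maximalIdeal A) (algebraMap F A x)))) =
      algebraMap A (AdicCompletion (maximalIdeal A) A) (algebraMap F A x) := AdicCompletion.ext_evalₐ fun n => by
    rw [hΦ, ← MvPolynomial.coe_C]
    show e n (AdicCompletion.evalₐ _ n (MvPowerSeries.toAdicCompletion _ _ (C _ : MvPolynomial (Fin d) (A ⧸ maximalIdeal A)))) = _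
    rw [MvPowerSeries.toAdicCompletion_coe, AdicCompletion.evalₐ_of, AdicCompletion.algebraMap_apply,
      AdicCompletion.evalₐ_of]
    show θ n (C _) = _
    simp only [θ, eval₂Hom_C, RingHom.comp_apply]
    show Ideal.Quotient.factorPow _ (Nat.le_succ n) (σ n (algebraMap F (A ⧸ maximalIdeal A) x)) = _
    rw [(σ n).commutes]
    rfl
  show τ.symm (Φ.symm _) = _
  rw [← h1, RingEquiv.symm_apply_apply, AlgEquiv.symm_apply_apply]
  rfl

section transfer

variable {A B : Type u} [CommRing A] [CommRing B] [IsLocalRing A] [IsLocalRing B] [IsNoetherianRing A]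
  [IsNoetherianRing B]

theorem isRegularLocalRing_iff_of_quotients (φ : A →+* B) (hM : (maximalIdeal A).map φ = maximalIdeal B)
    (hcomap : ∀ (N : ℕ) (x : A), φ x ∈ maximalIdeal B ^ N → x ∈ maximalIdeal A ^ N)
    (hsurj : ∀ y, ∃ x, φ x - y ∈ maximalIdeal B ^ 2) :
    IsRegularLocalRing A ↔ IsRegularLocalRing B := by
  classical
  have hspan : ∀ {c : ℕ} (g : Fin c → A), Ideal.span (Set.range g) = maximalIdeal A →
      Ideal.span (Set.range fun i => φ (g i)) = maximalIdeal B := fun {c} g hg => by
    rw [← hM, ← hg, Ideal.map_span, ← Set.range_comp]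
    rfl
  have hev : ∀ {c : ℕ} (g : Fin c → A) (P : MvPolynomial (Fin c) A),
      MvPolynomial.eval (fun i => φ (g i)) (MvPolynomial.map φ P) = φ (MvPolynomial.eval g P) := fun g P => by
    rw [MvPolynomial.eval_map]
    induction P using MvPolynomial.induction_on with
    | C a => simp
    | add p q hp hq => simp [hp, hq]
    | mul_X p i hp => simp [hp]
  have hQ : ∀ {c : ℕ} (g : Fin c → A), Ideal.span (Set.range g) = maximalIdeal A →
      (CAlgX.IsQuasiRegular g ↔ CAlgX.IsQuasiRegular fun i => φ (g i)) := fun {c} g hg => by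
    constructor
    · intro h n P hP he d
      rw [hspan g hg] at he ⊢
      choose a ha using fun d => hsurj (P.coeff d)
      have ha' : ∀ d, φ (a d) - P.coeff d ∈ maximalIdeal B := fun d => Ideal.pow_le_self two_ne_zero (ha d)
      let P' : MvPolynomial (Fin c) A := ∑ d ∈ P.support, MvPolynomial.monomial d (a d)
      have hP' : P'.IsHomogeneous n := MvPolynomial.IsHomogeneous.sum _ _ _ fun m hm =>
        MvPolynomial.isHomogeneous_monomial _ (by
          rw [Finsupp.degree_eq_weight_one]
          exact hP (MvPolynomial.mem_support_iff.mp hm))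
      have hc : ∀ d, P'.coeff d = if d ∈ P.support then a d else 0 := fun d => by
        simp [P', MvPolynomial.coeff_sum, MvPolynomial.coeff_monomial]
      have hdiff : MvPolynomial.eval (fun i => φ (g i)) (MvPolynomial.map φ P' - P) ∈ maximalIdeal B ^ (n + 1) :=
        QReg.eval_mem_pow_succ (fun i => (hspan g hg).le (Ideal.subset_span ⟨i, rfl⟩))
          ((hP'.map φ).sub hP) fun m => by
            rw [MvPolynomial.coeff_sub, MvPolynomial.coeff_map, hc]
            split_ifs with hm
            · exact ha' m
            · rw [MvPolynomial.notMem_support_iff.mp hm, map_zero, sub_zero]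
              exact zero_mem _
      rw [map_sub] at hdiff
      have h1 := add_mem hdiff he
      rw [sub_add_cancel, hev] at h1
      have h2 := h n P' hP' (by rw [hg]; exact hcomap _ _ h1) d
      rw [hg, hc] at h2
      split_ifs at h2 with hd
      · have h3 := sub_mem (hM.le (Ideal.mem_map_of_mem φ h2)) (ha' d)
        rwa [sub_sub_cancel] at h3
      · rw [MvPolynomial.notMem_support_iff.mp hd]
        exact zero_mem _
    · intro h n P hP he d
      rw [hg] at he ⊢
      have h1 : MvPolynomial.eval (fun i => φ (g i)) (MvPolynomial.map φ P) ∈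
          Ideal.span (Set.range fun i => φ (g i)) ^ (n + 1) := by
        rw [hev, hspan g hg, ← hM, ← Ideal.map_pow]
        exact Ideal.mem_map_of_mem φ he
      have h2 := h n _ (hP.map φ) h1 d
      rw [hspan g hg, MvPolynomial.coeff_map] at h2
      simpa using hcomap 1 _ (by simpa using h2)
  constructor
  · intro hA
    obtain ⟨f, hf, hfs⟩ := QReg.exists_quasiRegular_parameters A
    exact isRegularLocalRing_of_symGrBijective
      ((isQuasiRegular_iff_bijective _ _ (hspan f hfs)).mp ((hQ f hfs).mp hf)).2
  · intro hB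
    obtain ⟨b, hb, hbs⟩ := QReg.exists_quasiRegular_parameters B
    generalize (maximalIdeal B).spanFinrank = c at b hb hbs
    choose g hg using fun i => hsurj (b i)
    have hgm : ∀ i, g i ∈ maximalIdeal A := fun i => by
      have h1 : φ (g i) ∈ maximalIdeal B := by
        have := add_mem (Ideal.pow_le_self two_ne_zero (hg i)) (hbs.le (Ideal.subset_span ⟨i, rfl⟩))
        rwa [sub_add_cancel] at this
      simpa using hcomap 1 _ (by simpa using h1)
    have hgs : Ideal.span (Set.range g) = maximalIdeal A := by
      refine le_antisymm (Ideal.span_le.mpr (by rintro _ ⟨i, rfl⟩; exact hgm i))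
        (Submodule.le_of_le_smul_of_le_jacobson_bot (I := maximalIdeal A) (maximalIdeal A).fg_of_isNoetherianRing
          (IsLocalRing.maximalIdeal_le_jacobson _) fun z hz => ?_)
      have h1 : φ z ∈ maximalIdeal B := hM.le (Ideal.mem_map_of_mem φ hz)
      rw [← hbs] at h1
      obtain ⟨co, hco⟩ := (Submodule.mem_span_range_iff_exists_fun B).mp h1
      choose a ha using fun i => hsurj (co i)
      have h2 : φ (z - ∑ i, a i * g i) ∈ maximalIdeal B ^ 2 := by
        rw [map_sub, map_sum, ← hco, ← Finset.sum_sub_distrib]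
        refine Submodule.sum_mem _ fun i _ => ?_
        rw [smul_eq_mul, map_mul, show co i * b i - φ (a i) * φ (g i) =
          -((φ (a i) - co i) * b i + φ (a i) * (φ (g i) - b i)) by ring]
        exact neg_mem (add_mem (Ideal.mul_mem_right _ _ (ha i)) (Ideal.mul_mem_left _ _ (hg i)))
      refine Submodule.mem_sup.mpr ⟨∑ i, a i * g i,
        Submodule.sum_mem _ fun i _ => Ideal.mul_mem_left _ _ (Ideal.subset_span ⟨i, rfl⟩),
        z - ∑ i, a i * g i, ?_, add_sub_cancel _ _⟩
      rw [smul_eq_mul, ← pow_two]
      exact hcomap 2 _ h2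
    exact isRegularLocalRing_of_symGrBijective ((isQuasiRegular_iff_bijective _ _ hgs).mp
      ((hQ g hgs).mpr (QReg.isQuasiRegular_of_span_eq b _ hb ((hspan g hgs).trans hbs.symm)))).2

theorem isRegularLocalRing_iff_completion :
    IsRegularLocalRing A ↔ IsRegularLocalRing (AdicCompletion (maximalIdeal A) A) := by
  haveI : IsNoetherianRing (AdicCompletion (maximalIdeal A) A) := S0543.result A (maximalIdeal A)
  have hker : ∀ N, ∀ y : AdicCompletion (maximalIdeal A) A, y ∈ maximalIdeal (AdicCompletion (maximalIdeal A) A) ^ N ↔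
      AdicCompletion.eval (maximalIdeal A) A N y = 0 := fun N y => by
    rw [AdicCompletion.maximalIdeal_eq_map, ← Ideal.map_pow, ← Submodule.restrictScalars_mem A,
      ← Ideal.smul_top_eq_map, AdicCompletion.pow_smul_top_eq_ker_eval (maximalIdeal A).fg_of_isNoetherianRing,
      LinearMap.mem_ker]
  refine isRegularLocalRing_iff_of_quotients (algebraMap A _) AdicCompletion.maximalIdeal_eq_map.symm
    (fun N x hx => ?_) fun y => ?_
  · rw [hker, AdicCompletion.algebraMap_apply] at hx
    simpa using (Submodule.Quotient.mk_eq_zero _).mp hx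
  · obtain ⟨x, hx⟩ := Submodule.Quotient.mk_surjective _ (AdicCompletion.eval (maximalIdeal A) A 2 y)
    refine ⟨x, (hker 2 _).mpr ?_⟩
    rw [map_sub, sub_eq_zero, ← hx, AdicCompletion.algebraMap_apply]
    rfl

end transfer

theorem ker_constantCoeff (n : ℕ) (K : Type u) [CommRing K] (x : MvPowerSeries (Fin n) K)
    (hx : MvPowerSeries.constantCoeff x = 0) : x ∈ Ideal.span (Set.range MvPowerSeries.X) := by
  let τ := MvPowerSeries.toAdicCompletionAlgEquiv (Fin n) K
  have h1 : τ x ∈ (MvPolynomial.idealOfVars (Fin n) K).map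
      (algebraMap (MvPolynomial (Fin n) K) (AdicCompletion (MvPolynomial.idealOfVars (Fin n) K) (MvPolynomial (Fin n) K))) := by
    rw [← AdicCompletion.ker_evalOneₐ_eq_map _ (MvPolynomial.idealOfVars_fg _ _), RingHom.mem_ker]
    show Ideal.Quotient.factor (show MvPolynomial.idealOfVars (Fin n) K ^ 1 ≤ MvPolynomial.idealOfVars (Fin n) K by simp)
      (AdicCompletion.evalₐ (MvPolynomial.idealOfVars (Fin n) K) 1 (MvPowerSeries.toAdicCompletion (Fin n) K x)) = 0
    rw [← AdicCompletion.factor_eval_eq_evalₐ _ _ (le_of_eq (Ideal.mul_top _))]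
    show Ideal.Quotient.mk _ (MvPowerSeries.truncTotal 1 x) = 0
    rw [Ideal.Quotient.eq_zero_iff_mem, ← pow_one (MvPolynomial.idealOfVars (Fin n) K),
      MvPolynomial.mem_pow_idealOfVars_iff']
    intro d hd
    rw [MvPowerSeries.coeff_truncTotal _ (by simpa using hd), (Finsupp.degree_eq_zero_iff d).mp (by omega)]
    exact hx
  have h2 := Ideal.mem_map_of_mem τ.symm h1
  rw [AlgEquiv.symm_apply_apply] at h2
  refine (Ideal.map_le_iff_le_comap.mpr (Ideal.map_le_iff_le_comap.mpr (Ideal.span_le.mpr ?_))) h2
  rintro _ ⟨i, rfl⟩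
  show τ.symm (algebraMap (MvPolynomial (Fin n) K) _ (MvPolynomial.X i)) ∈ Ideal.span (Set.range MvPowerSeries.X)
  rw [show τ.symm (algebraMap (MvPolynomial (Fin n) K) _ (MvPolynomial.X i)) = MvPowerSeries.X i from
    τ.symm_apply_eq.mpr (by rw [← MvPolynomial.coe_X]; exact (MvPowerSeries.toAdicCompletion_coe _).symm)]
  exact Ideal.subset_span ⟨i, rfl⟩

theorem isRegularLocalRing_mvPowerSeries (n : ℕ) (K : Type u) [Field K] :
    IsRegularLocalRing (MvPowerSeries (Fin n) K) := by
  classical
  have hspan : Ideal.span (Set.range (MvPowerSeries.X : Fin n → MvPowerSeries (Fin n) K)) =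
      maximalIdeal (MvPowerSeries (Fin n) K) := by
    refine le_antisymm (Ideal.span_le.mpr ?_) fun x hx => ker_constantCoeff n K x ?_
    · rintro _ ⟨i, rfl⟩
      rw [SetLike.mem_coe, IsLocalRing.mem_maximalIdeal, mem_nonunits_iff, MvPowerSeries.isUnit_iff_constantCoeff]
      simp
    · by_contra h
      exact hx (MvPowerSeries.isUnit_iff_constantCoeff.mpr (isUnit_iff_ne_zero.mpr h))
  have hlow : ∀ m : ℕ, ∀ y ∈ Ideal.span (Set.range (MvPowerSeries.X : Fin n → MvPowerSeries (Fin n) K)) ^ m,
      ∀ d : Fin n →₀ ℕ, Finsupp.degree d < m → MvPowerSeries.coeff d y = 0 := by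
    intro m
    induction m with
    | zero => intro y _ d hd; exact absurd hd (Nat.not_lt_zero _)
    | succ m ih =>
      intro y hy
      rw [pow_succ'] at hy
      refine Submodule.mul_induction_on hy (fun a ha b hb d hd => ?_) fun a b ha hb d hd => by
        rw [map_add, ha d hd, hb d hd, add_zero]
      rw [MvPowerSeries.coeff_mul]
      refine Finset.sum_eq_zero fun ⟨u, v⟩ huv => ?_
      rw [Finset.HasAntidiagonal.mem_antidiagonal] at huv
      by_cases hu : u = 0
      · subst hu
        have : MvPowerSeries.constantCoeff a = 0 := by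
          induction ha using Submodule.span_induction with
          | mem z hz => obtain ⟨i, rfl⟩ := hz; simp
          | zero => simp
          | add p q _ _ hp hq => rw [map_add, hp, hq, add_zero]
          | smul r p _ hp => rw [smul_eq_mul, map_mul, hp, mul_zero]
        rw [MvPowerSeries.coeff_zero_eq_constantCoeff_apply, this, zero_mul]
      · rw [ih b hb v ?_, mul_zero]
        simp only at huv hd ⊢
        have h0 : 0 < Finsupp.degree u := Nat.pos_of_ne_zero fun h => hu ((Finsupp.degree_eq_zero_iff u).mp h)
        rw [← huv, map_add] at hd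
        omega
  refine isRegularLocalRing_of_symGrBijective ((isQuasiRegular_iff_bijective MvPowerSeries.X _ hspan).mp ?_).2
  intro j P hP he d
  rw [hspan, IsLocalRing.mem_maximalIdeal, mem_nonunits_iff, MvPowerSeries.isUnit_iff_constantCoeff,
    isUnit_iff_ne_zero, not_not]
  by_cases hd : Finsupp.degree d = j
  · have h := hlow _ _ he d (by omega)
    rw [MvPolynomial.eval_eq, map_sum] at h
    rw [Finset.sum_eq_single d] at h
    · rw [show ∏ i ∈ d.support, (MvPowerSeries.X i : MvPowerSeries (Fin n) K) ^ d i =
        MvPowerSeries.monomial d 1 from (MvPowerSeries.monomial_one_eq d).symm, MvPowerSeries.coeff_mul_monomial,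
        if_pos le_rfl, tsub_self, mul_one, MvPowerSeries.coeff_zero_eq_constantCoeff_apply] at h
      exact h
    · intro e he' hne
      rw [show ∏ i ∈ e.support, (MvPowerSeries.X i : MvPowerSeries (Fin n) K) ^ e i =
        MvPowerSeries.monomial e 1 from (MvPowerSeries.monomial_one_eq e).symm, MvPowerSeries.coeff_mul_monomial,
        if_neg]
      intro hle
      refine hne ?_
      have hej : Finsupp.degree e = j := by
        rw [Finsupp.degree_eq_weight_one]; exact hP (MvPolynomial.mem_support_iff.mp he')
      have h0 : Finsupp.degree (d - e) = 0 := by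
        have := congrArg Finsupp.degree (tsub_add_cancel_of_le hle)
        rw [map_add] at this
        omega
      rw [← tsub_add_cancel_of_le hle, (Finsupp.degree_eq_zero_iff _).mp h0, zero_add]
    · intro h0
      rw [MvPolynomial.notMem_support_iff.mp h0, zero_mul, map_zero]
  · rw [show P.coeff d = 0 from by
      by_contra h0
      exact hd (by rw [Finsupp.degree_eq_weight_one]; exact hP h0)]
    simp

end Groth.Agent.PP16Lib
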