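import Groth.Agent.PP16Lib.AdicOmega
import Mathlib.RingTheory.Smooth.Kaehler
import Mathlib.RingTheory.LocalRing.Module
import Mathlib.RingTheory.Localization.Away.Basic

/-!
Jacobian criterion for quotients of formally smooth algebras, pointwise: injectivity in the fibre, left inverse up
to an element outside the prime, formal smoothness of localisations.
-/

set_option autoImplicit false
set_option linter.unusedSectionVars false

universe u

open IsLocalRing KaehlerDifferential
open scoped TensorProduct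

noncomputable section

namespace Groth.Agent.PP16Lib

variable {A B C : Type u} [CommRing A] [CommRing B] [CommRing C] [Algebra A B] [Algebra B C] [Algebra A C]
  [IsScalarTower A B C] (hsurj : Function.Surjective (algebraMap B C))

local notation "Kₖ" => RingHom.ker (algebraMap B C)
local notation "uu" => kerCotangentToTensor A B C

include hsurj

theorem injective_residueField_iff (P : Ideal B) [P.IsPrime] (p : Ideal C) [p.IsPrime]
    (hP : P = p.comap (algebraMap B C)) :
    Function.Injective ((uu).lTensor p.ResidueField) ↔ Function.Injective ((uu).lTensor P.ResidueField) := by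
  let φ := Ideal.ResidueField.mapₐ P p (Algebra.ofId B C) hP
  have hφ : Function.Bijective φ :=
    (RingHom.surjectiveOnStalks_of_surjective hsurj).residueFieldMap_bijective P p hP
  let e := (AlgEquiv.ofBijective φ hφ).toLinearEquiv
  have h : ∀ z, (uu).lTensor p.ResidueField (e.rTensor _ z) = e.rTensor _ ((uu).lTensor P.ResidueField z) :=
    fun z => by
    induction z using TensorProduct.induction_on with
    | zero => simp
    | add a b ha hb => simp only [map_add, ha, hb]
    | tmul c m => simp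
  constructor
  · intro hi a b hab
    exact (e.rTensor _).injective (hi (by rw [h, h, hab]))
  · intro hi a b hab
    obtain ⟨a, rfl⟩ := (e.rTensor _).surjective a
    obtain ⟨b, rfl⟩ := (e.rTensor _).surjective b
    rw [h, h] at hab
    rw [hi ((e.rTensor _).injective hab)]

theorem exists_derivation_ker [Algebra.FormallySmooth A B] {E : Type u} [CommRing E] [Algebra A E] (N : Ideal E)
    (hN : N ^ 2 = ⊥) (ψ : C →ₐ[A] E ⧸ N) :
    ∃ χ : B →ₐ[A] E, ∀ b, Ideal.Quotient.mk N (χ b) = ψ (algebraMap B C b) :=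
  ⟨Algebra.FormallySmooth.lift N ⟨2, hN⟩ (ψ.comp (IsScalarTower.toAlgHom A B C)), fun b =>
    Algebra.FormallySmooth.mk_lift N ⟨2, hN⟩ (ψ.comp (IsScalarTower.toAlgHom A B C)) b⟩

/-- A left inverse up to `f` makes localisations in which `f` is invertible formally smooth. -/
theorem formallySmooth_of_smul_id [Algebra.FormallySmooth A B] (f : B)
    (l : C ⊗[B] Ω[B⁄A] →ₗ[B] (Kₖ).Cotangent) (hl : ∀ x, l (uu x) = f • x)
    {C' : Type u} [CommRing C'] [Algebra C C'] [Algebra A C'] [IsScalarTower A C C'] (S : Submonoid C)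
    [IsLocalization S C'] (hf : IsUnit (algebraMap C C' (algebraMap B C f))) :
    Algebra.FormallySmooth A C' := by
  refine Algebra.FormallySmooth.of_comp_surjective fun E _ _ N hN ψ => ?_
  obtain ⟨χ, hχ⟩ := exists_derivation_ker hsurj N hN (ψ.comp (IsScalarTower.toAlgHom A C C'))
  have hN0 : ∀ {x y : E}, x ∈ N → y ∈ N → x * y = 0 := fun {x y} hx hy => by
    rw [← Ideal.mem_bot, ← hN, pow_two]
    exact Ideal.mul_mem_mul hx hy
  have hunit : ∀ x : E, IsUnit (Ideal.Quotient.mk N x) → IsUnit x := fun x hx => by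
    obtain ⟨w, hw⟩ := hx.exists_right_inv
    obtain ⟨w, rfl⟩ := Ideal.Quotient.mk_surjective w
    rw [← map_mul, ← map_one (Ideal.Quotient.mk N), Ideal.Quotient.eq] at hw
    exact IsUnit.of_mul_eq_one (w * (1 - (x * w - 1))) (by linear_combination (-1 : E) * hN0 hw hw)
  obtain ⟨e, he⟩ := (hunit (χ f) (by rw [hχ]; exact hf.map ψ)).exists_left_inv
  letI : Algebra B E := χ.toRingHom.toAlgebra
  haveI : IsScalarTower A B E := IsScalarTower.of_algebraMap_eq fun a => (χ.commutes a).symm
  have hsmul : ∀ (b : B) (z : E), b • z = χ b * z := fun b z => rfl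
  have hKN : ∀ x ∈ Kₖ, χ x ∈ N := fun x hx => by
    rw [← Ideal.Quotient.eq_zero_iff_mem, hχ, RingHom.mem_ker.mp hx, map_zero]
  let h : (Kₖ).Cotangent →ₗ[B] E :=
    Submodule.liftQ _ ((Algebra.linearMap B E).comp (Submodule.subtype Kₖ)) fun z hz =>
      Submodule.smul_induction_on hz (fun a ha b _ => by
        show χ (a * (b : B)) = 0
        rw [map_mul]
        exact hN0 (hKN a ha) (hKN b b.2)) fun a b ha hb => add_mem ha hb
  have hhN : ∀ m, h m ∈ N := fun m => by
    obtain ⟨x, rfl⟩ := Ideal.toCotangent_surjective _ m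
    exact hKN x x.2
  let F : Ω[B⁄A] →ₗ[B] E :=
    (LinearMap.mulLeft B e).comp ((h.comp l).comp (TensorProduct.mk B C Ω[B⁄A] 1))
  let δ : Derivation A B E := F.compDer (KaehlerDifferential.D A B)
  have hδN : ∀ b, δ b ∈ N := fun b => N.mul_mem_left e (hhN _)
  have hδK : ∀ x ∈ Kₖ, δ x = χ x := fun x hx => by
    show e * h (l ((1 : C) ⊗ₜ[B] KaehlerDifferential.D A B x)) = χ x
    rw [← KaehlerDifferential.kerCotangentToTensor_toCotangent A B C ⟨x, hx⟩, hl, map_smul, hsmul, ← mul_assoc, he,
      one_mul]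
    rfl
  let χ' : B →ₐ[A] E :=
    AlgHom.ofLinearMap (χ.toLinearMap - δ.toLinearMap) (by
      show χ 1 - δ 1 = 1
      rw [map_one, Derivation.map_one_eq_zero, sub_zero]) fun a b => by
      show χ (a * b) - δ (a * b) = (χ a - δ a) * (χ b - δ b)
      rw [map_mul, Derivation.leibniz, hsmul, hsmul]
      linear_combination (-1 : E) * hN0 (hδN a) (hδN b)
  let g : B →ₐ[A] C := IsScalarTower.toAlgHom A B C
  let χC : C →ₐ[A] E := AlgHom.liftOfSurjective g hsurj χ' fun x hx => by
    show χ x - δ x = 0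
    rw [hδK x hx, sub_self]
  have hχC : ∀ b, Ideal.Quotient.mk N (χC (algebraMap B C b)) = ψ (algebraMap C C' (algebraMap B C b)) := fun b => by
    rw [show χC (algebraMap B C b) = χ' b from AlgHom.liftOfSurjective_apply g hsurj χ' _ b]
    show Ideal.Quotient.mk N (χ b - δ b) = _
    rw [map_sub, Ideal.Quotient.eq_zero_iff_mem.mpr (hδN b), sub_zero, hχ]
    rfl
  refine ⟨IsLocalization.liftAlgHom (M := S) (f := χC) fun s => hunit _ ?_,
    IsLocalization.algHom_ext S (AlgHom.ext fun c => ?_)⟩
  · obtain ⟨b, hb⟩ := hsurj (s : C)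
    rw [← hb, hχC, hb]
    exact (IsLocalization.map_units C' s).map ψ
  · obtain ⟨b, rfl⟩ := hsurj c
    show Ideal.Quotient.mk N (IsLocalization.liftAlgHom (M := S) (f := χC) _ (algebraMap C C' (algebraMap B C b))) = _
    rw [IsLocalization.liftAlgHom_apply, IsLocalization.lift_eq]
    exact hχC b

theorem exists_smul_id_of_injective [Algebra.FormallySmooth A B] [Module.Finite B (Kₖ).Cotangent]
    (P : Ideal B) [P.IsPrime] (hKP : Kₖ ≤ P) (hinj : Function.Injective ((uu).lTensor P.ResidueField)) :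
    ∃ f : B, f ∉ P ∧ ∃ l : C ⊗[B] Ω[B⁄A] →ₗ[B] (Kₖ).Cotangent, ∀ x, l (uu x) = f • x := by
  classical
  let κ := P.ResidueField
  obtain ⟨r, m, hm⟩ := Module.Finite.exists_fin (R := B) (M := (Kₖ).Cotangent)
  obtain ⟨ι, a, ha, hspan, hli⟩ := exists_linearIndependent' κ fun i : Fin r => (1 : κ) ⊗ₜ[B] m i
  haveI : Fintype ι := Fintype.ofInjective a ha
  let y : ι → (Kₖ).Cotangent := fun j => m (a j)
  have hgen : ∀ z : κ ⊗[B] (Kₖ).Cotangent, z ∈ Submodule.span κ (Set.range fun j => (1 : κ) ⊗ₜ[B] y j) := fun z => by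
    rw [show (fun j => (1 : κ) ⊗ₜ[B] y j) = (fun i : Fin r => (1 : κ) ⊗ₜ[B] m i) ∘ a from rfl, hspan]
    induction z using TensorProduct.induction_on with
    | zero => exact zero_mem _
    | add x y hx hy => exact add_mem hx hy
    | tmul c x =>
      have hx := hm.ge (Submodule.mem_top (x := x))
      rw [show c ⊗ₜ[B] x = c • ((1 : κ) ⊗ₜ[B] x) by rw [TensorProduct.smul_tmul', smul_eq_mul, mul_one]]
      refine Submodule.smul_mem _ c ?_
      induction hx using Submodule.span_induction with
      | mem x hx => obtain ⟨i, rfl⟩ := hx; exact Submodule.subset_span ⟨i, rfl⟩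
      | zero => simp
      | add x y _ _ hx hy => rw [TensorProduct.tmul_add]; exact add_mem hx hy
      | smul b x _ hx =>
        rw [TensorProduct.tmul_smul, ← algebraMap_smul κ b]
        exact Submodule.smul_mem _ _ hx
  -- `y` generates away from a closed set missing `P`
  let W := (Kₖ).Cotangent ⧸ Submodule.span B (Set.range y)
  have hW : Subsingleton (κ ⊗[B] W) := by
    refine subsingleton_of_forall_eq 0 fun w => ?_
    obtain ⟨z, rfl⟩ := LinearMap.lTensor_surjective κ (Submodule.mkQ_surjective (Submodule.span B (Set.range y))) w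
    show ((Submodule.span B (Set.range y)).mkQ).baseChange κ z = 0
    induction hgen z using Submodule.span_induction with
    | mem x hx =>
      obtain ⟨j, rfl⟩ := hx
      rw [LinearMap.baseChange_tmul, Submodule.mkQ_apply,
        (Submodule.Quotient.mk_eq_zero _).mpr (Submodule.subset_span (Set.mem_range_self j)), TensorProduct.tmul_zero]
    | zero => simp
    | add x y _ _ hx hy => rw [map_add, hx, hy, add_zero]
    | smul c x _ hx => rw [map_smul, hx, smul_zero]
  obtain ⟨g, hg, hgP⟩ : ∃ g ∈ Module.annihilator B W, g ∉ P := by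
    by_contra hcon
    push_neg at hcon
    have h1 : (⟨P, inferInstance⟩ : PrimeSpectrum B) ∈ Module.support B W := by
      rw [Module.support_eq_zeroLocus, PrimeSpectrum.mem_zeroLocus]
      exact hcon
    rw [Module.mem_support_iff_nontrivial_residueField_tensorProduct] at h1
    exact not_subsingleton (κ ⊗[B] W) hW
  -- functionals
  haveI : Module.Projective C (C ⊗[B] Ω[B⁄A]) := inferInstance
  obtain ⟨Λ, i0, r0, hr0⟩ := exists_split C (C ⊗[B] Ω[B⁄A])
  let qa : C →ₐ[B] κ := AlgHom.liftOfSurjective (Algebra.ofId B C) hsurj (Algebra.ofId B κ) fun x hx =>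
    RingHom.mem_ker.mpr (Ideal.algebraMap_residueField_eq_zero.mpr (hKP hx))
  let q : C →ₗ[B] κ := qa.toLinearMap
  have hq : ∀ b, q (algebraMap B C b) = algebraMap B κ b := fun b => qa.commutes b
  let Q : κ ⊗[B] (C ⊗[B] Ω[B⁄A]) →ₗ[κ] (Λ →₀ κ) :=
    ((Finsupp.mapRange.linearMap q).comp (i0.restrictScalars B)).liftBaseChange κ
  let R : (Λ →₀ κ) →ₗ[κ] κ ⊗[B] (C ⊗[B] Ω[B⁄A]) :=
    Finsupp.linearCombination κ fun t => (1 : κ) ⊗ₜ[B] r0 (Finsupp.single t 1)
  have hRQ : ∀ z, R (Q z) = z := fun z => by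
    induction z using TensorProduct.induction_on with
    | zero => simp
    | add x y hx hy => rw [map_add, map_add, hx, hy]
    | tmul c n =>
      rw [LinearMap.liftBaseChange_tmul, map_smul]
      have hn : r0 (i0 n) = n := LinearMap.congr_fun hr0 n
      rw [show c ⊗ₜ[B] n = c • ((1 : κ) ⊗ₜ[B] r0 (i0 n)) by rw [hn, TensorProduct.smul_tmul', smul_eq_mul, mul_one]]
      congr 1
      show R (Finsupp.mapRange q (map_zero q) (i0 n)) = (1 : κ) ⊗ₜ[B] r0 (i0 n)
      generalize i0 n = z
      induction z using Finsupp.induction_linear with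
      | zero => simp
      | add x y hx hy => rw [Finsupp.mapRange_add (map_add q), map_add, hx, hy, map_add, TensorProduct.tmul_add]
      | single t c =>
        obtain ⟨b, rfl⟩ := hsurj c
        rw [Finsupp.mapRange_single, hq, show R (Finsupp.single t (algebraMap B κ b)) =
            algebraMap B κ b • ((1 : κ) ⊗ₜ[B] r0 (Finsupp.single t 1)) from Finsupp.linearCombination_single _ _ _,
          show Finsupp.single t (algebraMap B C b) = b • Finsupp.single t (1 : C) by
            rw [Finsupp.smul_single, ← Algebra.algebraMap_eq_smul_one],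
          LinearMap.map_smul_of_tower, TensorProduct.tmul_smul, algebraMap_smul]
  let V : (ι → κ) →ₗ[κ] (Λ →₀ κ) :=
    Q.comp (((uu).baseChange κ).comp (Fintype.linearCombination κ fun j => (1 : κ) ⊗ₜ[B] y j))
  have hV : LinearMap.ker V = ⊥ := LinearMap.ker_eq_bot'.mpr fun c hc => by
    have h1 : ((uu).baseChange κ) (Fintype.linearCombination κ (fun j => (1 : κ) ⊗ₜ[B] y j) c) = 0 := by
      rw [← hRQ (((uu).baseChange κ) _)]
      exact (congrArg R hc).trans (map_zero R)
    have h2 := hinj (h1.trans (map_zero ((uu).baseChange κ)).symm)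
    rw [Fintype.linearCombination_apply] at h2
    exact funext (Fintype.linearIndependent_iff.mp hli c h2)
  obtain ⟨L, hL⟩ := LinearMap.exists_leftInverse_of_injective V hV
  -- clear denominators on the relevant coordinates
  let F : Finset Λ := Finset.univ.biUnion fun j => (i0 (uu (y j))).support
  have hden : ∀ x : κ, ∃ s : B, s ∉ P ∧ ∃ b : B, algebraMap B κ s * x = algebraMap B κ b := fun x => by
    obtain ⟨z, rfl⟩ := IsLocalRing.residue_surjective x
    obtain ⟨b, s, rfl⟩ := IsLocalization.exists_mk'_eq P.primeCompl z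
    refine ⟨s, s.2, b, ?_⟩
    rw [IsScalarTower.algebraMap_apply B (Localization.AtPrime P) κ, IsScalarTower.algebraMap_apply B (Localization.AtPrime P) κ,
      IsLocalRing.ResidueField.algebraMap_eq, ← map_mul, mul_comm, IsLocalization.mk'_spec]
  choose s hs b hb using hden
  let d : B := ∏ t ∈ F, ∏ j : ι, s (L (Finsupp.single t 1) j)
  have hd : d ∉ P := P.primeCompl.prod_mem fun t _ => P.primeCompl.prod_mem fun j _ => hs _
  have hnum : ∀ t ∈ F, ∀ j, ∃ c : B, algebraMap B κ c = algebraMap B κ d * L (Finsupp.single t 1) j :=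
    fun t ht j => by
    obtain ⟨e, he⟩ : s (L (Finsupp.single t 1) j) ∣ d :=
      (Finset.dvd_prod_of_mem _ (Finset.mem_univ j)).trans (Finset.dvd_prod_of_mem (fun t => ∏ j : ι, s (L (Finsupp.single t 1) j)) ht)
    exact ⟨e * b (L (Finsupp.single t 1) j), by rw [map_mul, ← hb, he, map_mul]; ring⟩
  choose! c hc using hnum
  let φ : ι → C ⊗[B] Ω[B⁄A] →ₗ[B] C := fun j =>
    ((∑ t ∈ F, c t j • Finsupp.lapply (R := C) (M := C) t).comp i0).restrictScalars B
  let T : Matrix ι ι C := Matrix.of fun i j => φ i (uu (y j))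
  have hT : (algebraMap B κ d) • (1 : Matrix ι ι κ) = T.map q := by
    refine Matrix.ext fun i j => ?_
    have h1 : L (V (Pi.single j 1)) = Pi.single j 1 := LinearMap.congr_fun hL _
    have h2 : V (Pi.single j 1) = Finsupp.mapRange q (map_zero q) (i0 (uu (y j))) := by
      show Q (((uu).baseChange κ) (Fintype.linearCombination κ _ (Pi.single j 1))) = _
      rw [Fintype.linearCombination_apply_single, one_smul, LinearMap.baseChange_tmul, LinearMap.liftBaseChange_tmul,
        one_smul]
      rfl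
    rw [h2] at h1
    have h3 : Finsupp.mapRange q (map_zero q) (i0 (uu (y j))) =
        ∑ t ∈ F, q (i0 (uu (y j)) t) • Finsupp.single t (1 : κ) := by
      ext t
      rw [Finsupp.mapRange_apply, Finsupp.finset_sum_apply]
      simp only [Finsupp.smul_apply, Finsupp.single_apply, smul_eq_mul, mul_ite, mul_one, mul_zero]
      rw [Finset.sum_ite_eq']
      split_ifs with ht
      · rfl
      · rw [Finsupp.notMem_support_iff.mp fun h => ht (Finset.mem_biUnion.mpr ⟨j, Finset.mem_univ _, h⟩), map_zero]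
    rw [h3, map_sum] at h1
    have h4 := congrFun h1 i
    simp only [Finset.sum_apply, map_smul, Pi.smul_apply, smul_eq_mul] at h4
    rw [Matrix.smul_apply, Matrix.one_apply, Matrix.map_apply, smul_eq_mul]
    show _ = q ((∑ t ∈ F, c t i • Finsupp.lapply (R := C) (M := C) t) (i0 (uu (y j))))
    rw [LinearMap.sum_apply, map_sum]
    rw [show (∑ t ∈ F, q ((c t i • Finsupp.lapply (R := C) (M := C) t) (i0 (uu (y j))))) =
      algebraMap B κ d * ∑ t ∈ F, q (i0 (uu (y j)) t) * L (Finsupp.single t 1) i from ?_, h4, Pi.single_apply]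
    rw [Finset.mul_sum]
    refine Finset.sum_congr rfl fun t ht => ?_
    rw [LinearMap.smul_apply, Finsupp.lapply_apply, map_smul, ← algebraMap_smul κ (c t i), hc t ht i, smul_eq_mul]
    ring
  obtain ⟨D, hD⟩ := hsurj T.det
  have hDP : D ∉ P := fun hDP => by
    let qr : C →+* κ := qa.toRingHom
    have hqr : ∀ b, qr (algebraMap B C b) = algebraMap B κ b := fun b => qa.commutes b
    have heq : ∀ z, qr z = q z := fun z => rfl
    have h1 : qr T.det = ((algebraMap B κ d) • (1 : Matrix ι ι κ)).det := by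
      rw [RingHom.map_det, hT]
      congr 1
    rw [← hD, hqr, Ideal.algebraMap_residueField_eq_zero.mpr hDP, Matrix.det_smul, Matrix.det_one, mul_one] at h1
    exact hd (Ideal.algebraMap_residueField_eq_zero.mp (pow_eq_zero_iff'.mp h1.symm).1)
  refine ⟨g * D, fun h => (Ideal.IsPrime.mem_or_mem ‹_› h).elim hgP hDP, ?_⟩
  let eC : (B ⧸ Kₖ) ≃ₗ[B] C := (Ideal.quotientKerAlgEquivOfSurjective (f := Algebra.ofId B C) hsurj).toLinearEquiv
  let ey : ι → C →ₗ[B] (Kₖ).Cotangent := fun j =>
    (Submodule.liftQ Kₖ (LinearMap.toSpanSingleton B _ (y j)) fun x hx => by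
      rw [LinearMap.mem_ker, LinearMap.toSpanSingleton_apply]
      obtain ⟨z, hz⟩ := Ideal.toCotangent_surjective _ (y j)
      rw [← hz, ← map_smul, Ideal.toCotangent_eq_zero, pow_two]
      exact Ideal.mul_mem_mul hx z.2).comp eC.symm.toLinearMap
  have hey : ∀ j b, ey j (algebraMap B C b) = b • y j := fun j b => by
    have hb' : eC.symm (algebraMap B C b) = Submodule.Quotient.mk b := eC.symm_apply_eq.mpr rfl
    simp only [ey, LinearMap.comp_apply, LinearEquiv.coe_coe, hb']
    rfl
  let l0 : C ⊗[B] Ω[B⁄A] →ₗ[B] (Kₖ).Cotangent :=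
    ∑ i, ∑ k, (ey i).comp ((LinearMap.mulLeft B (T.adjugate i k)).comp (φ k))
  refine ⟨g • l0, fun x => ?_⟩
  have hy : ∀ j, l0 (uu (y j)) = D • y j := fun j => by
    show (∑ i, ∑ k, (ey i).comp ((LinearMap.mulLeft B (T.adjugate i k)).comp (φ k))) (uu (y j)) = _
    simp only [LinearMap.sum_apply, LinearMap.comp_apply, LinearMap.mulLeft_apply]
    rw [Finset.sum_eq_single j]
    · rw [← map_sum, show ∑ k, T.adjugate j k * φ k (uu (y j)) = (T.adjugate * T) j j from rfl,
        Matrix.adjugate_mul, Matrix.smul_apply, Matrix.one_apply_eq, smul_eq_mul, mul_one, ← hD, hey]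
    · intro i _ hij
      rw [← map_sum, show ∑ k, T.adjugate i k * φ k (uu (y j)) = (T.adjugate * T) i j from rfl,
        Matrix.adjugate_mul, Matrix.smul_apply, Matrix.one_apply_ne hij, smul_zero, map_zero]
    · intro h; exact absurd (Finset.mem_univ j) h
  obtain ⟨co, hco⟩ := (Submodule.mem_span_range_iff_exists_fun B).mp
    ((Submodule.Quotient.mk_eq_zero _).mp (show Submodule.Quotient.mk (p := Submodule.span B (Set.range y)) (g • x) = 0 by
      rw [Submodule.Quotient.mk_smul]; exact Module.mem_annihilator.mp hg _))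
  rw [LinearMap.smul_apply, ← map_smul, ← map_smul, ← hco, map_sum, map_sum, mul_comm g, mul_smul, ← hco,
    Finset.smul_sum]
  refine Finset.sum_congr rfl fun j _ => ?_
  rw [map_smul, map_smul, hy, smul_comm]

theorem derivation_eq_zero_of_lTensor (P : Ideal B) [P.IsPrime] (hKP : Kₖ ≤ P) {E : Type u} [CommRing E] [Algebra B E]
    [Algebra A E] [IsScalarTower A B E] [Algebra (Localization.AtPrime P) E]
    [IsScalarTower B (Localization.AtPrime P) E] (N : Ideal E)
    (hmN : ∀ x ∈ maximalIdeal (Localization.AtPrime P), ∀ n ∈ N, x • n = 0) (D : Derivation A B E)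
    (hD : ∀ b, D b ∈ N) (x : Kₖ)
    (hx : (uu).lTensor P.ResidueField ((1 : P.ResidueField) ⊗ₜ[B] (Kₖ).toCotangent x) = 0) : D x = 0 := by
  have hDN : ∀ w, D.liftKaehlerDifferential w ∈ N := fun w => by
    induction (KaehlerDifferential.span_range_derivation A B).ge (Submodule.mem_top (x := w)) using
      Submodule.span_induction with
    | mem w hw =>
      obtain ⟨b, rfl⟩ := hw
      rw [Derivation.liftKaehlerDifferential_comp_D]
      exact hD b
    | zero => simp
    | add x y _ _ hx hy => rw [map_add]; exact add_mem hx hy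
    | smul b x _ hx => rw [map_smul, Algebra.smul_def]; exact N.mul_mem_left _ hx
  let δ0 : Ω[B⁄A] →ₗ[B] N.restrictScalars B := D.liftKaehlerDifferential.codRestrict _ hDN
  let eC : (B ⧸ Kₖ) ≃ₗ[B] C := (Ideal.quotientKerAlgEquivOfSurjective (f := Algebra.ofId B C) hsurj).toLinearEquiv
  let base : C ⊗[B] Ω[B⁄A] →ₗ[B] N.restrictScalars B :=
    TensorProduct.lift ((Submodule.liftQ Kₖ (LinearMap.toSpanSingleton B _ δ0) fun y hy => by
      refine LinearMap.ext fun w => Subtype.ext ?_
      show y • D.liftKaehlerDifferential w = 0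
      rw [← algebraMap_smul (Localization.AtPrime P) y]
      exact hmN _ (by rw [← Localization.AtPrime.map_eq_maximalIdeal]; exact Ideal.mem_map_of_mem _ (hKP hy)) _
        (hDN w)).comp eC.symm.toLinearMap)
  have hbase : ∀ w, base ((1 : C) ⊗ₜ[B] w) = δ0 w := fun w => by
    have h1 : eC.symm (1 : C) = Submodule.Quotient.mk (1 : B) :=
      eC.symm_apply_eq.mpr (map_one (Algebra.ofId B C)).symm
    simp only [base, TensorProduct.lift.tmul, LinearMap.comp_apply, LinearEquiv.coe_coe, h1]
    show (1 : B) • δ0 w = δ0 w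
    rw [one_smul]
  let Φ : Localization.AtPrime P →ₗ[B] (C ⊗[B] Ω[B⁄A] →ₗ[B] E) :=
    { toFun := fun r => (LinearMap.mulLeft B (algebraMap (Localization.AtPrime P) E r)).comp
        ((N.restrictScalars B).subtype.comp base)
      map_add' := fun r r' => LinearMap.ext fun z => by simp [add_mul]
      map_smul' := fun b r => LinearMap.ext fun z => by
        show algebraMap (Localization.AtPrime P) E (b • r) * (base z : E) =
          b • (algebraMap (Localization.AtPrime P) E r * (base z : E))
        rw [Algebra.smul_def b r, map_mul, ← IsScalarTower.algebraMap_apply, Algebra.smul_def, mul_assoc] }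
  let v : P.ResidueField ⊗[B] (C ⊗[B] Ω[B⁄A]) →ₗ[B] E :=
    TensorProduct.lift (Submodule.liftQ ((maximalIdeal (Localization.AtPrime P)).restrictScalars B) Φ fun y hy =>
      LinearMap.ext fun z => by
        show algebraMap (Localization.AtPrime P) E y * (base z : E) = 0
        rw [← Algebra.smul_def]
        exact hmN y hy _ (base z).2)
  have h0 := congrArg v hx
  rw [map_zero, LinearMap.lTensor_tmul, KaehlerDifferential.kerCotangentToTensor_toCotangent] at h0
  rw [← h0]
  show D x = algebraMap (Localization.AtPrime P) E 1 * (base ((1 : C) ⊗ₜ[B] KaehlerDifferential.D A B x) : E)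
  rw [hbase, map_one, one_mul]
  show D x = D.liftKaehlerDifferential (KaehlerDifferential.D A B x)
  rw [Derivation.liftKaehlerDifferential_comp_D]

theorem exists_derivation_of_lift {P : Ideal B} [P.IsPrime] {p : Ideal C} [p.IsPrime]
    (hP : P = p.comap (algebraMap B C)) {E : Type u} [CommRing E] [Algebra A E] [Algebra B E] [IsScalarTower A B E]
    (N : Ideal E) (hN : N ^ 2 = ⊥) (hK : ∀ x ∈ Kₖ, algebraMap B E x ∈ N)
    (hunit : ∀ b, b ∉ P → IsUnit (algebraMap B E b))
    (hlift : ∀ ψ : Localization.AtPrime p →ₐ[A] E ⧸ N,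
      (∀ b, ψ (algebraMap C _ (algebraMap B C b)) = Ideal.Quotient.mk N (algebraMap B E b)) →
      ∃ χ : Localization.AtPrime p →ₐ[A] E, (Ideal.Quotient.mkₐ A N).comp χ = ψ) :
    ∃ D : Derivation A B E, (∀ b, D b ∈ N) ∧ ∀ x ∈ Kₖ, D x = algebraMap B E x := by
  let π : B →ₐ[A] E := IsScalarTower.toAlgHom A B E
  let ψ0 : B →ₐ[A] E ⧸ N := (Ideal.Quotient.mkₐ A N).comp π
  let ψC : C →ₐ[A] E ⧸ N := AlgHom.liftOfSurjective (C := E ⧸ N) (IsScalarTower.toAlgHom A B C) hsurj ψ0 fun x hx =>
    RingHom.mem_ker.mpr (Ideal.Quotient.eq_zero_iff_mem.mpr (hK x hx))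
  have hψC : ∀ b, ψC (algebraMap B C b) = Ideal.Quotient.mk N (π b) := fun b =>
    AlgHom.liftOfSurjective_apply (C := E ⧸ N) (IsScalarTower.toAlgHom A B C) hsurj ψ0 _ b
  have hu : ∀ s : p.primeCompl, IsUnit (ψC (s : C)) := fun s => by
    obtain ⟨b, hb⟩ := hsurj (s : C)
    rw [← hb, hψC]
    refine IsUnit.map (Ideal.Quotient.mk N) (hunit b fun h => s.2 ?_)
    have h' : b ∈ p.comap (algebraMap B C) := hP ▸ h
    rw [Ideal.mem_comap, hb] at h'
    exact h'
  let ψ : Localization.AtPrime p →ₐ[A] E ⧸ N :=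
    IsLocalization.liftAlgHom (P := E ⧸ N) (M := p.primeCompl) (f := ψC) hu
  have hψ : ∀ b, ψ (algebraMap C _ (algebraMap B C b)) = Ideal.Quotient.mk N (π b) := fun b => by
    simp only [ψ, IsLocalization.liftAlgHom_apply, IsLocalization.lift_eq]
    exact hψC b
  obtain ⟨χ, hχ⟩ := hlift ψ hψ
  let τ : B →ₐ[A] E := (χ.comp (IsScalarTower.toAlgHom A C _)).comp (IsScalarTower.toAlgHom A B C)
  have hmem : ∀ b, π b - τ b ∈ N := fun b => by
    rw [← Ideal.Quotient.eq, ← hψ b]
    exact (DFunLike.congr_fun hχ _).symm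
  have hN0 : ∀ {x y : E}, x ∈ N → y ∈ N → x * y = 0 := fun {x y} hx hy => by
    rw [← Ideal.mem_bot, ← hN, pow_two]
    exact Ideal.mul_mem_mul hx hy
  have hsmul : ∀ (b : B) (z : E), b • z = π b * z := fun b z => Algebra.smul_def b z
  let D : Derivation A B E := Derivation.mk' (π.toLinearMap - τ.toLinearMap) fun a b => by
    show π (a * b) - τ (a * b) = a • (π b - τ b) + b • (π a - τ a)
    rw [map_mul, map_mul, hsmul, hsmul]
    linear_combination (-1 : E) * hN0 (hmem a) (hmem b)
  exact ⟨D, hmem, fun x hx => by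
    show π x - τ x = π x
    rw [show τ (x : B) = χ (algebraMap C _ (algebraMap B C x)) from rfl, RingHom.mem_ker.mp hx, map_zero, map_zero,
      sub_zero]⟩

theorem injective_of_derivation (P : Ideal B) [P.IsPrime] (hKP : Kₖ ≤ P) {E : Type u} [CommRing E] [Algebra B E]
    [Algebra A E] [IsScalarTower A B E] [Algebra (Localization.AtPrime P) E]
    [IsScalarTower B (Localization.AtPrime P) E] (N : Ideal E)
    (hmN : ∀ x ∈ maximalIdeal (Localization.AtPrime P), ∀ n ∈ N, x • n = 0) (D : Derivation A B E)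
    (hDN : ∀ b, D b ∈ N) (hDK : ∀ x ∈ Kₖ, D x = algebraMap B E x)
    (hker : ∀ x ∈ Kₖ, algebraMap B E x = 0 → ∃ t, t ∉ P ∧ t * x ∈ P * Kₖ) :
    Function.Injective ((uu).lTensor P.ResidueField) := by
  refine (injective_iff_map_eq_zero _).mpr fun z hz => ?_
  have hrep : ∀ z : P.ResidueField ⊗[B] (Kₖ).Cotangent, ∃ s : B, s ∉ P ∧ ∃ x : Kₖ,
      s • z = (1 : P.ResidueField) ⊗ₜ[B] (Kₖ).toCotangent x := fun z => by
    induction z using TensorProduct.induction_on with
    | zero => exact ⟨1, fun h => Ideal.IsPrime.ne_top ‹_› ((Ideal.eq_top_iff_one P).mpr h), 0, by simp⟩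
    | add a b ha hb =>
      obtain ⟨s, hs, x, hx⟩ := ha
      obtain ⟨t, ht, y, hy⟩ := hb
      refine ⟨t * s, fun h => (Ideal.IsPrime.mem_or_mem ‹_› h).elim ht hs, t • x + s • y, ?_⟩
      rw [smul_add, mul_smul, hx, mul_comm t s, mul_smul, hy, map_add, TensorProduct.tmul_add, map_smul, map_smul,
        TensorProduct.tmul_smul, TensorProduct.tmul_smul]
    | tmul c m =>
      obtain ⟨c, rfl⟩ := IsLocalRing.residue_surjective c
      obtain ⟨b, s, rfl⟩ := IsLocalization.exists_mk'_eq P.primeCompl c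
      obtain ⟨x, rfl⟩ := Ideal.toCotangent_surjective _ m
      refine ⟨s, s.2, b • x, ?_⟩
      rw [map_smul, TensorProduct.tmul_smul, TensorProduct.smul_tmul', TensorProduct.smul_tmul']
      congr 1
      rw [Algebra.smul_def, ← Algebra.algebraMap_eq_smul_one,
        IsScalarTower.algebraMap_apply B (Localization.AtPrime P) P.ResidueField,
        IsScalarTower.algebraMap_apply B (Localization.AtPrime P) P.ResidueField,
        IsLocalRing.ResidueField.algebraMap_eq, ← map_mul, mul_comm, IsLocalization.mk'_spec]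
  obtain ⟨s, hs, x, hx⟩ := hrep z
  have h0 : (uu).lTensor P.ResidueField ((1 : P.ResidueField) ⊗ₜ[B] (Kₖ).toCotangent x) = 0 := by
    rw [← hx, map_smul, hz, smul_zero]
  obtain ⟨t, ht, htx⟩ := hker x x.2 (by
    rw [← hDK x x.2]
    exact derivation_eq_zero_of_lTensor hsurj P hKP N hmN D hDN x h0)
  have h3 : ∀ w ∈ P * Kₖ, ∀ hw : w ∈ Kₖ, (1 : P.ResidueField) ⊗ₜ[B] (Kₖ).toCotangent ⟨w, hw⟩ = 0 := fun w hw => by
    refine (show w ∈ Kₖ ∧ _ from Submodule.mul_induction_on (C := fun w => w ∈ Kₖ ∧ ∀ hw : w ∈ Kₖ,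
      (1 : P.ResidueField) ⊗ₜ[B] (Kₖ).toCotangent ⟨w, hw⟩ = 0) hw
      (fun a ha b hb => ⟨Ideal.mul_mem_left _ a hb, fun h => ?_⟩) fun a b ha hb => ⟨add_mem ha.1 hb.1, fun h => ?_⟩).2
    · show (1 : P.ResidueField) ⊗ₜ[B] (Kₖ).toCotangent (a • ⟨b, hb⟩) = 0
      rw [map_smul, TensorProduct.tmul_smul, ← algebraMap_smul P.ResidueField a,
        Ideal.algebraMap_residueField_eq_zero.mpr ha, zero_smul]
    · show (1 : P.ResidueField) ⊗ₜ[B] (Kₖ).toCotangent (⟨a, ha.1⟩ + ⟨b, hb.1⟩) = 0
      rw [map_add, TensorProduct.tmul_add, ha.2, hb.2, add_zero]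
  have h4 : (t * s) • z = 0 := by
    rw [mul_smul, hx, ← TensorProduct.tmul_smul, ← map_smul]
    exact h3 _ htx _
  rw [← algebraMap_smul P.ResidueField (t * s)] at h4
  refine (smul_eq_zero.mp h4).resolve_left fun h => ?_
  exact (Ideal.IsPrime.mem_or_mem ‹_› (Ideal.algebraMap_residueField_eq_zero.mp h)).elim ht hs


theorem injective_of_lift {P : Ideal B} [P.IsPrime] {p : Ideal C} [p.IsPrime] (hP : P = p.comap (algebraMap B C))
    (Q : Ideal (Localization.AtPrime P))
    (hQ : Q ⊓ (Kₖ).map (algebraMap B (Localization.AtPrime P)) ≤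
      (P * Kₖ).map (algebraMap B (Localization.AtPrime P)))
    (hlift : ∀ (E : Type u) [CommRing E] [Algebra A E] (N : Ideal E), N ^ 2 = ⊥ →
      ∀ ψ : Localization.AtPrime p →ₐ[A] E ⧸ N,
        (∀ x ∈ Q, ψ (Localization.localRingHom P p (algebraMap B C) hP x) = 0) →
        ∃ χ : Localization.AtPrime p →ₐ[A] E, (Ideal.Quotient.mkₐ A N).comp χ = ψ) :
    Function.Injective ((uu).lTensor P.ResidueField) := by
  let R := Localization.AtPrime P
  let JR := (Kₖ).map (algebraMap B R)
  let PJ := (P * Kₖ).map (algebraMap B R)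
  have hKP : Kₖ ≤ P := fun x hx => by
    rw [hP, Ideal.mem_comap, RingHom.mem_ker.mp hx]
    exact p.zero_mem
  let N := (JR ⊔ Q).map (Ideal.Quotient.mk (PJ ⊔ Q))
  have hN : N ^ 2 = ⊥ := by
    rw [← Ideal.map_pow, Ideal.map_eq_bot_iff_le_ker, Ideal.mk_ker, pow_two, Ideal.sup_mul]
    refine sup_le ?_ (le_sup_of_le_right Ideal.mul_le_left)
    rw [Ideal.mul_sup]
    refine sup_le_sup ?_ Ideal.mul_le_right
    rw [← Ideal.map_mul]
    exact Ideal.map_mono (Ideal.mul_mono_left hKP)
  have hmap : ∀ b, algebraMap B (R ⧸ PJ ⊔ Q) b = Ideal.Quotient.mk (PJ ⊔ Q) (algebraMap B R b) :=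
    fun b => IsScalarTower.algebraMap_apply B R (R ⧸ PJ ⊔ Q) b
  obtain ⟨D, hDN, hDK⟩ := exists_derivation_of_lift hsurj hP (E := R ⧸ PJ ⊔ Q) N hN
    (fun x hx => by rw [hmap]; exact Ideal.mem_map_of_mem _ (Ideal.mem_sup_left (Ideal.mem_map_of_mem _ hx)))
    (fun b hb => by rw [hmap]; exact (IsLocalization.map_units R (⟨b, hb⟩ : P.primeCompl)).map _)
    fun ψ hψ => hlift _ N hN ψ fun x hx => by
      have h := RingHom.congr_fun (IsLocalization.ringHom_ext P.primeCompl (j := ψ.toRingHom.comp
        (Localization.localRingHom P p (algebraMap B C) hP))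
        (k := (Ideal.Quotient.mk N).comp (Ideal.Quotient.mk (PJ ⊔ Q))) (RingHom.ext fun b => by
          simp only [RingHom.comp_apply, AlgHom.toRingHom_eq_coe, RingHom.coe_coe, Localization.localRingHom_to_map]
          rw [hψ, hmap])) x
      simp only [RingHom.comp_apply, AlgHom.toRingHom_eq_coe, RingHom.coe_coe] at h
      rw [h]
      exact Ideal.Quotient.eq_zero_iff_mem.mpr (Ideal.mem_map_of_mem _ (Ideal.mem_sup_right hx))
  refine injective_of_derivation hsurj P hKP N (fun x hx n hn => ?_) D hDN hDK fun x hx h => ?_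
  · obtain ⟨z, hz, rfl⟩ := (Ideal.mem_map_iff_of_surjective _ Ideal.Quotient.mk_surjective).mp hn
    rw [Algebra.smul_def, Ideal.Quotient.algebraMap_eq, ← map_mul, Ideal.Quotient.eq_zero_iff_mem]
    have h1 : x * z ∈ maximalIdeal R * (JR ⊔ Q) := Ideal.mul_mem_mul hx hz
    rw [← Localization.AtPrime.map_eq_maximalIdeal, Ideal.mul_sup, ← Ideal.map_mul] at h1
    exact (sup_le le_sup_left (Ideal.mul_le_right.trans le_sup_right) : _ ≤ PJ ⊔ Q) h1
  · rw [hmap, Ideal.Quotient.eq_zero_iff_mem] at h
    obtain ⟨a, ha, q, hq, haq⟩ := Submodule.mem_sup.mp h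
    have hqJ : q ∈ JR := by
      have h1 : algebraMap B R x ∈ JR := Ideal.mem_map_of_mem _ hx
      have h2 : a ∈ JR := Ideal.map_mono (f := algebraMap B R) (Ideal.mul_le_right : P * Kₖ ≤ Kₖ) ha
      have h3 : q = algebraMap B R x - a := by rw [← haq]; exact (add_sub_cancel_left a q).symm
      rw [h3]
      exact sub_mem h1 h2
    have h4 : algebraMap B R x ∈ PJ := by
      rw [← haq]
      exact add_mem ha (hQ ⟨hq, hqJ⟩)
    exact (IsLocalization.algebraMap_mem_map_algebraMap_iff P.primeCompl R _ _).mp h4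

theorem injective_of_formallySmooth_atPrime (p : Ideal C) [p.IsPrime]
    [Algebra.FormallySmooth A (Localization.AtPrime p)] :
    Function.Injective ((uu).lTensor p.ResidueField) := by
  rw [injective_residueField_iff hsurj (p.comap (algebraMap B C)) p rfl]
  refine injective_of_lift hsurj (P := p.comap (algebraMap B C)) (p := p) rfl ⊥ (by simp) fun E _ _ N hN ψ _ =>
    ⟨Algebra.FormallySmooth.lift N ⟨2, hN⟩ ψ, Algebra.FormallySmooth.comp_lift N ⟨2, hN⟩ ψ⟩

theorem injective_of_adicSmooth_atPrime [IsNoetherianRing B] (p : Ideal C) [p.IsPrime]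
    (h : CAlgX.IsAdicFormallySmooth A (Localization.AtPrime p) (maximalIdeal (Localization.AtPrime p))) :
    Function.Injective ((uu).lTensor p.ResidueField) := by
  rw [injective_residueField_iff hsurj (p.comap (algebraMap B C)) p rfl]
  let P := p.comap (algebraMap B C)
  let R := Localization.AtPrime P
  haveI : IsNoetherianRing R := IsLocalization.isNoetherianRing P.primeCompl _ inferInstance
  obtain ⟨c, hc⟩ := Ideal.exists_pow_inf_eq_pow_smul (maximalIdeal R)
    ((Kₖ).map (algebraMap B R) : Submodule R R)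
  have hmax : ((maximalIdeal R)).map (Localization.localRingHom P p (algebraMap B C) rfl) =
      maximalIdeal (Localization.AtPrime p) := by
    rw [← Localization.AtPrime.map_eq_maximalIdeal, ← Localization.AtPrime.map_eq_maximalIdeal, Ideal.map_map,
      show (Localization.localRingHom P p (algebraMap B C) rfl).comp (algebraMap B R) =
        (algebraMap C (Localization.AtPrime p)).comp (algebraMap B C) from
        RingHom.ext fun b => Localization.localRingHom_to_map P p _ rfl b,
      ← Ideal.map_map, Ideal.map_comap_of_surjective _ hsurj]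
  refine injective_of_lift hsurj (P := P) (p := p) rfl (maximalIdeal R ^ (c + 1)) ?_ fun E _ _ N hN ψ hψ =>
    h E N hN ψ ⟨c + 1, fun x hx => ?_⟩
  · have h1 := hc (c + 1) (Nat.le_succ c)
    simp only [smul_eq_mul, Ideal.mul_top, Nat.add_sub_cancel_left, pow_one] at h1
    rw [Ideal.map_mul, Localization.AtPrime.map_eq_maximalIdeal]
    exact h1.le.trans (Ideal.mul_mono_right inf_le_right)
  · rw [← hmax, ← Ideal.map_pow] at hx
    have hle : (maximalIdeal R ^ (c + 1)).map (Localization.localRingHom P p (algebraMap B C) rfl) ≤ RingHom.ker ψ :=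
      Ideal.map_le_iff_le_comap.mpr fun y hy => hψ y hy
    exact hle hx

theorem exists_away_of_injective [Algebra.FormallySmooth A B] [Module.Finite B (Kₖ).Cotangent] (p : Ideal C)
    [p.IsPrime] (hinj : Function.Injective ((uu).lTensor p.ResidueField)) :
    ∃ f : C, f ∉ p ∧ Algebra.FormallySmooth A (Localization.Away f) ∧
      Algebra.FormallySmooth A (Localization.AtPrime p) := by
  rw [injective_residueField_iff hsurj (p.comap (algebraMap B C)) p rfl] at hinj
  obtain ⟨f, hf, l, hl⟩ := exists_smul_id_of_injective hsurj (p.comap (algebraMap B C))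
    (fun x hx => by rw [Ideal.mem_comap, RingHom.mem_ker.mp hx]; exact p.zero_mem) hinj
  exact ⟨algebraMap B C f, hf,
    formallySmooth_of_smul_id hsurj f l hl (Submonoid.powers (algebraMap B C f))
      (IsLocalization.Away.algebraMap_isUnit _),
    formallySmooth_of_smul_id hsurj f l hl p.primeCompl
      (IsLocalization.map_units (Localization.AtPrime p) (⟨_, hf⟩ : p.primeCompl))⟩

omit hsurj in
theorem formallySmooth_atPrime_of_away {A C : Type u} [CommRing A] [CommRing C] [Algebra A C] (p : Ideal C)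
    [p.IsPrime] {f : C} (hf : f ∉ p) [Algebra.FormallySmooth A (Localization.Away f)] :
    Algebra.FormallySmooth A (Localization.AtPrime p) := by
  refine Algebra.FormallySmooth.of_comp_surjective fun E _ _ N hN ψ => ?_
  let ψC : C →ₐ[A] E ⧸ N := ψ.comp (IsScalarTower.toAlgHom A C (Localization.AtPrime p))
  have hψu : ∀ y : p.primeCompl, IsUnit (ψC (y : C)) := fun y =>
    (IsLocalization.map_units (Localization.AtPrime p) y).map ψ
  let ω : Localization.Away f →ₐ[A] E ⧸ N :=
    IsLocalization.liftAlgHom (P := E ⧸ N) (M := Submonoid.powers f) (f := ψC) fun y => by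
      obtain ⟨y, n, rfl⟩ := y
      rw [map_pow]
      exact (hψu ⟨f, hf⟩).pow n
  let χ := Algebra.FormallySmooth.lift N ⟨2, hN⟩ ω
  have hχ : ∀ c : C, Ideal.Quotient.mk N (χ (algebraMap C _ c)) = ψC c := fun c => by
    refine (Algebra.FormallySmooth.mk_lift N ⟨2, hN⟩ ω (algebraMap C _ c)).trans ?_
    simp only [ω, IsLocalization.liftAlgHom_apply, IsLocalization.lift_eq]
    rfl
  have hunit : ∀ x : E, IsUnit (Ideal.Quotient.mk N x) → IsUnit x := fun x hx => by
    obtain ⟨w, hw⟩ := hx.exists_right_inv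
    obtain ⟨w, rfl⟩ := Ideal.Quotient.mk_surjective w
    rw [← map_mul, ← map_one (Ideal.Quotient.mk N), Ideal.Quotient.eq] at hw
    have hsq : (x * w - 1) ^ 2 = 0 := by
      rw [← Ideal.mem_bot, ← hN]
      exact Ideal.pow_mem_pow hw 2
    exact IsUnit.of_mul_eq_one (w * (1 - (x * w - 1))) (by linear_combination (-1 : E) * hsq)
  refine ⟨IsLocalization.liftAlgHom (M := p.primeCompl) (f := χ.comp (IsScalarTower.toAlgHom A C _))
      (fun y => hunit _ (by show IsUnit (Ideal.Quotient.mk N (χ (algebraMap C _ (y : C)))); rw [hχ]; exact hψu y)),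
    IsLocalization.algHom_ext p.primeCompl (AlgHom.ext fun c => ?_)⟩
  show Ideal.Quotient.mk N _ = ψC c
  rw [← hχ]
  congr 1
  exact IsLocalization.lift_eq _ c

end Groth.Agent.PP16Lib

end
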