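import Groth.Agent.PP16Lib.AdicLift

/-!
Formal smoothness for the `J`-adic topology when `B/J` is formally smooth: equivalent to projectivity
of `J/J²` together with the bijectivity of `Sym^n(J/J²) → J^n/J^(n+1)`.
-/

set_option autoImplicit false
set_option maxHeartbeats 400000
set_option linter.unusedSectionVars false

universe u

open scoped TensorProduct
open MvPolynomial

noncomputable section

namespace Groth.Agent.PP16Lib

variable {A B : Type u} [CommRing A] [CommRing B] [Algebra A B] (J : Ideal B)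

theorem quotient_smul_cotangent_eq {b b' : B} (h : b - b' ∈ J) (y : J.Cotangent) : b • y = b' • y := by
  rw [← algebraMap_smul (B ⧸ J) b y, ← algebraMap_smul (B ⧸ J) b' y]
  congr 1
  exact Ideal.Quotient.eq.mpr h

/-- When `B/J` is formally smooth, `J → J/J²` extends to a derivation of `B`. -/
theorem exists_delta [Algebra.FormallySmooth A (B ⧸ J)] :
    ∃ δ : Derivation A B J.Cotangent, ∀ x : J, δ (x : B) = J.toCotangent x := by
  let π : B ⧸ J ^ 2 →ₐ[A] B ⧸ J := Ideal.Quotient.factorₐ A (Ideal.pow_le_self two_ne_zero)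
  have hπ : Function.Surjective π := fun y => by
    obtain ⟨x, rfl⟩ := Ideal.Quotient.mk_surjective y
    exact ⟨Ideal.Quotient.mk _ x, rfl⟩
  have hnil : IsNilpotent (RingHom.ker π.toRingHom) := by
    refine ⟨2, le_bot_iff.mp ((Ideal.pow_right_mono (J := J.map (Ideal.Quotient.mk (J ^ 2))) ?_ 2).trans ?_)⟩
    · intro y hy
      obtain ⟨x, rfl⟩ := Ideal.Quotient.mk_surjective y
      exact Ideal.mem_map_of_mem _ (Ideal.Quotient.eq_zero_iff_mem.mp hy)
    · rw [map_mk_pow_eq_bot]
  let s := Algebra.FormallySmooth.liftOfSurjective (AlgHom.id A (B ⧸ J)) π hπ hnil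
  have hs : ∀ c, π (s c) = c := Algebra.FormallySmooth.liftOfSurjective_apply (AlgHom.id A (B ⧸ J)) π hπ hnil
  choose t ht using fun c => Ideal.Quotient.mk_surjective (s c)
  have hmem : ∀ b, b - t (Ideal.Quotient.mk J b) ∈ J := fun b => by
    refine Ideal.Quotient.eq.mp ?_
    refine (hs _).symm.trans ?_
    rw [← ht]
    rfl
  let d : B → J.Cotangent := fun b => J.toCotangent ⟨_, hmem b⟩
  have hd : ∀ b (y : J), Ideal.Quotient.mk (J ^ 2) b - s (Ideal.Quotient.mk J b) = Ideal.Quotient.mk (J ^ 2) (y : B) →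
      d b = J.toCotangent y := fun b y hy => by
    refine J.toCotangent_eq.mpr (Ideal.Quotient.eq.mp ?_)
    rw [map_sub, ht]
    exact hy
  have hq : ∀ b, Ideal.Quotient.mk (J ^ 2) b - s (Ideal.Quotient.mk J b) =
      Ideal.Quotient.mk (J ^ 2) (b - t (Ideal.Quotient.mk J b)) := fun b => by rw [map_sub, ht]
  let D : B →ₗ[A] J.Cotangent :=
    { toFun := d
      map_add' := fun a b => by
        refine (hd (a + b) (⟨_, hmem a⟩ + ⟨_, hmem b⟩) ?_).trans (map_add _ _ _)
        show _ = Ideal.Quotient.mk (J ^ 2) ((a - t (Ideal.Quotient.mk J a)) + (b - t (Ideal.Quotient.mk J b)))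
        rw [map_add, map_add, map_add, map_add, ← hq, ← hq]
        ring
      map_smul' := fun r b => by
        refine (hd (r • b) (algebraMap A B r • ⟨_, hmem b⟩) ?_).trans ?_
        · show _ = Ideal.Quotient.mk (J ^ 2) (algebraMap A B r * (b - t (Ideal.Quotient.mk J b)))
          rw [map_mul, ← hq, Algebra.smul_def, map_mul, map_mul, map_mul]
          rw [show Ideal.Quotient.mk J (algebraMap A B r) = algebraMap A (B ⧸ J) r from rfl, AlgHom.commutes]
          show _ = algebraMap A (B ⧸ J ^ 2) r * _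
          rw [mul_sub]
          rfl
        · rw [map_smul, algebraMap_smul]
          rfl }
  refine ⟨Derivation.mk' D fun a b => ?_, fun x => hd _ x ?_⟩
  · show d (a * b) = a • d b + b • d a
    rw [show b • d a = t (Ideal.Quotient.mk J b) • d a from quotient_smul_cotangent_eq J (hmem b) _]
    refine (hd (a * b) (a • ⟨_, hmem b⟩ + t (Ideal.Quotient.mk J b) • ⟨_, hmem a⟩) ?_).trans
      (by rw [map_add, map_smul, map_smul])
    show _ = Ideal.Quotient.mk (J ^ 2)
      (a * (b - t (Ideal.Quotient.mk J b)) + t (Ideal.Quotient.mk J b) * (a - t (Ideal.Quotient.mk J a)))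
    rw [map_add, map_mul _ a (b - _), map_mul _ (t _) (a - _), ← hq, ← hq, ht, map_mul, map_mul, map_mul]
    ring
  · rw [show Ideal.Quotient.mk J (x : B) = 0 from Ideal.Quotient.eq_zero_iff_mem.mpr x.2, map_zero, sub_zero]

variable {J}

theorem cotangent_smul_eq_zero {b : B} (hb : b ∈ J) (y : J.Cotangent) : b • y = 0 := by
  rw [quotient_smul_cotangent_eq J (b := b) (b' := 0) (by simpa using hb) y, zero_smul]

theorem delta_mul_eq_zero (δ : Derivation A B J.Cotangent) {x : B} (hx : x ∈ J ^ 2) : δ x = 0 := by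
  rw [pow_two] at hx
  refine Submodule.mul_induction_on hx (fun a ha b hb => ?_) fun a b ha hb => by rw [map_add, ha, hb, add_zero]
  rw [Derivation.leibniz, cotangent_smul_eq_zero ha, cotangent_smul_eq_zero hb, add_zero]

theorem projective_cotangent [Algebra.FormallySmooth A (B ⧸ J)] (hS : CAlgX.IsAdicFormallySmooth A B J) :
    Module.Projective (B ⧸ J) J.Cotangent := by
  classical
  obtain ⟨δ, hδ⟩ := exists_delta (A := A) J
  let M := J.Cotangent →₀ B ⧸ J
  let p : M →ₗ[B ⧸ J] J.Cotangent := Finsupp.linearCombination (B ⧸ J) id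
  have hps : Function.Surjective p := fun y => ⟨Finsupp.single y 1, by
    show Finsupp.linearCombination (B ⧸ J) id (Finsupp.single y 1) = y
    rw [Finsupp.linearCombination_single, one_smul]
    rfl⟩
  letI : Module (B ⧸ J)ᵐᵒᵖ J.Cotangent := Module.compHom _ ((RingHom.id (B ⧸ J)).fromOpposite fun _ _ => Commute.all _ _)
  haveI : IsCentralScalar (B ⧸ J) J.Cotangent := ⟨fun r m => rfl⟩
  haveI : IsScalarTower A (B ⧸ J) J.Cotangent := ⟨fun a c y => by
    obtain ⟨b, rfl⟩ := Ideal.Quotient.mk_surjective c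
    rw [← Ideal.Quotient.mkₐ_eq_mk A, ← map_smul]
    exact smul_assoc a b y⟩
  haveI : IsScalarTower A (B ⧸ J)ᵐᵒᵖ J.Cotangent := ⟨fun a c y => by
    show (a • c).unop • y = a • c.unop • y
    rw [MulOpposite.unop_smul, smul_assoc]⟩
  let π : TrivSqZeroExt (B ⧸ J) M →ₐ[A] TrivSqZeroExt (B ⧸ J) J.Cotangent :=
    (TrivSqZeroExt.map p).restrictScalars A
  have hπ : Function.Surjective π := fun y => by
    obtain ⟨m, hm⟩ := hps y.snd
    refine ⟨TrivSqZeroExt.inl y.fst + TrivSqZeroExt.inr m, TrivSqZeroExt.ext ?_ ?_⟩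
    · simp [π]
    · simp [π, hm]
  let ψ : B →ₐ[A] TrivSqZeroExt (B ⧸ J) J.Cotangent :=
    { toFun := fun b => TrivSqZeroExt.inl (Ideal.Quotient.mk J b) + TrivSqZeroExt.inr (δ b)
      map_one' := by simp
      map_mul' := fun a b => by
        refine TrivSqZeroExt.ext (by simp) ?_
        simp only [TrivSqZeroExt.snd_add, TrivSqZeroExt.snd_inl, TrivSqZeroExt.snd_inr, zero_add,
          TrivSqZeroExt.snd_mul, TrivSqZeroExt.fst_add, TrivSqZeroExt.fst_inl, TrivSqZeroExt.fst_inr, add_zero,
          Derivation.leibniz, op_smul_eq_smul]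
        rw [← algebraMap_smul (B ⧸ J) a (δ b), ← algebraMap_smul (B ⧸ J) b (δ a)]
        rfl
      map_zero' := by simp
      map_add' := fun a b => TrivSqZeroExt.ext (by simp) (by simp)
      commutes' := fun r => TrivSqZeroExt.ext (by simp; rfl) (by simp; rfl) }
  have hker : ∀ L : Ideal (TrivSqZeroExt (B ⧸ J) M), (∀ x ∈ L, π x = 0) → L ^ 2 = ⊥ := fun L hL => by
    rw [eq_bot_iff, pow_two, Ideal.mul_le]
    intro a ha b hb
    have fa : a.fst = 0 := by simpa [π] using congrArg TrivSqZeroExt.fst (hL a ha)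
    have fb : b.fst = 0 := by simpa [π] using congrArg TrivSqZeroExt.fst (hL b hb)
    rw [Ideal.mem_bot]
    exact TrivSqZeroExt.ext (by simp [fa, fb]) (by simp [fa, fb])
  obtain ⟨χ, hχ, -⟩ := exists_lift_of_surjective hS π hπ hker ψ (k := 2) fun x hx => by
    refine TrivSqZeroExt.ext ?_ ?_
    · simp [ψ, Ideal.Quotient.eq_zero_iff_mem.mpr (Ideal.pow_le_self two_ne_zero hx)]
    · simp [ψ, delta_mul_eq_zero δ hx]
  have hfst : ∀ b, (χ b).fst = Ideal.Quotient.mk J b := fun b => by
    simpa [π, ψ] using congrArg TrivSqZeroExt.fst (hχ b)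
  let σ0 : J →ₗ[B] M :=
    { toFun := fun x => (χ (x : B)).snd
      map_add' := fun x y => by simp
      map_smul' := fun b x => by
        show (χ (b • (x : B))).snd = b • (χ (x : B)).snd
        rw [smul_eq_mul, map_mul, TrivSqZeroExt.snd_mul, hfst, hfst, op_smul_eq_smul,
          Ideal.Quotient.eq_zero_iff_mem.mpr x.2, zero_smul, add_zero]
        exact algebraMap_smul (B ⧸ J) b _ }
  let σ : J.Cotangent →ₗ[B] M := Submodule.liftQ _ σ0 <| Submodule.smul_le.mpr fun r hr x _ => by
    rw [LinearMap.mem_ker, map_smul, ← algebraMap_smul (B ⧸ J) r (σ0 x),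
      show algebraMap B (B ⧸ J) r = 0 from Ideal.Quotient.eq_zero_iff_mem.mpr hr, zero_smul]
  let σC : J.Cotangent →ₗ[B ⧸ J] M :=
    { toFun := σ, map_add' := map_add σ,
      map_smul' := fun c y => by
        obtain ⟨b, rfl⟩ := Ideal.Quotient.mk_surjective c
        exact (congrArg σ (algebraMap_smul (B ⧸ J) b y)).trans
          ((map_smul σ b y).trans (algebraMap_smul (B ⧸ J) b (σ y)).symm) }
  refine Module.Projective.of_split σC p (LinearMap.ext fun y => ?_)
  obtain ⟨x, rfl⟩ := J.toCotangent_surjective y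
  show p (χ (x : B)).snd = J.toCotangent x
  have := congrArg TrivSqZeroExt.snd (hχ (x : B))
  simpa [π, ψ, hδ x] using this

/-- Products of linear forms after splitting `J/J²` off a free module. -/
theorem linForm_mem {C : Type u} [CommRing C] {Λ : Type u} (z : Λ →₀ C) :
    linForm C Λ z ∈ MvPolynomial.idealOfVars Λ C := by
  induction z using Finsupp.induction_linear with
  | zero => simp
  | add x y hx hy => rw [map_add]; exact add_mem hx hy
  | single a c =>
    rw [linForm, Finsupp.linearCombination_single, Algebra.smul_def]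
    exact Ideal.mul_mem_left _ _ (Ideal.subset_span ⟨a, rfl⟩)

theorem injective_canonJ_aux (hS : CAlgX.IsAdicFormallySmooth A B J)
    (δ : Derivation A B J.Cotangent) (hδ : ∀ x : J, δ (x : B) = J.toCotangent x)
    {Q : Type u} [CommRing Q] [Algebra A Q] [Algebra B Q] [IsScalarTower A B Q]
    (hsurj : Function.Surjective (algebraMap B Q)) (hker' : ∀ x ∈ J, algebraMap B Q x = 0)
    {Λ : Type u} (i : J.Cotangent →ₗ[B] Λ →₀ Q) (r : (Λ →₀ Q) →ₗ[B] J.Cotangent)
    (hr : r.comp i = LinearMap.id) (κ : Type u) [Fintype κ] [Nonempty κ] :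
    Function.Injective (canonJ J κ) := by
  set X1 := MvPolynomial.idealOfVars Λ Q with hX1
  let E := MvPolynomial Λ Q ⧸ X1 ^ (Fintype.card κ + 1)
  let X1' : Ideal (MvPolynomial Λ Q) := X1 ^ 2 ⊔ X1 ^ (Fintype.card κ + 1)
  let q : MvPolynomial Λ Q →ₐ[A] MvPolynomial Λ Q ⧸ X1' := Ideal.Quotient.mkₐ A X1'
  let L : B → MvPolynomial Λ Q := fun b => linForm Q Λ (i (δ b))
  have hLs : ∀ (b : B) (y : J.Cotangent), linForm Q Λ (i (b • y)) =
      C (algebraMap B Q b) * linForm Q Λ (i y) := fun b y => by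
    rw [map_smul, ← algebraMap_smul Q b (i y), map_smul, smul_eq_C_mul]
  let ψ : B →ₐ[A] MvPolynomial Λ Q ⧸ X1' :=
    { toFun := fun b => q (C (algebraMap B Q b) + L b)
      map_one' := by simp [L]
      map_mul' := fun a b => by
        rw [← map_mul q]
        refine Ideal.Quotient.eq.mpr (Ideal.mem_sup_left ?_)
        have : C (algebraMap B Q (a * b)) + L (a * b) -
            (C (algebraMap B Q a) + L a) * (C (algebraMap B Q b) + L b) = -(L a * L b) := by
          simp only [L, Derivation.leibniz, map_add, hLs, map_mul]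
          ring
        rw [this, pow_two]
        exact neg_mem (Ideal.mul_mem_mul (linForm_mem _) (linForm_mem _))
      map_zero' := by simp [L]
      map_add' := fun a b => by
        show q _ = q _ + q _
        rw [← map_add]
        congr 1
        simp only [L, map_add]
        abel
      commutes' := fun a => by
        show q _ = _
        rw [show L (algebraMap A B a) = 0 by simp [L], add_zero]
        rw [← IsScalarTower.algebraMap_apply A B Q]
        exact q.commutes a }
  let π : E →ₐ[A] MvPolynomial Λ Q ⧸ X1' := Ideal.Quotient.factorₐ A le_sup_right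
  have hπ : Function.Surjective π := fun y => by
    obtain ⟨x, rfl⟩ := Ideal.Quotient.mk_surjective y
    exact ⟨Ideal.Quotient.mk _ x, rfl⟩
  let Xb : Ideal E := X1.map (Ideal.Quotient.mk (X1 ^ (Fintype.card κ + 1)))
  have hXb : Xb ^ (Fintype.card κ + 1) = ⊥ := map_mk_pow_eq_bot _ _
  have hπk : ∀ e : E, π e = 0 → e ∈ Xb ^ 2 := fun e he => by
    obtain ⟨e, rfl⟩ := Ideal.Quotient.mk_surjective e
    have := Ideal.mem_map_of_mem (Ideal.Quotient.mk (X1 ^ (Fintype.card κ + 1)))
      (Ideal.Quotient.eq_zero_iff_mem.mp he)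
    rw [Ideal.map_sup, Ideal.map_quotient_self, sup_bot_eq] at this
    exact (Ideal.map_pow (Ideal.Quotient.mk (X1 ^ (Fintype.card κ + 1))) X1 2).le this
  have hker : ∀ M : Ideal E, (∀ x ∈ M, π x = 0) → M ^ (Fintype.card κ + 1) = ⊥ := fun M hM => by
    have h1 : M ≤ Xb := fun e he => Ideal.pow_le_self two_ne_zero (hπk e (hM e he))
    exact le_bot_iff.mp (hXb ▸ Ideal.pow_right_mono h1 (Fintype.card κ + 1))
  obtain ⟨χ, hχ, -⟩ := exists_lift_of_surjective (E := E) (E' := MvPolynomial Λ Q ⧸ X1') hS π hπ hker ψ (k := 2)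
      fun x hx => by
    show q _ = 0
    simp [L, delta_mul_eq_zero δ hx, hker' _ (Ideal.pow_le_self two_ne_zero hx)]
  have hx1 : ∀ b, χ b - Ideal.Quotient.mk _ (C (algebraMap B Q b)) - Ideal.Quotient.mk _ (L b) ∈ Xb ^ 2 :=
    fun b => by
      refine hπk _ ?_
      rw [map_sub, map_sub, hχ]
      show q _ - q _ - q _ = 0
      rw [map_add]
      ring
  have hL1 : ∀ b, Ideal.Quotient.mk (X1 ^ (Fintype.card κ + 1)) (L b) ∈ Xb := fun b =>
    Ideal.mem_map_of_mem _ (linForm_mem _)
  have hb1 : ∀ b, χ b - Ideal.Quotient.mk _ (C (algebraMap B Q b)) ∈ Xb := fun b => by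
    have := add_mem (Ideal.pow_le_self two_ne_zero (hx1 b)) (hL1 b)
    rwa [sub_add_cancel] at this
  have hJ : ∀ x : J, χ (x : B) - Ideal.Quotient.mk _ (linForm Q Λ (i (J.toCotangent x))) ∈ Xb ^ 2 := fun x => by
    have := hx1 (x : B)
    rwa [hker' _ x.2, map_zero, map_zero, sub_zero,
      show L (x : B) = linForm Q Λ (i (J.toCotangent x)) by simp only [L, hδ]] at this
  have hJle : J.map χ ≤ Xb := Ideal.map_le_iff_le_comap.mpr fun x hx => by
    have h1 := hb1 x
    rw [hker' _ hx, map_zero, map_zero, sub_zero] at h1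
    exact h1
  have hpow : ∀ m, ∀ y ∈ J ^ m, χ y ∈ Xb ^ m := fun m y hy => by
    have := Ideal.mem_map_of_mem χ hy
    rw [Ideal.map_pow] at this
    exact Ideal.pow_right_mono hJle m this
  let Γ0 : ↥(J ^ Fintype.card κ) →ₗ[B] E :=
    { toFun := fun y => χ (y : B)
      map_add' := fun y z => by simp
      map_smul' := fun b y => by
        show χ (b • (y : B)) = b • χ (y : B)
        rw [smul_eq_mul, map_mul,
          show b • χ (y : B) = algebraMap B E b * χ (y : B) from Algebra.smul_def (R := B) (A := E) b _, ← sub_eq_zero, ← sub_mul, ← Ideal.mem_bot, ← hXb,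
          pow_succ' Xb]
        exact Ideal.mul_mem_mul (hb1 b) (hpow _ _ y.2) }
  let Γ : PP16.grJ B J (Fintype.card κ) →ₗ[B] E := Submodule.liftQ _ Γ0 fun y hy => by
    rw [LinearMap.mem_ker, ← Ideal.mem_bot, ← hXb]
    exact hpow _ _ hy
  let mkB : MvPolynomial Λ Q →ₗ[B] E := (Ideal.Quotient.mkₐ B _).toLinearMap
  rw [← LinearMap.ker_eq_bot, LinearMap.ker_eq_bot']
  intro s hs
  have key : Γ.comp (canonJ J κ) =
      mkB.comp ((toPolyQ B Q κ Λ).comp (symMap κ i)) := by
    refine LinearMap.ext_on (SymmetricPower.span_tprod_eq_top (R := B) (ι := κ) (M := J.Cotangent)) ?_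
    rintro _ ⟨v, rfl⟩
    rw [show v = fun j => J.toCotangent (secJ J (v j)) from funext fun j => (toCotangent_secJ J _).symm]
    simp only [LinearMap.comp_apply]
    rw [canonJ_tprod, symMap_tprod, toPolyQ_tprod]
    show χ (∏ j, (secJ J (v j) : B)) = Ideal.Quotient.mk _ (∏ j, linForm Q Λ (i (J.toCotangent (secJ J (v j)))))
    rw [map_prod, map_prod, ← sub_eq_zero, ← Ideal.mem_bot, ← hXb]
    exact prod_sub_prod_mem Xb Finset.univ _ _ (fun j _ => hJle (Ideal.mem_map_of_mem χ (secJ J (v j)).2))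
      (fun j _ => Ideal.mem_map_of_mem _ (linForm_mem _)) fun j _ => hJ (secJ J (v j))
  have h' := LinearMap.congr_fun key s
  simp only [LinearMap.comp_apply, hs, map_zero] at h'
  have h0 := toPolyQ_eq_zero_of_mem hsurj
    (Ideal.Quotient.eq_zero_iff_mem.mp (show Ideal.Quotient.mk _ _ = (0 : E) from h'.symm))
  rw [← symMap_symMap κ r i
    hr s, h0, map_zero]


theorem symGrBijective_of_adicSmooth [Algebra.FormallySmooth A (B ⧸ J)]
    (hS : CAlgX.IsAdicFormallySmooth A B J) : PP16.SymGrBijective B J := by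
  refine (symGrBijective_iff J).mpr fun κ _ _ => ?_
  haveI := projective_cotangent hS
  obtain ⟨δ, hδ⟩ := exists_delta (A := A) J
  obtain ⟨Λ, i, r, hr⟩ := exists_split (B ⧸ J) J.Cotangent
  exact injective_canonJ_aux (Q := B ⧸ J) hS δ hδ Ideal.Quotient.mk_surjective
    (fun x hx => Ideal.Quotient.eq_zero_iff_mem.mpr hx) (i.restrictScalars B) (r.restrictScalars B)
    (LinearMap.ext fun y => LinearMap.congr_fun hr y) κ

end Groth.Agent.PP16Lib

end
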