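import Groth.Agent.PP16Lib.AdicSmooth

/-!
`J/J²` projective and `Sym^n(J/J²) → J^n/J^(n+1)` bijective imply adic formal smoothness, when `B/J`
is formally smooth.
-/

set_option autoImplicit false
set_option linter.unusedSectionVars false
set_option maxHeartbeats 400000

universe u

open scoped TensorProduct
open MvPolynomial

noncomputable section

namespace Groth.Agent.PP16Lib

variable {A B Q : Type u} [CommRing A] [CommRing B] [Algebra A B] {J : Ideal B}
  [CommRing Q] [Algebra A Q] [Algebra B Q] [IsScalarTower A B Q] {Λ : Type u}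
  (i : J.Cotangent →ₗ[B] Λ →₀ Q) (r : (Λ →₀ Q) →ₗ[B] J.Cotangent)

/-- The projection of polynomials attached to the idempotent `i ∘ r`. -/
def projPoly : MvPolynomial Λ Q →ₐ[Q] MvPolynomial Λ Q :=
  aeval fun a => linForm Q Λ (i (r (Finsupp.single a 1)))

variable (hsurj : Function.Surjective (algebraMap B Q))

include hsurj in
theorem projPoly_linForm (z : Λ →₀ Q) : projPoly i r (linForm Q Λ z) = linForm Q Λ (i (r z)) := by
  induction z using Finsupp.induction_linear with
  | zero => simp
  | add x y hx hy => simp only [map_add, hx, hy]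
  | single a c =>
    obtain ⟨b, rfl⟩ := hsurj c
    rw [show Finsupp.single a (algebraMap B Q b) = b • Finsupp.single a (1 : Q) by
      rw [Finsupp.smul_single, Algebra.algebraMap_eq_smul_one], map_smul r, map_smul i,
      ← algebraMap_smul Q b (Finsupp.single a (1 : Q)),
      ← algebraMap_smul Q b (i (r (Finsupp.single a 1))), map_smul, map_smul, map_smul]
    congr 1
    simp [projPoly, linForm]

include hsurj in
theorem projPoly_projPoly (hr : r.comp i = LinearMap.id) (p : MvPolynomial Λ Q) :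
    projPoly i r (projPoly i r p) = projPoly i r p := by
  refine DFunLike.congr_fun (f := (projPoly i r).comp (projPoly i r)) (g := projPoly i r)
    (MvPolynomial.algHom_ext fun a => ?_) p
  rw [AlgHom.comp_apply, show projPoly i r (X a) = linForm Q Λ (i (r (Finsupp.single a 1))) from aeval_X _ _,
    projPoly_linForm i r hsurj,
    show r (i (r (Finsupp.single a 1))) = r (Finsupp.single a 1) from LinearMap.congr_fun hr _]

theorem exists_linForm_sub_mem (w : MvPolynomial Λ Q) (hw : w ∈ idealOfVars Λ Q) :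
    ∃ z, w - linForm Q Λ z ∈ idealOfVars Λ Q ^ 2 := by
  induction hw using Submodule.span_induction with
  | mem x hx =>
    obtain ⟨a, rfl⟩ := hx
    exact ⟨Finsupp.single a 1, by simp [linForm]⟩
  | zero => exact ⟨0, by simp⟩
  | add x y _ _ hx hy =>
    obtain ⟨zx, hzx⟩ := hx
    obtain ⟨zy, hzy⟩ := hy
    exact ⟨zx + zy, by rw [map_add, add_sub_add_comm]; exact add_mem hzx hzy⟩
  | smul p x hx' hx =>
    obtain ⟨z, hz⟩ := hx
    refine ⟨constantCoeff p • z, ?_⟩
    rw [smul_eq_mul, map_smul, smul_eq_C_mul,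
      show p * x - C (constantCoeff p) * linForm Q Λ z =
        (p - C (constantCoeff p)) * x + C (constantCoeff p) * (x - linForm Q Λ z) by ring, pow_two]
    refine add_mem (Ideal.mul_mem_mul ?_ hx') (Ideal.mul_mem_left _ _ (pow_two (idealOfVars Λ Q) ▸ hz))
    rw [← pow_one (idealOfVars Λ Q), mem_pow_idealOfVars_iff']
    intro d hd
    rw [show d = 0 from (Finsupp.degree_eq_zero_iff d).mp (by omega)]
    simp [constantCoeff_eq]

theorem adicSmooth_aux [Algebra.FormallySmooth A Q] (hsurj : Function.Surjective (algebraMap B Q))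
    (hker : ∀ x, algebraMap B Q x = 0 ↔ x ∈ J) (hr : r.comp i = LinearMap.id)
    (hinj : ∀ (κ : Type u) [Fintype κ] [Nonempty κ], Function.Injective (canonJ J κ)) :
    CAlgX.IsAdicFormallySmooth A B J := by
  intro E _ _ N hN ψ hψ
  obtain ⟨k₀, hψ⟩ := hψ
  set k := k₀ + 1 with hk
  have hψk : ∀ x ∈ J ^ k, ψ x = 0 := fun x hx => hψ x (Ideal.pow_le_pow_right (Nat.le_succ k₀) hx)
  set m := k + k with hm
  set K := J.map (Ideal.Quotient.mk (J ^ m)) with hK
  have hKm : K ^ m = ⊥ := map_mk_pow_eq_bot J m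
  have hKmk : ∀ {j : ℕ} {b : B}, b ∈ J ^ j → Ideal.Quotient.mk (J ^ m) b ∈ K ^ j := fun {j b} hb =>
    (Ideal.map_pow (Ideal.Quotient.mk (J ^ m)) J j).le (Ideal.mem_map_of_mem _ hb)
  have hKback : ∀ {j : ℕ} {b : B}, j ≤ m → Ideal.Quotient.mk (J ^ m) b ∈ K ^ j → b ∈ J ^ j := fun {j b} hj hb => by
    have h1 := (Ideal.map_pow (Ideal.Quotient.mk (J ^ m)) J j).ge hb
    rw [Ideal.mem_map_iff_of_surjective _ Ideal.Quotient.mk_surjective] at h1
    obtain ⟨y, hy, hyb⟩ := h1
    have h2 := Ideal.pow_le_pow_right (I := J) hj (Ideal.Quotient.eq.mp hyb)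
    have h3 := sub_mem hy h2
    rwa [sub_sub_cancel] at h3
  let π0 : B ⧸ J ^ m →ₐ[A] Q := Ideal.Quotient.liftₐ (J ^ m) (IsScalarTower.toAlgHom A B Q)
    fun x hx => (hker x).mpr (Ideal.pow_le_self (by omega) hx)
  have hπ0 : Function.Surjective π0 := fun y => by
    obtain ⟨b, rfl⟩ := hsurj y
    exact ⟨Ideal.Quotient.mk _ b, rfl⟩
  have hπ0k : ∀ y, π0 y = 0 → y ∈ K := fun y hy => by
    obtain ⟨b, rfl⟩ := Ideal.Quotient.mk_surjective y
    exact Ideal.mem_map_of_mem _ ((hker b).mp hy)
  have hnil : IsNilpotent (RingHom.ker π0.toRingHom) :=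
    ⟨m, le_bot_iff.mp ((Ideal.pow_right_mono (fun y hy => hπ0k y hy) m).trans hKm.le)⟩
  let s := Algebra.FormallySmooth.liftOfSurjective (AlgHom.id A Q) π0 hπ0 hnil
  have hs : ∀ c, π0 (s c) = c := Algebra.FormallySmooth.liftOfSurjective_apply (AlgHom.id A Q) π0 hπ0 hnil
  have hs' : ∀ b, s (algebraMap B Q b) - Ideal.Quotient.mk (J ^ m) b ∈ K := fun b => hπ0k _ (by
    rw [map_sub, hs]
    exact sub_self _)
  choose x hx using fun a => J.toCotangent_surjective (r (Finsupp.single a 1))
  let Θ0 : MvPolynomial Λ Q →ₐ[A] B ⧸ J ^ m :=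
    { eval₂Hom s.toRingHom (fun a => Ideal.Quotient.mk (J ^ m) (x a : B)) with
      commutes' := fun a => by
        show eval₂Hom s.toRingHom _ (C (algebraMap A Q a)) = _
        rw [eval₂Hom_C]
        exact s.commutes a }
  have hΘC : ∀ c, Θ0 (C c) = s c := fun c => eval₂Hom_C _ _ c
  have hΘX : ∀ a, Θ0 (X a) = Ideal.Quotient.mk (J ^ m) (x a : B) := fun a => eval₂Hom_X' _ _ a
  have hΘmem : ∀ j, ∀ p ∈ idealOfVars Λ Q ^ j, Θ0 p ∈ K ^ j := fun j p hp => by
    have h1 : (idealOfVars Λ Q).map Θ0.toRingHom ≤ K := by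
      rw [idealOfVars, Ideal.map_span, Ideal.span_le]
      rintro _ ⟨_, ⟨a, rfl⟩, rfl⟩
      show Θ0 (X a) ∈ K
      rw [hΘX]
      exact Ideal.mem_map_of_mem _ (x a).2
    have h2 := (Ideal.map_pow Θ0.toRingHom (idealOfVars Λ Q) j).le (Ideal.mem_map_of_mem Θ0.toRingHom hp)
    exact Ideal.pow_right_mono h1 j h2
  have h0 : ∀ z, ∀ y : J, J.toCotangent y = r z →
      Θ0 (linForm Q Λ z) - Ideal.Quotient.mk (J ^ m) (y : B) ∈ K ^ 2 := fun z => by
    induction z using Finsupp.induction_linear with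
    | zero =>
      intro y hy
      rw [map_zero, map_zero, zero_sub]
      rw [map_zero] at hy
      exact neg_mem (hKmk ((J.toCotangent_eq_zero y).mp hy))
    | add z w hz hw =>
      intro y hy
      obtain ⟨yz, hyz⟩ := J.toCotangent_surjective (r z)
      obtain ⟨yw, hyw⟩ := J.toCotangent_surjective (r w)
      rw [map_add, ← hyz, ← hyw, ← map_add] at hy
      have h3 := hKmk (J.toCotangent_eq.mp hy)
      rw [Submodule.coe_add, map_sub, map_add] at h3
      have e : Θ0 (linForm Q Λ (z + w)) - Ideal.Quotient.mk (J ^ m) (y : B) =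
          (Θ0 (linForm Q Λ z) - Ideal.Quotient.mk (J ^ m) (yz : B)) +
            (Θ0 (linForm Q Λ w) - Ideal.Quotient.mk (J ^ m) (yw : B)) -
            (Ideal.Quotient.mk (J ^ m) (y : B) - (Ideal.Quotient.mk (J ^ m) (yz : B) +
              Ideal.Quotient.mk (J ^ m) (yw : B))) := by
        rw [map_add, map_add]; ring
      rw [e]
      exact sub_mem (add_mem (hz yz hyz) (hw yw hyw)) h3
    | single a c =>
      intro y hy
      obtain ⟨b, rfl⟩ := hsurj c
      rw [show Finsupp.single a (algebraMap B Q b) = b • Finsupp.single a (1 : Q) by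
        rw [Finsupp.smul_single, Algebra.algebraMap_eq_smul_one], map_smul, ← hx, ← map_smul] at hy
      have h3 := hKmk (J.toCotangent_eq.mp hy)
      rw [Submodule.coe_smul, smul_eq_mul, map_sub, map_mul] at h3
      rw [linForm, Finsupp.linearCombination_single, smul_eq_C_mul, map_mul, hΘC, hΘX]
      have e : s (algebraMap B Q b) * Ideal.Quotient.mk (J ^ m) (x a : B) - Ideal.Quotient.mk (J ^ m) (y : B) =
          (s (algebraMap B Q b) - Ideal.Quotient.mk (J ^ m) b) * Ideal.Quotient.mk (J ^ m) (x a : B) -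
          (Ideal.Quotient.mk (J ^ m) (y : B) -
            Ideal.Quotient.mk (J ^ m) b * Ideal.Quotient.mk (J ^ m) (x a : B)) := by ring
      rw [e]
      refine sub_mem ?_ h3
      rw [pow_two K]
      exact Ideal.mul_mem_mul (hs' b) (Ideal.mem_map_of_mem _ (x a).2)
  let R : MvPolynomial Λ Q →ₐ[A] MvPolynomial Λ Q := (projPoly i r).restrictScalars A
  let T : MvPolynomial Λ Q →ₐ[A] B ⧸ J ^ m := Θ0.comp R
  have hR : ∀ p, R p = projPoly i r p := fun p => rfl
  have hRR : ∀ p, R (R p) = R p := fun p => projPoly_projPoly i r hsurj hr p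
  have hRmem : ∀ j, ∀ p ∈ idealOfVars Λ Q ^ j, R p ∈ idealOfVars Λ Q ^ j := fun j p hp => by
    have h1 : (idealOfVars Λ Q).map R.toRingHom ≤ idealOfVars Λ Q := by
      refine Ideal.map_le_iff_le_comap.mpr (Ideal.span_le.mpr ?_)
      rintro _ ⟨a, rfl⟩
      show projPoly i r (X a) ∈ idealOfVars Λ Q
      rw [projPoly, aeval_X]
      exact linForm_mem _
    exact Ideal.pow_right_mono h1 j ((Ideal.map_pow R.toRingHom (idealOfVars Λ Q) j).le
      (Ideal.mem_map_of_mem R.toRingHom hp))
  have hTmem : ∀ j, ∀ p ∈ idealOfVars Λ Q ^ j, T p ∈ K ^ j := fun j p hp => hΘmem j _ (hRmem j p hp)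
  have hTC : ∀ c, T (C c) = s c := fun c => by
    show Θ0 (projPoly i r (C c)) = _
    rw [← MvPolynomial.algebraMap_eq, AlgHom.commutes]
    exact hΘC c
  have hTlin : ∀ z, ∀ y : J, J.toCotangent y = r z →
      T (linForm Q Λ z) - Ideal.Quotient.mk (J ^ m) (y : B) ∈ K ^ 2 := fun z y hy => by
    show Θ0 (projPoly i r _) - _ ∈ _
    rw [projPoly_linForm i r hsurj]
    exact h0 _ y (hy.trans (LinearMap.congr_fun hr _).symm)
  have hTw : ∀ w ∈ idealOfVars Λ Q, ∀ z, w - linForm Q Λ z ∈ idealOfVars Λ Q ^ 2 → ∀ y : J,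
      J.toCotangent y = r z → T w - Ideal.Quotient.mk (J ^ m) (y : B) ∈ K ^ 2 := fun w _ z hz y hy => by
    have h1 := add_mem (hTmem 2 _ hz) (hTlin z y hy)
    rwa [map_sub, sub_add_sub_cancel] at h1
  have hstep : ∀ j, ∀ y ∈ K ^ j, ∃ p ∈ idealOfVars Λ Q ^ j, y - T p ∈ K ^ (j + 1) := fun j => by
    induction j with
    | zero =>
      intro y _
      obtain ⟨b, rfl⟩ := Ideal.Quotient.mk_surjective y
      refine ⟨C (algebraMap B Q b), by simp, ?_⟩
      rw [hTC, zero_add, pow_one K]
      simpa using neg_mem (hs' b)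
    | succ j ih =>
      intro y hy
      rw [pow_succ K] at hy
      refine Submodule.mul_induction_on hy (fun a ha b hb => ?_) fun a b ha hb => ?_
      · obtain ⟨p, hp, hpa⟩ := ih a ha
        obtain ⟨b', hb', rfl⟩ := (Ideal.mem_map_iff_of_surjective _ Ideal.Quotient.mk_surjective).mp hb
        have hz : r (i (J.toCotangent ⟨b', hb'⟩)) = J.toCotangent ⟨b', hb'⟩ := LinearMap.congr_fun hr _
        have hl := hTlin (i (J.toCotangent ⟨b', hb'⟩)) ⟨b', hb'⟩ hz.symm
        refine ⟨p * linForm Q Λ (i (J.toCotangent ⟨b', hb'⟩)), ?_, ?_⟩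
        · rw [pow_succ]; exact Ideal.mul_mem_mul hp (linForm_mem _)
        · rw [map_mul, show a * Ideal.Quotient.mk (J ^ m) b' - T p * T (linForm Q Λ (i (J.toCotangent ⟨b', hb'⟩))) =
            (a - T p) * Ideal.Quotient.mk (J ^ m) b' -
              T p * (T (linForm Q Λ (i (J.toCotangent ⟨b', hb'⟩))) - Ideal.Quotient.mk (J ^ m) b') by ring]
          refine sub_mem ?_ ?_
          · rw [pow_succ K]; exact Ideal.mul_mem_mul hpa hb
          · have := Ideal.mul_mem_mul (hTmem j p hp) hl
            rwa [← pow_add] at this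
      · obtain ⟨p, hp, hpa⟩ := ha
        obtain ⟨q, hq, hqb⟩ := hb
        exact ⟨p + q, add_mem hp hq, by rw [map_add, add_sub_add_comm]; exact add_mem hpa hqb⟩
  have hT : Function.Surjective T := by
    suffices H : ∀ d j, m ≤ j + d → ∀ y ∈ K ^ j, ∃ p, T p = y from fun y => H m 0 (by omega) y (by simp)
    intro d
    induction d with
    | zero =>
      intro j hj y hy
      exact ⟨0, by rw [map_zero, eq_comm, ← Ideal.mem_bot, ← hKm]; exact Ideal.pow_le_pow_right (by omega) hy⟩
    | succ d ih =>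
      intro j hj y hy
      obtain ⟨p, -, hp⟩ := hstep j y hy
      obtain ⟨q, hq⟩ := ih (j + 1) (by omega) _ hp
      exact ⟨p + q, by rw [map_add, hq, add_sub_cancel]⟩
  have hkerT : ∀ p, T p = 0 → R p ∈ idealOfVars Λ Q ^ m := fun p hp => by
    suffices H : ∀ j, j + 1 ≤ m → R p ∈ idealOfVars Λ Q ^ (j + 1) by
      obtain ⟨j, hj⟩ : ∃ j, m = j + 1 := ⟨m - 1, by omega⟩
      rw [hj]; exact H j hj.ge
    intro j
    induction j with
    | zero =>
      intro _
      rw [zero_add, pow_one, ← pow_one (idealOfVars Λ Q), mem_pow_idealOfVars_iff']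
      intro d hd
      rw [show d = 0 from (Finsupp.degree_eq_zero_iff d).mp (by omega)]
      have h1 : ∀ w, π0 (Θ0 w) = constantCoeff w := fun w => by
        refine RingHom.congr_fun (f := π0.toRingHom.comp Θ0.toRingHom) (g := constantCoeff)
          (MvPolynomial.ringHom_ext (fun c => ?_) fun a => ?_) w
        · show π0 (Θ0 (C c)) = constantCoeff (C c)
          rw [hΘC, hs, constantCoeff_C]
        · show π0 (Θ0 (X a)) = constantCoeff (X a)
          rw [hΘX, constantCoeff_X]
          exact (hker _).mpr (x a).2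
      have h2 := h1 (R p)
      rw [show Θ0 (R p) = T p from rfl, hp, map_zero] at h2
      exact h2.symm
    | succ j ih =>
      intro hj
      obtain ⟨κ, _, hκc⟩ : ∃ (κ : Type u) (_ : Fintype κ), Fintype.card κ = j + 1 :=
        ⟨ULift (Fin (j + 1)), inferInstance, by simp⟩
      haveI : Nonempty κ := Fintype.card_pos_iff.mp (by omega)
      have key : ∀ y ∈ idealOfVars Λ Q ^ Fintype.card κ, ∃ (σ : SymmetricPower B κ J.Cotangent)
          (b : ↥(J ^ Fintype.card κ)), canonJ J κ σ = Submodule.Quotient.mk b ∧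
          T y - Ideal.Quotient.mk (J ^ m) (b : B) ∈ K ^ (Fintype.card κ + 1) ∧
          R y - toPolyQ B Q κ Λ (symMap κ i σ) ∈ idealOfVars Λ Q ^ (Fintype.card κ + 1) := by
        intro y hy
        have hy' := pow_le_span_prod (idealOfVars Λ Q) _ hy
        induction hy' using Submodule.span_induction with
        | mem y hy' =>
          obtain ⟨w, rfl⟩ := hy'
          choose z hz using fun l => exists_linForm_sub_mem (w l : MvPolynomial Λ Q) (w l).2
          choose yl hyl using fun l => J.toCotangent_surjective (r (z l))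
          let e := Fintype.equivFin κ
          refine ⟨SymmetricPower.tprod B fun l => J.toCotangent (yl (e l)),
            ⟨∏ l, (yl (e l) : B), by simpa using prod_mem_pow' J Finset.univ (fun l => (yl (e l) : B)) fun l _ => (yl (e l)).2⟩,
            canonJ_tprod J κ _, ?_, ?_⟩
          · rw [map_prod T, map_prod (Ideal.Quotient.mk (J ^ m)), ← Equiv.prod_comp e fun l => T (w l : MvPolynomial Λ Q)]
            refine prod_sub_prod_mem K Finset.univ _ _ (fun l _ => ?_) (fun l _ => Ideal.mem_map_of_mem _ (yl (e l)).2)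
              fun l _ => hTw _ (w (e l)).2 _ (hz (e l)) _ (hyl (e l))
            simpa using hTmem 1 _ (by simpa using (w (e l)).2)
          · rw [symMap_tprod, toPolyQ_tprod, map_prod R, ← Equiv.prod_comp e fun l => R (w l : MvPolynomial Λ Q)]
            refine prod_sub_prod_mem _ Finset.univ _ _ (fun l _ => ?_) (fun l _ => linForm_mem _) fun l _ => ?_
            · simpa using hRmem 1 _ (by simpa using (w (e l)).2)
            · have h4 := hRmem 2 _ (hz (e l))
              rwa [map_sub, hR (linForm Q Λ _), projPoly_linForm i r hsurj, ← hyl] at h4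
        | zero => exact ⟨0, 0, by simp, by simp, by simp⟩
        | add y y' hy1 hy2 iy iy' =>
          have hmem : ∀ v, v ∈ Submodule.span (MvPolynomial Λ Q)
              (Set.range fun w : Fin (Fintype.card κ) → idealOfVars Λ Q => ∏ l, (w l : MvPolynomial Λ Q)) →
              v ∈ idealOfVars Λ Q ^ Fintype.card κ := fun v hv => Submodule.span_le.mpr (by
            rintro _ ⟨w, rfl⟩
            simpa using prod_mem_pow' _ Finset.univ (fun l => (w l : MvPolynomial Λ Q)) fun l _ => (w l).2) hv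
          obtain ⟨σ, b, h1, h2, h3⟩ := iy (hmem _ hy1)
          obtain ⟨σ', b', h1', h2', h3'⟩ := iy' (hmem _ hy2)
          refine ⟨σ + σ', b + b', by rw [map_add, h1, h1']; rfl, ?_, ?_⟩
          · rw [Submodule.coe_add, map_add, map_add, add_sub_add_comm]; exact add_mem h2 h2'
          · rw [map_add, map_add, map_add, add_sub_add_comm]; exact add_mem h3 h3'
        | smul a y hy1 iy =>
          have hy0 : y ∈ idealOfVars Λ Q ^ Fintype.card κ := Submodule.span_le.mpr (by
            rintro _ ⟨w, rfl⟩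
            simpa using prod_mem_pow' _ Finset.univ (fun l => (w l : MvPolynomial Λ Q)) fun l _ => (w l).2) hy1
          obtain ⟨σ, b, h1, h2, h3⟩ := iy hy0
          obtain ⟨b0, hb0⟩ := hsurj (constantCoeff a)
          have ha : a - C (constantCoeff a) ∈ idealOfVars Λ Q ^ 1 := by
            rw [mem_pow_idealOfVars_iff']
            intro d hd
            rw [show d = 0 from (Finsupp.degree_eq_zero_iff d).mp (by omega)]
            simp [constantCoeff_eq]
          refine ⟨b0 • σ, b0 • b, by rw [map_smul, h1]; rfl, ?_, ?_⟩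
          · rw [Submodule.coe_smul, smul_eq_mul, smul_eq_mul, map_mul, map_mul,
              show T a * T y - Ideal.Quotient.mk (J ^ m) b0 * Ideal.Quotient.mk (J ^ m) (b : B) =
                (T a - Ideal.Quotient.mk (J ^ m) b0) * T y +
                  Ideal.Quotient.mk (J ^ m) b0 * (T y - Ideal.Quotient.mk (J ^ m) (b : B)) by ring]
            refine add_mem ?_ (Ideal.mul_mem_left _ _ h2)
            have h5 : T a - Ideal.Quotient.mk (J ^ m) b0 ∈ K := by
              have h6 := add_mem (hTmem 1 _ ha) (by rw [pow_one K]; exact hs' b0 :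
                s (algebraMap B Q b0) - Ideal.Quotient.mk (J ^ m) b0 ∈ K ^ 1)
              rwa [map_sub, hTC, hb0, sub_add_sub_cancel, pow_one K] at h6
            rw [pow_succ' K]
            exact Ideal.mul_mem_mul h5 (hTmem _ _ hy0)
          · rw [smul_eq_mul, map_mul, map_smul, map_smul, ← algebraMap_smul Q b0 (toPolyQ B Q κ Λ (symMap κ i σ)),
              hb0, smul_eq_C_mul,
              show R a * R y - C (constantCoeff a) * toPolyQ B Q κ Λ (symMap κ i σ) =
                (R a - C (constantCoeff a)) * R y +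
                  C (constantCoeff a) * (R y - toPolyQ B Q κ Λ (symMap κ i σ)) by ring]
            refine add_mem ?_ (Ideal.mul_mem_left _ _ h3)
            have h5 := hRmem 1 _ ha
            rw [map_sub, show R (C (constantCoeff a)) = C (constantCoeff a) from (projPoly i r).commutes _,
              pow_one] at h5
            rw [pow_succ' (idealOfVars Λ Q)]
            exact Ideal.mul_mem_mul h5 (hRmem _ _ hy0)
      obtain ⟨σ, b, h1, h2, h3⟩ := key (R p) (by rw [hκc]; exact ih (by omega))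
      rw [show T (R p) = T p by show Θ0 (R (R p)) = Θ0 (R p); rw [hRR], hp, zero_sub, neg_mem_iff] at h2
      have h4 : canonJ J κ σ = 0 := by
        rw [h1, Submodule.Quotient.mk_eq_zero]
        exact hKback (by omega) h2
      have h5 : σ = 0 := hinj κ (h4.trans (map_zero _).symm)
      rw [hRR, h5, map_zero, map_zero, sub_zero, hκc] at h3
      exact h3
  let ψb : B ⧸ J ^ m →ₐ[A] E ⧸ N := Ideal.Quotient.liftₐ (J ^ m) ψ fun y hy =>
    hψk y (Ideal.pow_le_pow_right (by omega) hy)
  let χ0 := Algebra.FormallySmooth.lift N ⟨2, hN⟩ (ψb.comp s)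
  have hχ0 : ∀ c, Ideal.Quotient.mk N (χ0 c) = ψb (s c) := Algebra.FormallySmooth.mk_lift N ⟨2, hN⟩ (ψb.comp s)
  choose e he using fun a => Ideal.Quotient.mk_surjective (ψb (Ideal.Quotient.mk (J ^ m) (x a : B)))
  let χ1 : MvPolynomial Λ Q →ₐ[A] E :=
    { eval₂Hom χ0.toRingHom e with
      commutes' := fun a => by
        show eval₂Hom χ0.toRingHom e (C (algebraMap A Q a)) = _
        rw [eval₂Hom_C]
        exact χ0.commutes a }
  have hχ1 : ∀ p, Ideal.Quotient.mk N (χ1 p) = ψb (Θ0 p) := fun p => by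
    refine RingHom.congr_fun (f := (Ideal.Quotient.mk N).comp χ1.toRingHom)
      (g := ψb.toRingHom.comp Θ0.toRingHom) (MvPolynomial.ringHom_ext (fun c => ?_) fun a => ?_) p
    · show Ideal.Quotient.mk N (eval₂Hom χ0.toRingHom e (C c)) = ψb (Θ0 (C c))
      rw [eval₂Hom_C, hΘC]
      exact hχ0 c
    · show Ideal.Quotient.mk N (eval₂Hom χ0.toRingHom e (X a)) = ψb (Θ0 (X a))
      rw [eval₂Hom_X', hΘX]
      exact he a
  have hχ1k : ∀ p ∈ idealOfVars Λ Q ^ m, χ1 p = 0 := fun p hp => by
    have h1 : (idealOfVars Λ Q ^ k).map χ1.toRingHom ≤ N := Ideal.map_le_iff_le_comap.mpr fun w hw => by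
      rw [Ideal.mem_comap, ← Ideal.Quotient.eq_zero_iff_mem]
      show Ideal.Quotient.mk N (χ1 w) = 0
      rw [hχ1]
      have h2 := hΘmem k w hw
      obtain ⟨b, hb⟩ := Ideal.Quotient.mk_surjective (Θ0 w)
      rw [← hb] at h2 ⊢
      exact hψk b (hKback (by omega) h2)
    have h2 := Ideal.mem_map_of_mem χ1.toRingHom hp
    rw [hm, pow_add, Ideal.map_mul] at h2
    have h3 := Ideal.mul_mono h1 h1 h2
    rw [← pow_two, hN] at h3
    exact h3
  let χ2 : MvPolynomial Λ Q →ₐ[A] E := χ1.comp R
  have hχ2 : RingHom.ker T ≤ RingHom.ker χ2 := fun p hp => hχ1k _ (hkerT p hp)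
  refine ⟨((Ideal.Quotient.liftₐ (RingHom.ker T) χ2 hχ2).comp
    (Ideal.quotientKerAlgEquivOfSurjective hT).symm.toAlgHom).comp (Ideal.Quotient.mkₐ A (J ^ m)),
    AlgHom.ext fun b => ?_⟩
  obtain ⟨p, hp⟩ := hT (Ideal.Quotient.mk (J ^ m) b)
  have h1 : (Ideal.quotientKerAlgEquivOfSurjective hT).symm (Ideal.Quotient.mk (J ^ m) b) =
      Ideal.Quotient.mk (RingHom.ker T) p :=
    (Ideal.quotientKerAlgEquivOfSurjective hT).injective (by
      rw [AlgEquiv.apply_symm_apply]
      exact hp.symm)
  show Ideal.Quotient.mk N ((Ideal.Quotient.liftₐ (RingHom.ker T) χ2 hχ2)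
    ((Ideal.quotientKerAlgEquivOfSurjective hT).symm (Ideal.Quotient.mk (J ^ m) b))) = ψ b
  rw [h1]
  show Ideal.Quotient.mk N (χ1 (R p)) = ψ b
  rw [hχ1, show Θ0 (R p) = T p from rfl, hp]
  rfl

theorem adicSmooth_of_symGrBijective {J : Ideal B} [Algebra.FormallySmooth A (B ⧸ J)]
    (hP : Module.Projective (B ⧸ J) J.Cotangent) (hG : PP16.SymGrBijective B J) :
    CAlgX.IsAdicFormallySmooth A B J := by
  obtain ⟨Λ, i, r, hr⟩ := exists_split (B ⧸ J) J.Cotangent
  exact adicSmooth_aux (Q := B ⧸ J) (i.restrictScalars B) (r.restrictScalars B) Ideal.Quotient.mk_surjective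
    (fun _ => Ideal.Quotient.eq_zero_iff_mem) (LinearMap.ext fun y => LinearMap.congr_fun hr y)
    ((symGrBijective_iff J).mp hG)

end Groth.Agent.PP16Lib

end
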