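import Groth.Prelude.Def_PP16
import Mathlib.LinearAlgebra.TensorProduct.RightExactness
import Mathlib.RingTheory.Nilpotent.Lemmas

/-!
Universal property and functoriality lemmas for rings of principal parts.
-/

set_option autoImplicit false
set_option linter.unusedSectionVars false

universe u v

open scoped TensorProduct

noncomputable section

namespace Groth.Agent.PP16Lib

theorem map_pow_eq_bot {R S F : Type*} [CommRing R] [CommRing S] [FunLike F R S] [RingHomClass F R S]
    (f : F) {I : Ideal R} {m : ℕ} (h : I ^ m = ⊥) : I.map f ^ m = ⊥ := by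
  rw [← Ideal.map_pow, h, Ideal.map_bot]

theorem map_mk_pow_eq_bot {R : Type*} [CommRing R] (I : Ideal R) (m : ℕ) :
    I.map (Ideal.Quotient.mk (I ^ m)) ^ m = ⊥ :=
  (Ideal.map_pow _ _ _).symm.trans (Ideal.map_quotient_self _)

theorem sup_pow_le {R : Type*} [CommRing R] {I J : Ideal R} {m : ℕ} (h : I ^ m = ⊥) :
    (I ⊔ J) ^ m ≤ J := by
  refine ((Ideal.map_eq_bot_iff_le_ker (Ideal.Quotient.mk J)).mp ?_).trans_eq Ideal.mk_ker
  rw [Ideal.map_pow, Ideal.map_sup, Ideal.map_quotient_self, sup_bot_eq, ← Ideal.map_pow, h,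
    Ideal.map_bot]

variable (n : ℕ) (A B : Type u) [CommRing A] [CommRing B] [Algebra A B]

/-- The element `1 ⊗ b - b ⊗ 1`. -/
def dlt (b : B) : B ⊗[A] B := (1 : B) ⊗ₜ[A] b - b ⊗ₜ[A] (1 : B)

/-- The quotient map to principal parts. -/
abbrev mkP : B ⊗[A] B →+* PP16.P n A B :=
  Ideal.Quotient.mk (KaehlerDifferential.ideal A B ^ (n + 1))

variable {n A B}

theorem dn_apply (b : B) : PP16.dn n A B b = mkP n A B (1 ⊗ₜ[A] b) := rfl

theorem algebraMap_apply (b : B) :
    algebraMap B (PP16.P n A B) b = mkP n A B (b ⊗ₜ[A] 1) := rfl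

theorem mkP_dlt (b : B) :
    mkP n A B (dlt A B b) = PP16.dn n A B b - algebraMap B (PP16.P n A B) b := map_sub _ _ _

theorem dlt_mem (b : B) : dlt A B b ∈ KaehlerDifferential.ideal A B :=
  KaehlerDifferential.one_smul_sub_smul_one_mem_ideal A b

theorem ideal_eq_span :
    KaehlerDifferential.ideal A B = Ideal.span (Set.range (dlt A B)) :=
  (KaehlerDifferential.span_range_eq_ideal A B).symm

theorem ideal_le_iff {J : Ideal (B ⊗[A] B)} :
    KaehlerDifferential.ideal A B ≤ J ↔ ∀ b, dlt A B b ∈ J := by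
  rw [ideal_eq_span, Ideal.span_le, Set.range_subset_iff]
  rfl

theorem augIdeal_eq_span :
    PP16.augIdeal n A B =
      Ideal.span (Set.range fun b => PP16.dn n A B b - algebraMap B (PP16.P n A B) b) := by
  refine (congrArg (Ideal.map (mkP n A B)) ideal_eq_span).trans ?_
  rw [Ideal.map_span, ← Set.range_comp]
  congr 1

theorem dn_sub_mem_augIdeal (b : B) :
    PP16.dn n A B b - algebraMap B (PP16.P n A B) b ∈ PP16.augIdeal n A B := by
  rw [augIdeal_eq_span]
  exact Ideal.subset_span ⟨b, rfl⟩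

theorem augIdeal_pow : PP16.augIdeal n A B ^ (n + 1) = ⊥ := by
  rw [PP16.augIdeal, ← Ideal.map_pow, Ideal.map_quotient_self]

theorem isNilpotent_of_mem_augIdeal {x : PP16.P n A B} (hx : x ∈ PP16.augIdeal n A B) :
    IsNilpotent x :=
  ⟨n + 1, by simpa [augIdeal_pow] using Ideal.pow_mem_pow hx (n + 1)⟩

theorem isUnit_dn {b : B} (hb : IsUnit (algebraMap B (PP16.P n A B) b)) :
    IsUnit (PP16.dn n A B b) := by
  have h := (isNilpotent_of_mem_augIdeal (dn_sub_mem_augIdeal (n := n) (A := A) b)).isUnit_add_left_of_commute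
    hb (Commute.all _ _)
  rwa [add_sub_cancel] at h

theorem mkP_tmul (b c : B) :
    mkP n A B (b ⊗ₜ[A] c) = algebraMap B (PP16.P n A B) b * PP16.dn n A B c := by
  rw [algebraMap_apply, dn_apply, ← map_mul, Algebra.TensorProduct.tmul_mul_tmul, mul_one, one_mul]

theorem ringHom_ext {R : Type v} [Semiring R] {φ ψ : PP16.P n A B →+* R}
    (h1 : ∀ b, φ (algebraMap B _ b) = ψ (algebraMap B _ b))
    (h2 : ∀ b, φ (PP16.dn n A B b) = ψ (PP16.dn n A B b)) : φ = ψ := by
  refine Ideal.Quotient.ringHom_ext (RingHom.ext fun x => ?_)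
  show φ (mkP n A B x) = ψ (mkP n A B x)
  induction x using TensorProduct.induction_on with
  | zero => simp
  | tmul b c => rw [mkP_tmul, map_mul, map_mul, h1, h2]
  | add x y hx hy => simp only [map_add, hx, hy]

theorem algHom_ext {R : Type v} [Semiring R] [Algebra B R] {φ ψ : PP16.P n A B →ₐ[B] R}
    (h : ∀ b, φ (PP16.dn n A B b) = ψ (PP16.dn n A B b)) : φ = ψ :=
  AlgHom.coe_ringHom_injective (ringHom_ext (fun b => by simp) h)

theorem span_range_dn : Submodule.span B (Set.range (PP16.dn n A B)) = ⊤ := by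
  refine eq_top_iff.mpr ?_
  rintro x -
  obtain ⟨x, rfl⟩ := Ideal.Quotient.mk_surjective x
  induction x using TensorProduct.induction_on with
  | zero => simp
  | tmul b c =>
    rw [show (Ideal.Quotient.mk _ (b ⊗ₜ[A] c) : PP16.P n A B) = _ from mkP_tmul b c, ← Algebra.smul_def]
    exact Submodule.smul_mem _ _ (Submodule.subset_span ⟨c, rfl⟩)
  | add x y hx hy => rw [map_add]; exact add_mem hx hy

section lift

variable {Q : Type v} [CommRing Q] [Algebra B Q] [Algebra A Q] [IsScalarTower A B Q]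

/-- The map `b ⊗ c ↦ b • f c`. -/
def liftT (f : B →ₐ[A] Q) : B ⊗[A] B →ₐ[B] Q :=
  Algebra.TensorProduct.lift (Algebra.ofId B Q) f fun _ _ => Commute.all _ _

theorem liftT_tmul (f : B →ₐ[A] Q) (b c : B) : liftT f (b ⊗ₜ[A] c) = algebraMap B Q b * f c :=
  Algebra.TensorProduct.lift_tmul _ _ _ _ _

theorem ideal_pow_le_ker (f : B →ₐ[A] Q) (K : Ideal Q) (hK : K ^ (n + 1) = ⊥)
    (hf : ∀ b, f b - algebraMap B Q b ∈ K) :
    KaehlerDifferential.ideal A B ^ (n + 1) ≤ RingHom.ker (liftT f) := by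
  have h : KaehlerDifferential.ideal A B ≤ K.comap (liftT f) := ideal_le_iff.mpr fun b => by
    show liftT f (dlt A B b) ∈ K
    simp only [dlt, map_sub, liftT_tmul, map_one, one_mul, mul_one]
    exact hf b
  refine (Ideal.pow_right_mono h _).trans ((Ideal.le_comap_pow (liftT f) (n + 1)).trans ?_)
  rw [hK]
  exact le_rfl

/-- The universal property of principal parts. -/
def lift (f : B →ₐ[A] Q) (K : Ideal Q) (hK : K ^ (n + 1) = ⊥)
    (hf : ∀ b, f b - algebraMap B Q b ∈ K) : PP16.P n A B →ₐ[B] Q :=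
  Ideal.Quotient.liftₐ _ (liftT f) (ideal_pow_le_ker f K hK hf)

theorem lift_mk (f : B →ₐ[A] Q) (K : Ideal Q) (hK : K ^ (n + 1) = ⊥)
    (hf : ∀ b, f b - algebraMap B Q b ∈ K) (x : B ⊗[A] B) :
    lift f K hK hf (mkP n A B x) = liftT f x := rfl

theorem lift_dn (f : B →ₐ[A] Q) (K : Ideal Q) (hK : K ^ (n + 1) = ⊥)
    (hf : ∀ b, f b - algebraMap B Q b ∈ K) (b : B) :
    lift f K hK hf (PP16.dn n A B b) = f b := by
  rw [dn_apply, lift_mk, liftT_tmul, map_one, one_mul]

theorem exists_algEquiv (f : B →ₐ[A] Q) (K : Ideal Q) (hK : K ^ (n + 1) = ⊥)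
    (hf : ∀ b, f b - algebraMap B Q b ∈ K) (G : Q →ₐ[B] PP16.P n A B)
    (hG : ∀ b, G (f b) = PP16.dn n A B b) (hid : (lift f K hK hf).comp G = AlgHom.id B Q) :
    ∃ e : PP16.P n A B ≃ₐ[B] Q, ∀ b, e (PP16.dn n A B b) = f b :=
  ⟨AlgEquiv.ofAlgHom (lift f K hK hf) G hid (algHom_ext fun b => by
    rw [AlgHom.comp_apply, lift_dn, hG, AlgHom.id_apply]), fun b => lift_dn f K hK hf b⟩

theorem algHom_congr_mod {B' : Type v} [CommRing B'] [Algebra A B'] (f g : B' →ₐ[A] Q) (K : Ideal Q)
    (h : (Ideal.Quotient.mkₐ A K).comp f = (Ideal.Quotient.mkₐ A K).comp g) (b : B') :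
    f b - g b ∈ K :=
  Ideal.Quotient.eq.mp (DFunLike.congr_fun h b)

end lift

section functoriality

variable (n : ℕ) (A B A' B' : Type u) [CommRing A] [CommRing B] [Algebra A B]
  [CommRing A'] [CommRing B'] [Algebra A' B'] [Algebra A A'] [Algebra B B'] [Algebra A B']
  [IsScalarTower A A' B'] [IsScalarTower A B B']

theorem tensorMap_dlt (b : B) :
    PP16.tensorMap A B A' B' (dlt A B b) = dlt A' B' (algebraMap B B' b) := by
  simp [dlt, PP16.tensorMap_tmul]

theorem tensorMap_surjective (hB : Function.Surjective (algebraMap B B')) :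
    Function.Surjective (PP16.tensorMap A B A' B') := by
  intro y
  induction y using TensorProduct.induction_on with
  | zero => exact ⟨0, map_zero _⟩
  | tmul b c =>
    obtain ⟨b, rfl⟩ := hB b
    obtain ⟨c, rfl⟩ := hB c
    exact ⟨b ⊗ₜ c, PP16.tensorMap_tmul A B A' B' b c⟩
  | add x y hx hy =>
    obtain ⟨x, rfl⟩ := hx
    obtain ⟨y, rfl⟩ := hy
    exact ⟨x + y, map_add _ _ _⟩

theorem ideal_map_tensorMap (hB : Function.Surjective (algebraMap B B')) :
    (KaehlerDifferential.ideal A B).map (PP16.tensorMap A B A' B') = KaehlerDifferential.ideal A' B' := by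
  refine le_antisymm (PP16.ideal_map_tensorMap_le A B A' B') (ideal_le_iff.mpr fun b' => ?_)
  obtain ⟨b, rfl⟩ := hB b'
  rw [← tensorMap_dlt A B A' B']
  exact Ideal.mem_map_of_mem _ (dlt_mem b)

theorem map_surjective_and_ker (hB : Function.Surjective (algebraMap B B')) :
    Function.Surjective (PP16.map n A B A' B') ∧
      RingHom.ker (PP16.map n A B A' B') =
        (RingHom.ker (PP16.tensorMap A B A' B')).map (mkP n A B) := by
  have hs := tensorMap_surjective A B A' B' hB
  have hmap : (KaehlerDifferential.ideal A B ^ (n + 1)).map (PP16.tensorMap A B A' B') =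
      KaehlerDifferential.ideal A' B' ^ (n + 1) := by
    rw [Ideal.map_pow, ideal_map_tensorMap A B A' B' hB]
  refine ⟨fun y => ?_, le_antisymm (fun y hy => ?_) ?_⟩
  · obtain ⟨y, rfl⟩ := Ideal.Quotient.mk_surjective y
    obtain ⟨x, rfl⟩ := hs y
    exact ⟨mkP n A B x, rfl⟩
  · obtain ⟨x, rfl⟩ := Ideal.Quotient.mk_surjective y
    have h : PP16.tensorMap A B A' B' x ∈ KaehlerDifferential.ideal A' B' ^ (n + 1) :=
      Ideal.Quotient.eq_zero_iff_mem.mp hy
    rw [← hmap, Ideal.mem_map_iff_of_surjective _ hs] at h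
    obtain ⟨z, hz, hzx⟩ := h
    have hmem : x - z ∈ RingHom.ker (PP16.tensorMap A B A' B') := by
      rw [RingHom.mem_ker, map_sub, hzx, sub_self]
    have := Ideal.mem_map_of_mem (mkP n A B) hmem
    rwa [map_sub, show mkP n A B z = 0 from Ideal.Quotient.eq_zero_iff_mem.mpr hz, sub_zero] at this
  · rw [Ideal.map_le_iff_le_comap]
    intro x hx
    show PP16.map n A B A' B' (mkP n A B x) = 0
    rw [PP16.map_mk, RingHom.mem_ker.mp hx, map_zero]

end functoriality

/-- The kernel of `C ⊗_A C → C ⊗_B C`. -/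
theorem ker_tensorMap_tower (A B C : Type u) [CommRing A] [CommRing B] [CommRing C]
    [Algebra A B] [Algebra B C] [Algebra A C] [IsScalarTower A B C] :
    RingHom.ker (PP16.tensorMap A C B C) =
      (KaehlerDifferential.ideal A B).map (PP16.tensorMap A B A C) := by
  refine le_antisymm (fun x hx => ?_) ?_
  · let J := (KaehlerDifferential.ideal A B).map (PP16.tensorMap A B A C)
    have key : ∀ b : B, Ideal.Quotient.mk J (1 ⊗ₜ[A] algebraMap B C b) =
        Ideal.Quotient.mk J (algebraMap B C b ⊗ₜ[A] 1) := fun b => by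
      rw [Ideal.Quotient.eq]
      have := Ideal.mem_map_of_mem (PP16.tensorMap A B A C) (dlt_mem (A := A) b)
      rwa [tensorMap_dlt, dlt] at this
    let l : C →ₐ[B] (C ⊗[A] C) ⧸ J :=
      { (Ideal.Quotient.mk J).comp Algebra.TensorProduct.includeLeftRingHom with
        commutes' := fun b => rfl }
    let r : C →ₐ[B] (C ⊗[A] C) ⧸ J :=
      { (Ideal.Quotient.mk J).comp (Algebra.TensorProduct.includeRight (R := A) (A := C) (B := C)).toRingHom with
        commutes' := fun b => key b }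
    let θ : C ⊗[B] C →ₐ[B] (C ⊗[A] C) ⧸ J := Algebra.TensorProduct.lift l r fun _ _ => Commute.all _ _
    have hθ : θ.toRingHom.comp (PP16.tensorMap A C B C).toRingHom = Ideal.Quotient.mk J := by
      refine RingHom.ext fun z => ?_
      induction z using TensorProduct.induction_on with
      | zero => simp
      | tmul c d =>
        show θ (PP16.tensorMap A C B C (c ⊗ₜ d)) = _
        rw [PP16.tensorMap_tmul, Algebra.algebraMap_self_apply, Algebra.algebraMap_self_apply,
          Algebra.TensorProduct.lift_tmul]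
        show Ideal.Quotient.mk J (c ⊗ₜ 1) * Ideal.Quotient.mk J (1 ⊗ₜ d) = _
        rw [← map_mul, Algebra.TensorProduct.tmul_mul_tmul, mul_one, one_mul]
      | add z w hz hw => rw [map_add, hz, hw, map_add]
    exact Ideal.Quotient.eq_zero_iff_mem.mp (by
      rw [← hθ, RingHom.comp_apply]
      show θ (PP16.tensorMap A C B C x) = 0
      rw [RingHom.mem_ker.mp hx, map_zero])
  · rw [Ideal.map_le_iff_le_comap, ideal_le_iff]
    intro b
    show PP16.tensorMap A C B C (PP16.tensorMap A B A C (dlt A B b)) = 0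
    rw [tensorMap_dlt, tensorMap_dlt, Algebra.algebraMap_self_apply, dlt, sub_eq_zero,
      Algebra.algebraMap_eq_smul_one, TensorProduct.tmul_smul, TensorProduct.smul_tmul']

end Groth.Agent.PP16Lib

end
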