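import Mathlib.RingTheory.Kaehler.Basic
import Mathlib.LinearAlgebra.TensorProduct.Quotient
import Mathlib.Tactic.LinearCombination

/-!
Elements killed by the conormal map, tested with a pair of lifts into a square-zero thickening.
-/

set_option autoImplicit false

universe u

open scoped TensorProduct

noncomputable section

namespace Groth.Agent.PP16Lib

theorem mem_smul_of_one_tmul_eq_zero {P C : Type u} [CommRing P] [CommRing C] [Algebra P C]
    (hsurj : Function.Surjective (algebraMap P C)) {M : Type u} [AddCommGroup M] [Module P M] {w : M}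
    (h : (1 : C) ⊗ₜ[P] w = 0) : w ∈ RingHom.ker (algebraMap P C) • (⊤ : Submodule P M) := by
  let e := (Ideal.quotientKerAlgEquivOfSurjective (f := Algebra.ofId P C) hsurj).symm.toLinearMap
  have h1 := congrArg (TensorProduct.quotTensorEquivQuotSMul M (RingHom.ker (Algebra.ofId P C)))
    (congrArg (e.rTensor M) h)
  rw [map_zero, map_zero, LinearMap.rTensor_tmul,
    show e 1 = Ideal.Quotient.mk (RingHom.ker (Algebra.ofId P C)) 1 from map_one
      (Ideal.quotientKerAlgEquivOfSurjective (f := Algebra.ofId P C) hsurj).symm,
    TensorProduct.quotTensorEquivQuotSMul_mk_tmul, one_smul, Submodule.Quotient.mk_eq_zero] at h1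
  exact h1

variable {Λ P C E : Type u} [CommRing Λ] [CommRing P] [CommRing C] [CommRing E] [Algebra Λ P] [Algebra P C]
  [Algebra Λ E]

/-- If `π` and `τ` agree modulo a square-zero ideal `N` killed by the kernel `J` of `P → C`, then an element
of `J` with zero differential over `C` has the same image under both. -/
theorem eq_of_conormal_eq_zero (hsurj : Function.Surjective (algebraMap P C)) (π τ : P →ₐ[Λ] E) (N : Ideal E)
    (hN : ∀ a ∈ N, ∀ b ∈ N, a * b = 0) (hD : ∀ x, π x - τ x ∈ N)
    (hJ : ∀ j ∈ RingHom.ker (algebraMap P C), ∀ n ∈ N, π j * n = 0) (f : P)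
    (hf : (1 : C) ⊗ₜ[P] KaehlerDifferential.D Λ P f = 0) : π f = τ f := by
  letI : Algebra P E := π.toRingHom.toAlgebra
  haveI : IsScalarTower Λ P E := IsScalarTower.of_algebraMap_eq fun l => (π.commutes l).symm
  have hsmul : ∀ (a : P) (z : E), a • z = π a * z := fun _ _ => rfl
  let d : Derivation Λ P E := Derivation.mk' (π.toLinearMap - τ.toLinearMap) fun a b => by
    show π (a * b) - τ (a * b) = a • (π b - τ b) + b • (π a - τ a)
    rw [map_mul, map_mul, hsmul, hsmul]
    linear_combination (-1 : E) * hN _ (hD a) _ (hD b)
  let F := d.liftKaehlerDifferential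
  have hF : ∀ w, F w ∈ N := fun w => by
    induction (KaehlerDifferential.span_range_derivation Λ P).ge (Submodule.mem_top (x := w)) using
      Submodule.span_induction with
    | mem w hw =>
      obtain ⟨a, rfl⟩ := hw
      rw [Derivation.liftKaehlerDifferential_comp_D]
      exact hD a
    | zero => rw [map_zero]; exact zero_mem _
    | add x y _ _ hx hy => rw [map_add]; exact add_mem hx hy
    | smul a x _ hx => rw [map_smul, hsmul]; exact N.mul_mem_left _ hx
  rw [← sub_eq_zero]
  show d f = 0
  rw [← d.liftKaehlerDifferential_comp_D f]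
  refine Submodule.smul_induction_on (p := fun w => F w = 0) (mem_smul_of_one_tmul_eq_zero hsurj hf)
    (fun j hj w _ => ?_) fun a b ha hb => by rw [map_add, ha, hb, add_zero]
  rw [map_smul, hsmul]
  exact hJ j hj _ (hF w)

end Groth.Agent.PP16Lib

end
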