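import Groth.Agent.PP16Lib.FreeSym

/-!
A criterion for the injectivity of `Sym^n(Ω) → I^n/I^(n+1)` by comparison with polynomials.
-/

set_option autoImplicit false
set_option linter.unusedSectionVars false

universe u v

open scoped TensorProduct

noncomputable section

namespace Groth.Agent.PP16Lib

variable {A B : Type u} [CommRing A] [CommRing B] [Algebra A B] (κ : Type u) [Fintype κ]

local notation "I" => KaehlerDifferential.ideal A B

theorem injective_canon_of_values {Λ : Type u} (i : KaehlerDifferential A B →ₗ[B] Λ →₀ B)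
    (r : (Λ →₀ B) →ₗ[B] KaehlerDifferential A B) (hr : r.comp i = LinearMap.id)
    (Γ : PP16.grI A B (Fintype.card κ) →ₗ[B]
      MvPolynomial Λ B ⧸ MvPolynomial.idealOfVars Λ B ^ (Fintype.card κ + 1))
    (hΓ : ∀ b : κ → B, Γ (PP16.zetaProd A B b) =
      Ideal.Quotient.mk _ (∏ j, linForm B Λ (i (KaehlerDifferential.D A B (b j))))) :
    Function.Injective (canon A B κ) := by
  rw [← LinearMap.ker_eq_bot, LinearMap.ker_eq_bot']
  intro s hs
  have h : Γ.comp (canon A B κ) =
      (Ideal.Quotient.mkₐ B (MvPolynomial.idealOfVars Λ B ^ (Fintype.card κ + 1))).toLinearMap.comp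
        ((toPoly B κ Λ).comp (symMap κ i)) := by
    refine LinearMap.ext_on (span_tprod_of_span (KaehlerDifferential.span_range_derivation A B)) ?_
    rintro _ ⟨v, hv, rfl⟩
    choose b hb using hv
    rw [← funext hb]
    simp only [LinearMap.comp_apply, canon_tprod_D, hΓ, symMap_tprod, toPoly_tprod]
    rfl
  have h' := LinearMap.congr_fun h s
  simp only [LinearMap.comp_apply, hs, map_zero] at h'
  have := toPoly_eq_zero_of_mem B κ Λ (Ideal.Quotient.eq_zero_iff_mem.mp h'.symm)
  rw [← symMap_symMap κ r i hr s, this, map_zero]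

/-- A ring map `B → B[X]/(X)^(n+1)` with linear part `i ∘ d` gives the values. -/
theorem injective_canon_of_taylor {Λ : Type u} (i : KaehlerDifferential A B →ₗ[B] Λ →₀ B)
    (r : (Λ →₀ B) →ₗ[B] KaehlerDifferential A B) (hr : r.comp i = LinearMap.id)
    (f : B →ₐ[A] MvPolynomial Λ B ⧸ MvPolynomial.idealOfVars Λ B ^ (Fintype.card κ + 1))
    (hf : ∀ b, f b - algebraMap B _ b - Ideal.Quotient.mk _ (linForm B Λ (i (KaehlerDifferential.D A B b))) ∈
      ((MvPolynomial.idealOfVars Λ B).map
        (Ideal.Quotient.mk (MvPolynomial.idealOfVars Λ B ^ (Fintype.card κ + 1)))) ^ 2) :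
    Function.Injective (canon A B κ) := by
  set K := (MvPolynomial.idealOfVars Λ B).map (Ideal.Quotient.mk ((MvPolynomial.idealOfVars Λ B) ^ ((Fintype.card κ) + 1))) with hK
  have hKpow : K ^ ((Fintype.card κ) + 1) = ⊥ := map_mk_pow_eq_bot (MvPolynomial.idealOfVars Λ B) ((Fintype.card κ) + 1)
  have hlin : ∀ x, Ideal.Quotient.mk ((MvPolynomial.idealOfVars Λ B) ^ ((Fintype.card κ) + 1)) (linForm B Λ x) ∈ K := fun x => by
    refine Ideal.mem_map_of_mem _ ?_
    induction x using Finsupp.induction_linear with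
    | zero => simp
    | add x y hx hy => rw [map_add]; exact add_mem hx hy
    | single a c =>
      rw [linForm, Finsupp.linearCombination_single, Algebra.smul_def]
      exact Ideal.mul_mem_left _ _ (Ideal.subset_span ⟨a, rfl⟩)
  have hfK : ∀ b, f b - algebraMap B _ b ∈ K := fun b => by
    have := add_mem (Ideal.pow_le_self two_ne_zero (hf b)) (hlin (i (KaehlerDifferential.D A B b)))
    rwa [sub_add_cancel] at this
  let h : B ⊗[A] B →ₐ[B] MvPolynomial Λ B ⧸ (MvPolynomial.idealOfVars Λ B) ^ ((Fintype.card κ) + 1) := liftT f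
  have hker : (I ^ ((Fintype.card κ) + 1)).restrictScalars B ≤ LinearMap.ker h.toLinearMap := fun x hx =>
    ideal_pow_le_ker f K hKpow hfK hx
  let Γ : PP16.grI A B (Fintype.card κ) →ₗ[B] MvPolynomial Λ B ⧸ (MvPolynomial.idealOfVars Λ B) ^ ((Fintype.card κ) + 1) :=
    Submodule.liftQ _ (h.toLinearMap.comp ((I ^ (Fintype.card κ)).restrictScalars B).subtype) fun x hx => hker hx
  refine injective_canon_of_values κ i r hr Γ fun b => ?_
  show h (∏ j, ((1 : B) ⊗ₜ[A] b j - b j ⊗ₜ[A] (1 : B))) = _
  rw [map_prod, map_prod, ← sub_eq_zero, ← Ideal.mem_bot, ← hKpow]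
  have hd : ∀ c, h ((1 : B) ⊗ₜ[A] c - c ⊗ₜ[A] (1 : B)) = f c - algebraMap B _ c := fun c => by
    show liftT f _ = _
    simp only [map_sub, liftT_tmul, map_one, one_mul, mul_one]
  exact prod_sub_prod_mem K Finset.univ _ _ (fun j _ => by rw [hd]; exact hfK _) (fun j _ => hlin _)
    (fun j _ => by rw [hd]; exact hf _)

end Groth.Agent.PP16Lib

end
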