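import Groth.Agent.PP16Lib.Sym
import Mathlib.LinearAlgebra.Basis.Basic

/-!
For a family whose differentials form a basis: differential smoothness ⇔ the monomials are
independent in each degree.
-/

set_option autoImplicit false
set_option linter.unusedSectionVars false

universe u v

open scoped TensorProduct

noncomputable section

namespace Groth.Agent.PP16Lib

section count

variable {ι : Type v} {κ : Type u} [DecidableEq ι] [Fintype κ]

/-- The multiplicities of the values of a function. -/
def cnt (f : κ → ι) (i : ι) : ℕ := (Finset.univ.filter fun j => f j = i).card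

theorem sum_cnt [Fintype ι] (f : κ → ι) : ∑ i, cnt f i = Fintype.card κ :=
  (Finset.card_eq_sum_card_fiberwise fun _ _ => Finset.mem_univ _).symm

theorem prod_comp_eq [Fintype ι] {S : Type*} [CommMonoid S] (f : κ → ι) (h : ι → S) :
    ∏ j, h (f j) = ∏ i, h i ^ cnt f i := by
  rw [← Finset.prod_fiberwise_of_maps_to (t := Finset.univ) (g := f) (fun j _ => Finset.mem_univ _)]
  refine Finset.prod_congr rfl fun i _ => ?_
  rw [cnt, ← Finset.prod_const]
  exact Finset.prod_congr rfl fun j hj => by rw [(Finset.mem_filter.mp hj).2]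

theorem exists_perm {f g : κ → ι} (h : cnt f = cnt g) :
    ∃ e : Equiv.Perm κ, ∀ j, g (e j) = f j := by
  have hc : ∀ i, Fintype.card {j // f j = i} = Fintype.card {j // g j = i} := fun i => by
    rw [Fintype.card_subtype, Fintype.card_subtype]
    exact congrFun h i
  exact ⟨Equiv.ofFiberEquiv fun i => Fintype.equivOfCardEq (hc i), fun j => Equiv.ofFiberEquiv_map _ j⟩

theorem exists_cnt_eq [Fintype ι] (p : ι → ℕ) (hp : ∑ i, p i = Fintype.card κ) :
    ∃ f : κ → ι, cnt f = p := by
  obtain ⟨e⟩ : Nonempty (κ ≃ Σ i, Fin (p i)) :=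
    ⟨Fintype.equivOfCardEq (by rw [Fintype.card_sigma]; simp [hp])⟩
  refine ⟨fun j => (e j).1, funext fun i => ?_⟩
  rw [cnt, ← Fintype.card_subtype,
    Fintype.card_congr (e.subtypeEquiv (p := fun j => (e j).1 = i) (q := fun x => x.1 = i) fun _ => Iff.rfl),
    Fintype.card_congr (Equiv.sigmaSubtype (β := fun i => Fin (p i)) i), Fintype.card_fin]

end count

variable {A B : Type u} [CommRing A] [CommRing B] [Algebra A B] {ι : Type v} [Fintype ι]
  (z : ι → B)

local notation "I" => KaehlerDifferential.ideal A B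

variable [DecidableEq ι] (κ : Type u) [Fintype κ]

/-- A chosen symmetric product of the `dz` with the given multiplicities. -/
def symMon (p : {p : ι → ℕ // ∑ i, p i = Fintype.card κ}) : SymmetricPower B κ (KaehlerDifferential A B) :=
  SymmetricPower.tprod B fun j => KaehlerDifferential.D A B (z ((exists_cnt_eq (κ := κ) p.1 p.2).choose j))

theorem mon_mem_card (p : {p : ι → ℕ // ∑ i, p i = Fintype.card κ}) :
    mon (A := A) z p.1 ∈ (I ^ Fintype.card κ).restrictScalars B :=
  Eq.subst (motive := fun m => mon z p.1 ∈ (I ^ m).restrictScalars B) p.2 (mon_mem z p.1)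

theorem canon_symMon (p : {p : ι → ℕ // ∑ i, p i = Fintype.card κ}) :
    canon A B κ (symMon z κ p) = Submodule.Quotient.mk ⟨mon z p.1, mon_mem_card z κ p⟩ := by
  rw [symMon, canon_tprod_D]
  show Submodule.Quotient.mk _ = Submodule.Quotient.mk _
  congr 1
  ext1
  show ∏ j, dlt A B (z _) = mon z p.1
  rw [prod_comp_eq _ fun i => dlt A B (z i), (exists_cnt_eq (κ := κ) p.1 p.2).choose_spec]
  rfl

theorem canon_sum_eq_zero_iff (a : {p : ι → ℕ // ∑ i, p i = Fintype.card κ} →₀ B) :
    canon A B κ (a.sum fun p c => c • symMon z κ p) = 0 ↔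
      a.sum (fun p c => c • mon (A := A) z p.1) ∈ I ^ (Fintype.card κ + 1) := by
  rw [map_finsuppSum]
  simp only [map_smul, canon_symMon, ← Submodule.Quotient.mk_smul]
  simp only [← Submodule.mkQ_apply]
  rw [Finsupp.sum, ← map_sum, Submodule.mkQ_apply, Submodule.Quotient.mk_eq_zero,
    Submodule.mem_comap, Submodule.subtype_apply, Submodule.coe_sum]
  rfl

theorem injective_canon (hz : Submodule.span B (Set.range fun i => KaehlerDifferential.D A B (z i)) = ⊤)
    (h : GrInd A z) : Function.Injective (canon A B κ) := by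
  rw [← LinearMap.ker_eq_bot, LinearMap.ker_eq_bot']
  intro s hs
  have hmem : s ∈ LinearMap.range (Finsupp.linearCombination B (symMon (A := A) z κ)) := by
    rw [Finsupp.range_linearCombination]
    refine Submodule.span_le.mpr ?_ ((span_tprod_of_span (R := B) (κ := κ) hz) ▸ Submodule.mem_top)
    rintro _ ⟨v, hv, rfl⟩
    choose f hf using hv
    have hf' : v = fun j => KaehlerDifferential.D A B (z (f j)) := funext fun j => (hf j).symm
    refine Submodule.subset_span ⟨⟨cnt f, sum_cnt f⟩, ?_⟩
    obtain ⟨e, he⟩ := exists_perm (exists_cnt_eq (κ := κ) (cnt f) (sum_cnt f)).choose_spec.symm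
    subst hf'
    simp only [symMon]
    rw [← SymmetricPower.tprod_equiv e]
    exact congrArg _ (funext fun j => by rw [he])
  obtain ⟨a, rfl⟩ := hmem
  rw [Finsupp.linearCombination_apply] at hs ⊢
  rw [h _ a ((canon_sum_eq_zero_iff z κ a).mp hs), Finsupp.sum_zero_index]

theorem grInd_of_injective (hb : ∃ b : Module.Basis ι B (KaehlerDifferential A B),
      ∀ i, b i = KaehlerDifferential.D A B (z i))
    (h : ∀ (κ : Type u) [Fintype κ], Function.Injective (canon A B κ)) : GrInd A z := by
  obtain ⟨b, hb⟩ := hb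
  intro n
  obtain ⟨κ, _, rfl⟩ : ∃ (κ : Type u) (_ : Fintype κ), Fintype.card κ = n :=
    ⟨ULift (Fin n), inferInstance, by simp⟩
  intro a ha
  have hs : (a.sum fun p c => c • symMon (A := A) z κ p) = 0 :=
    (h κ) (((canon_sum_eq_zero_iff z κ a).mpr ha).trans (map_zero _).symm)
  let L : KaehlerDifferential A B →ₗ[B] MvPolynomial ι B := b.constr B MvPolynomial.X
  let T : SymmetricPower B κ (KaehlerDifferential A B) →ₗ[B] MvPolynomial ι B :=
    symLift ((MultilinearMap.mkPiAlgebra B κ (MvPolynomial ι B)).compLinearMap fun _ => L) fun e v => by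
      simp only [MultilinearMap.compLinearMap_apply, MultilinearMap.mkPiAlgebra_apply]
      exact Equiv.prod_comp e fun i => L (v i)
  have hT : ∀ p, T (symMon z κ p) = MvPolynomial.monomial (Finsupp.equivFunOnFinite.symm p.1) 1 := fun p => by
    rw [symMon]
    show symLift _ _ _ = _
    rw [symLift_tprod, MultilinearMap.compLinearMap_apply, MultilinearMap.mkPiAlgebra_apply]
    simp only [L, ← hb, Module.Basis.constr_basis]
    rw [prod_comp_eq _ fun i => (MvPolynomial.X i : MvPolynomial ι B),
      (exists_cnt_eq (κ := κ) p.1 p.2).choose_spec, MvPolynomial.monomial_eq, map_one, one_mul,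
      Finsupp.prod_fintype _ _ fun i => pow_zero _]
    rfl
  have h0 := congrArg T hs
  rw [map_zero, map_finsuppSum] at h0
  simp only [map_smul, hT, MvPolynomial.smul_monomial, smul_eq_mul, mul_one] at h0
  ext q
  have h1 := congrArg (MvPolynomial.coeff (Finsupp.equivFunOnFinite.symm q.1)) h0
  rw [MvPolynomial.coeff_zero, Finsupp.sum, MvPolynomial.coeff_sum] at h1
  simp only [MvPolynomial.coeff_monomial, EmbeddingLike.apply_eq_iff_eq, Subtype.coe_inj] at h1
  rw [Finset.sum_ite_eq'] at h1
  by_cases hq : q ∈ a.support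
  · simpa [hq] using h1
  · simpa using hq

theorem linearIndependent_of_grInd (h : GrInd A z) :
    LinearIndependent B fun i => KaehlerDifferential.D A B (z i) := by
  refine Fintype.linearIndependent_iff.mpr fun c hc i => ?_
  have h1 : ∑ j, c j • dlt A B (z j) ∈ I ^ (1 + 1) := by
    have hm : ∑ j, c j • dlt A B (z j) ∈ I := sum_mem fun j _ => smul_mem_ideal I _ (dlt_mem _)
    have e : KaehlerDifferential.fromIdeal A B ⟨_, hm⟩ = 0 := by
      refine Eq.trans ?_ hc
      rw [show (⟨_, hm⟩ : I) = ∑ j, c j • (⟨dlt A B (z j), dlt_mem _⟩ : I) from Subtype.ext (by simp),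
        map_sum]
      exact Finset.sum_congr rfl fun j _ => by rw [LinearMap.map_smul_of_tower, toCotangent_dlt]
    exact (Ideal.toCotangent_eq_zero I ⟨_, hm⟩).mp e
  have h2 := h.eq_zero (m := 1) (∑ j, Finsupp.single (Pi.single j 1) (c j)) (fun p hp => by
      obtain ⟨j, -, hj⟩ := Finset.mem_biUnion.mp (Finsupp.support_finsetSum hp)
      rw [Finset.mem_singleton.mp (Finsupp.support_single_subset hj)]
      simp) (by
    rw [← Finsupp.sum_finsetSum_index (h := fun p c => c • mon (A := A) z p) (fun p => zero_smul B _) fun p c c' => add_smul c c' _]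
    convert h1 using 1
    exact Finset.sum_congr rfl fun j _ => by rw [Finsupp.sum_single_index (h := fun p c => c • mon (A := A) z p) (zero_smul B _), mon_single])
  have h3 := DFunLike.congr_fun h2 (Pi.single i 1)
  rw [Finsupp.finsetSum_apply, Finset.sum_eq_single i (fun j _ hj => Finsupp.single_eq_of_ne fun e => hj (by
      have := congrFun e j
      by_contra hne
      simp [hne] at this)) (by simp), Finsupp.single_eq_same] at h3
  simpa using h3

theorem isDiffSmooth_of_grInd (hz : Submodule.span B (Set.range fun i => KaehlerDifferential.D A B (z i)) = ⊤)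
    (h : GrInd A z) :
    PP16.IsDiffSmooth A B ∧ ∃ b : Module.Basis ι B (KaehlerDifferential A B),
      ∀ i, b i = KaehlerDifferential.D A B (z i) := by
  let b := Module.Basis.mk (linearIndependent_of_grInd z h) hz.ge
  exact ⟨(isDiffSmooth_iff A B).mpr ⟨Module.Projective.of_basis b, fun κ _ => injective_canon z κ hz h⟩,
    b, fun i => Module.Basis.mk_apply _ _ i⟩

theorem grInd_of_isDiffSmooth (hB : PP16.IsDiffSmooth A B)
    (hb : ∃ b : Module.Basis ι B (KaehlerDifferential A B), ∀ i, b i = KaehlerDifferential.D A B (z i)) :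
    GrInd A z ∧ Submodule.span B (Set.range fun i => KaehlerDifferential.D A B (z i)) = ⊤ := by
  refine ⟨grInd_of_injective z hb ((isDiffSmooth_iff A B).mp hB).2, ?_⟩
  obtain ⟨b, hb⟩ := hb
  simpa only [← hb] using b.span_eq

end Groth.Agent.PP16Lib

end
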