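import Groth.Agent.PP16Lib.Sym
import Groth.Agent.PP16Lib.SmoothBasis
import Mathlib.Algebra.Module.Projective
import Mathlib.RingTheory.MvPolynomial.Ideal

/-!
Symmetric powers of free and projective modules: comparison with homogeneous polynomials.
-/

set_option autoImplicit false
set_option linter.unusedSectionVars false

universe u v w

open scoped TensorProduct

noncomputable section

namespace Groth.Agent.PP16Lib

variable {R : Type u} [CommRing R] {κ : Type u} [Fintype κ] {Λ : Type u}

/-- The multiset of values of a function, as a finitely supported function. -/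
def cf (f : κ → Λ) : Λ →₀ ℕ := ∑ j, Finsupp.single (f j) 1

theorem cf_apply [DecidableEq Λ] (f : κ → Λ) (i : Λ) : cf f i = cnt f i := by
  rw [cf, Finsupp.finsetSum_apply, cnt, Finset.card_filter]
  exact Finset.sum_congr rfl fun j _ => Finsupp.single_apply

theorem degree_cf (f : κ → Λ) : Finsupp.degree (cf f) = Fintype.card κ := by
  simp [cf, map_sum]

theorem exists_perm_of_cf {f g : κ → Λ} (h : cf f = cf g) : ∃ e : Equiv.Perm κ, ∀ j, g (e j) = f j := by
  classical
  exact exists_perm (funext fun i => by rw [← cf_apply, ← cf_apply, h])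

variable (R κ Λ)

/-- The linear forms. -/
def linForm : (Λ →₀ R) →ₗ[R] MvPolynomial Λ R := Finsupp.linearCombination R MvPolynomial.X

/-- The product of linear forms. -/
def toPoly : SymmetricPower R κ (Λ →₀ R) →ₗ[R] MvPolynomial Λ R :=
  symLift ((MultilinearMap.mkPiAlgebra R κ (MvPolynomial Λ R)).compLinearMap fun _ => linForm R Λ)
    fun e v => by
      simp only [MultilinearMap.compLinearMap_apply, MultilinearMap.mkPiAlgebra_apply]
      exact Equiv.prod_comp e fun i => linForm R Λ (v i)

theorem toPoly_tprod (v : κ → Λ →₀ R) :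
    toPoly R κ Λ (SymmetricPower.tprod R v) = ∏ j, linForm R Λ (v j) := by
  rw [toPoly, symLift_tprod, MultilinearMap.compLinearMap_apply, MultilinearMap.mkPiAlgebra_apply]

/-- The symmetric products of the basis vectors, indexed by multisets. -/
def ofExp (m : Λ →₀ ℕ) : SymmetricPower R κ (Λ →₀ R) :=
  open Classical in
  if h : ∃ f : κ → Λ, cf f = m then SymmetricPower.tprod R fun j => Finsupp.single (h.choose j) 1 else 0

/-- Back from polynomials. -/
def ofPoly : MvPolynomial Λ R →ₗ[R] SymmetricPower R κ (Λ →₀ R) :=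
  (MvPolynomial.basisMonomials Λ R).constr R (ofExp R κ Λ)

theorem toPoly_single (f : κ → Λ) :
    toPoly R κ Λ (SymmetricPower.tprod R fun j => Finsupp.single (f j) 1) =
      MvPolynomial.monomial (cf f) 1 := by
  rw [toPoly_tprod, cf, MvPolynomial.monomial_sum_one]
  exact Finset.prod_congr rfl fun j _ => by simp [linForm, MvPolynomial.X]

theorem span_single : Submodule.span R (Set.range fun i : Λ => Finsupp.single i (1 : R)) = ⊤ := by
  have := (Finsupp.basisSingleOne (R := R) (ι := Λ)).span_eq
  rwa [Finsupp.coe_basisSingleOne] at this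

theorem ofPoly_toPoly : (ofPoly R κ Λ).comp (toPoly R κ Λ) = LinearMap.id := by
  refine LinearMap.ext_on
    (span_tprod_of_span (κ := κ) (span_single R Λ)) ?_
  rintro _ ⟨v, hv, rfl⟩
  choose f hf using hv
  rw [← funext hf, LinearMap.comp_apply, toPoly_single, LinearMap.id_apply, ofPoly]
  have h : ∃ g : κ → Λ, cf g = cf f := ⟨f, rfl⟩
  rw [show MvPolynomial.monomial (cf f) (1 : R) = MvPolynomial.basisMonomials Λ R (cf f) by simp,
    Module.Basis.constr_basis, ofExp, dif_pos h]
  obtain ⟨e, he⟩ := exists_perm_of_cf h.choose_spec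
  rw [← SymmetricPower.tprod_equiv e fun j => Finsupp.single (f j) (1 : R)]
  exact congrArg _ (funext fun j => by rw [he])

theorem toPoly_injective : Function.Injective (toPoly R κ Λ) :=
  Function.LeftInverse.injective (g := ofPoly R κ Λ) fun x => LinearMap.congr_fun (ofPoly_toPoly R κ Λ) x

theorem coeff_toPoly_eq_zero (s : SymmetricPower R κ (Λ →₀ R)) {m : Λ →₀ ℕ}
    (hm : Finsupp.degree m ≠ Fintype.card κ) : MvPolynomial.coeff m (toPoly R κ Λ s) = 0 := by
  classical
  have hs : s ∈ Submodule.span R (SymmetricPower.tprod R '' {v : κ → Λ →₀ R | ∀ i, v i ∈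
      Set.range fun i : Λ => Finsupp.single i (1 : R)}) :=
    span_tprod_of_span (κ := κ) (s := Set.range fun i : Λ => Finsupp.single i (1 : R))
      (span_single R Λ) ▸
      Submodule.mem_top
  induction hs using Submodule.span_induction with
  | mem x hx =>
    obtain ⟨v, hv, rfl⟩ := hx
    choose f hf using hv
    rw [← funext hf, toPoly_single, MvPolynomial.coeff_monomial,
      if_neg fun (h : cf f = m) => hm (h ▸ degree_cf f)]
  | zero => simp
  | add x y _ _ hx hy => rw [map_add, MvPolynomial.coeff_add, hx, hy, add_zero]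
  | smul c x _ hx => rw [map_smul, MvPolynomial.coeff_smul, hx, smul_zero]

theorem toPoly_eq_zero_of_mem {s : SymmetricPower R κ (Λ →₀ R)}
    (h : toPoly R κ Λ s ∈ MvPolynomial.idealOfVars Λ R ^ (Fintype.card κ + 1)) : s = 0 := by
  refine toPoly_injective R κ Λ (Eq.trans ?_ (map_zero _).symm)
  ext m
  rw [MvPolynomial.coeff_zero]
  by_cases hm : Finsupp.degree m = Fintype.card κ
  · exact (MvPolynomial.mem_pow_idealOfVars_iff' _ _).mp h m (by omega)
  · exact coeff_toPoly_eq_zero R κ Λ s hm

variable {R Λ} {M : Type v} [AddCommGroup M] [Module R M] {N : Type w} [AddCommGroup N] [Module R N]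

/-- Functoriality of symmetric powers. -/
def symMap (h : M →ₗ[R] N) : SymmetricPower R κ M →ₗ[R] SymmetricPower R κ N :=
  symLift ((SymmetricPower.tprod R).compLinearMap fun _ => h) fun e v => by
    simp only [MultilinearMap.compLinearMap_apply]
    exact SymmetricPower.tprod_equiv e fun i => h (v i)

theorem symMap_tprod (h : M →ₗ[R] N) (v : κ → M) :
    symMap κ h (SymmetricPower.tprod R v) = SymmetricPower.tprod R fun j => h (v j) := by
  rw [symMap, symLift_tprod, MultilinearMap.compLinearMap_apply]

theorem symMap_symMap {M' : Type w} [AddCommGroup M'] [Module R M'] (r : M' →ₗ[R] M) (i : M →ₗ[R] M')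
    (h : r.comp i = LinearMap.id) (s : SymmetricPower R κ M) : symMap κ r (symMap κ i s) = s := by
  refine LinearMap.congr_fun (f := (symMap κ r).comp (symMap κ i)) (g := LinearMap.id) ?_ s
  refine LinearMap.ext_on (SymmetricPower.span_tprod_eq_top R κ M) ?_
  rintro _ ⟨v, rfl⟩
  rw [LinearMap.comp_apply, symMap_tprod, symMap_tprod, LinearMap.id_apply]
  exact congrArg _ (funext fun j => LinearMap.congr_fun h (v j))

theorem exists_split (R : Type u) [CommRing R] (M : Type u) [AddCommGroup M] [Module R M]
    [Module.Projective R M] :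
    ∃ (Λ : Type u) (i : M →ₗ[R] Λ →₀ R) (r : (Λ →₀ R) →ₗ[R] M), r.comp i = LinearMap.id := by
  obtain ⟨s, hs⟩ := (Module.projective_def'.mp ‹Module.Projective R M›)
  exact ⟨M, s, Finsupp.linearCombination R id, hs⟩

/-- Symmetric powers of projective modules are projective. -/
theorem projective_symmetricPower (R : Type u) [CommRing R] (κ : Type u) [Fintype κ] (M : Type u)
    [AddCommGroup M] [Module R M] [Module.Projective R M] :
    Module.Projective R (SymmetricPower R κ M) := by
  obtain ⟨Λ, i, r, h⟩ := exists_split R M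
  refine Module.Projective.of_split (M := MvPolynomial Λ R) ((toPoly R κ Λ).comp (symMap κ i))
    ((symMap κ r).comp (ofPoly R κ Λ)) (LinearMap.ext fun s => ?_)
  simp only [LinearMap.comp_apply, LinearMap.id_apply]
  rw [← LinearMap.comp_apply (ofPoly R κ Λ), ofPoly_toPoly, LinearMap.id_apply, symMap_symMap κ r i h]

end Groth.Agent.PP16Lib

end
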