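import Groth.Agent.PP16Lib.FreeSym
import Mathlib.RingTheory.Ideal.Cotangent

/-!
The canonical maps `Sym^n_R(J/J²) → J^n/J^(n+1)`; symmetric powers over `R` of free `R/J`-modules.
-/

set_option autoImplicit false
set_option linter.unusedSectionVars false

universe u

open scoped TensorProduct

noncomputable section

namespace Groth.Agent.PP16Lib

section grJ

variable {R : Type u} [CommRing R] (J : Ideal R) (κ : Type u) [Fintype κ]

/-- The class of a product of elements of `J`. -/
def clsJ (x : κ → J) : PP16.grJ R J (Fintype.card κ) := PP16.zetaJ R J x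

theorem zetaJ_eq {x y : κ → J} (h : ∀ i, J.toCotangent (x i) = J.toCotangent (y i)) :
    PP16.zetaJ R J x = PP16.zetaJ R J y := by
  refine (Submodule.Quotient.eq _).mpr ?_
  show ∏ i, (x i : R) - ∏ i, (y i : R) ∈ J ^ (Fintype.card κ + 1)
  exact prod_sub_prod_mem J Finset.univ _ _ (fun i _ => (x i).2) (fun i _ => (y i).2)
    fun i _ => J.toCotangent_eq.mp (h i)

/-- A section of `J → J/J²`. -/
def secJ (w : J.Cotangent) : J := Function.surjInv J.toCotangent_surjective w

theorem toCotangent_secJ (w : J.Cotangent) : J.toCotangent (secJ J w) = w :=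
  Function.surjInv_eq J.toCotangent_surjective w

theorem zetaJ_update [DecidableEq κ] (v : κ → J.Cotangent) (j : κ) (x : J) :
    PP16.zetaJ R J (fun i => secJ J (Function.update v j (J.toCotangent x) i)) =
      PP16.zetaJ R J (Function.update (fun i => secJ J (v i)) j x) := by
  refine zetaJ_eq J κ fun i => ?_
  rw [toCotangent_secJ]
  by_cases h : i = j
  · subst h; rw [Function.update_self, Function.update_self]
  · rw [Function.update_of_ne h, Function.update_of_ne h, toCotangent_secJ]

theorem coe_prod_update [DecidableEq κ] (w : κ → J) (j : κ) (x : J) :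
    ∏ i, ((Function.update w j x i : J) : R) = (x : R) * ∏ i ∈ Finset.univ \ {j}, (w i : R) := by
  rw [Finset.prod_congr rfl fun i _ => show ((Function.update w j x i : J) : R) =
    Function.update (fun i => (w i : R)) j (x : R) i by
      by_cases h : i = j
      · subst h; simp
      · simp [Function.update_of_ne h],
    Finset.prod_update_of_mem (Finset.mem_univ j)]

/-- The multilinear map `(J/J²)^κ → J^n/J^(n+1)`. -/
def canonJMulti : MultilinearMap R (fun _ : κ => J.Cotangent) (PP16.grJ R J (Fintype.card κ)) where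
  toFun v := PP16.zetaJ R J fun i => secJ J (v i)
  map_update_add' {_} v j a b := by
    classical
    obtain ⟨a, rfl⟩ := J.toCotangent_surjective a
    obtain ⟨b, rfl⟩ := J.toCotangent_surjective b
    rw [← map_add, zetaJ_update, zetaJ_update, zetaJ_update, PP16.zetaJ, PP16.zetaJ, PP16.zetaJ,
      ← Submodule.Quotient.mk_add]
    congr 1
    ext1
    simp only [Submodule.coe_add, coe_prod_update, add_mul]
  map_update_smul' {_} v j c a := by
    classical
    obtain ⟨a, rfl⟩ := J.toCotangent_surjective a
    rw [← map_smul, zetaJ_update, zetaJ_update, PP16.zetaJ, PP16.zetaJ, ← Submodule.Quotient.mk_smul]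
    congr 1
    ext1
    simp only [Submodule.coe_smul, coe_prod_update, smul_eq_mul, mul_assoc]

theorem canonJMulti_apply (v : κ → J.Cotangent) :
    canonJMulti J κ v = PP16.zetaJ R J fun i => secJ J (v i) := rfl

theorem canonJMulti_symm (e : Equiv.Perm κ) (v : κ → J.Cotangent) :
    canonJMulti J κ (fun i => v (e i)) = canonJMulti J κ v := by
  rw [canonJMulti_apply, canonJMulti_apply, PP16.zetaJ, PP16.zetaJ]
  congr 1
  ext1
  exact Equiv.prod_comp e fun i => (secJ J (v i) : R)

/-- The canonical map `Sym^n_R(J/J²) → J^n/J^(n+1)`. -/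
def canonJ : SymmetricPower R κ J.Cotangent →ₗ[R] PP16.grJ R J (Fintype.card κ) :=
  symLift (canonJMulti J κ) (canonJMulti_symm J κ)

theorem canonJ_tprod (x : κ → J) :
    canonJ J κ (SymmetricPower.tprod R fun i => J.toCotangent (x i)) = PP16.zetaJ R J x := by
  rw [canonJ, symLift_tprod, canonJMulti_apply]
  exact zetaJ_eq J κ fun i => toCotangent_secJ J _

theorem eq_canonJ (φ : SymmetricPower R κ J.Cotangent →ₗ[R] PP16.grJ R J (Fintype.card κ))
    (hφ : ∀ x : κ → J, φ (SymmetricPower.tprod R fun i => J.toCotangent (x i)) = PP16.zetaJ R J x) :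
    φ = canonJ J κ := by
  refine LinearMap.ext_on (SymmetricPower.span_tprod_eq_top R κ J.Cotangent) ?_
  rintro _ ⟨v, rfl⟩
  rw [show v = fun i => J.toCotangent (secJ J (v i)) from funext fun i => (toCotangent_secJ J _).symm,
    hφ, canonJ_tprod]

theorem pow_le_span_prod (n : ℕ) :
    J ^ n ≤ Submodule.span R (Set.range fun x : Fin n → J => ∏ i, (x i : R)) := by
  induction n with
  | zero =>
    intro y _
    rw [show y = y • (1 : R) by simp]
    exact Submodule.smul_mem _ _ (Submodule.subset_span ⟨Fin.elim0, by simp⟩)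
  | succ n ih =>
    rw [pow_succ]
    refine Submodule.mul_le.mpr fun a ha b hb => ?_
    have ha' := ih ha
    clear ha
    induction ha' using Submodule.span_induction with
    | mem y hy =>
      obtain ⟨x, rfl⟩ := hy
      exact Submodule.subset_span ⟨Fin.snoc x ⟨b, hb⟩, by simp [Fin.prod_univ_castSucc]⟩
    | zero => simp
    | add y z _ _ hy hz => rw [add_mul]; exact add_mem hy hz
    | smul c y _ hy => rw [smul_mul_assoc]; exact Submodule.smul_mem _ c hy

theorem canonJ_surjective : Function.Surjective (canonJ J κ) := by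
  rw [← LinearMap.range_eq_top, eq_top_iff]
  rintro z -
  obtain ⟨⟨y, hy⟩, rfl⟩ := Submodule.Quotient.mk_surjective _ z
  induction pow_le_span_prod J _ hy using Submodule.span_induction with
  | mem y hy' =>
    obtain ⟨x, rfl⟩ := hy'
    refine ⟨SymmetricPower.tprod R fun i => J.toCotangent (x (Fintype.equivFin κ i)), ?_⟩
    rw [canonJ_tprod, PP16.zetaJ]
    congr 1
    ext1
    exact Equiv.prod_comp (Fintype.equivFin κ) fun i => (x i : R)
  | zero => exact ⟨0, by rw [map_zero]; exact (Submodule.Quotient.mk_zero _).symm⟩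
  | add a b ha hb iha ihb =>
    have ma : a ∈ J ^ Fintype.card κ := Submodule.span_le.mpr
      (by rintro _ ⟨x, rfl⟩; simpa using prod_mem_pow' J Finset.univ (fun i => (x i : R)) fun i _ => (x i).2) ha
    have mb : b ∈ J ^ Fintype.card κ := Submodule.span_le.mpr
      (by rintro _ ⟨x, rfl⟩; simpa using prod_mem_pow' J Finset.univ (fun i => (x i : R)) fun i _ => (x i).2) hb
    exact (add_mem (iha ma) (ihb mb) : _)
  | smul c a ha iha =>
    have ma : a ∈ J ^ Fintype.card κ := Submodule.span_le.mpr
      (by rintro _ ⟨x, rfl⟩; simpa using prod_mem_pow' J Finset.univ (fun i => (x i : R)) fun i _ => (x i).2) ha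
    exact (Submodule.smul_mem _ c (iha ma) : _)

theorem symGrBijective_iff : PP16.SymGrBijective R J ↔
    ∀ (κ : Type u) [Fintype κ] [Nonempty κ], Function.Injective (canonJ J κ) := by
  refine ⟨fun h κ _ _ => ?_, fun h κ _ _ => ⟨canonJ J κ, canonJ_tprod J κ, h κ, canonJ_surjective J κ⟩⟩
  obtain ⟨φ, h1, h2⟩ := h κ
  exact eq_canonJ J κ φ h1 ▸ h2.1

end grJ

section freeQ

variable {B C : Type u} [CommRing B] [CommRing C] [Algebra B C] {κ : Type u} [Fintype κ] {Λ : Type u}

variable (B C κ Λ) in
/-- Products of linear forms, for symmetric powers over a ring mapping onto the coefficient ring. -/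
def toPolyQ : SymmetricPower B κ (Λ →₀ C) →ₗ[B] MvPolynomial Λ C :=
  symLift ((MultilinearMap.mkPiAlgebra B κ (MvPolynomial Λ C)).compLinearMap
      fun _ => (linForm C Λ).restrictScalars B)
    fun e v => by
      simp only [MultilinearMap.compLinearMap_apply, MultilinearMap.mkPiAlgebra_apply]
      exact Equiv.prod_comp e fun i => linForm C Λ (v i)

theorem toPolyQ_tprod (v : κ → Λ →₀ C) :
    toPolyQ B C κ Λ (SymmetricPower.tprod B v) = ∏ j, linForm C Λ (v j) := by
  rw [toPolyQ, symLift_tprod, MultilinearMap.compLinearMap_apply, MultilinearMap.mkPiAlgebra_apply]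
  rfl

theorem span_single_of_surjective (hC : Function.Surjective (algebraMap B C)) :
    Submodule.span B (Set.range fun a : Λ => Finsupp.single a (1 : C)) = ⊤ := by
  rw [eq_top_iff]
  rintro x -
  induction x using Finsupp.induction_linear with
  | zero => exact zero_mem _
  | add x y hx hy => exact add_mem hx hy
  | single a c =>
    obtain ⟨b, rfl⟩ := hC c
    rw [Algebra.algebraMap_eq_smul_one, ← Finsupp.smul_single]
    exact Submodule.smul_mem _ b (Submodule.subset_span ⟨a, rfl⟩)

theorem smul_eq_zero_of_algebraMap_eq_zero [Nonempty κ] {b : B} (hb : algebraMap B C b = 0)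
    (s : SymmetricPower B κ (Λ →₀ C)) : b • s = 0 := by
  classical
  have hs : s ∈ Submodule.span B (Set.range (SymmetricPower.tprod B (ι := κ) (M := Λ →₀ C))) :=
    (SymmetricPower.span_tprod_eq_top (R := B) (ι := κ) (M := Λ →₀ C)) ▸ Submodule.mem_top
  induction hs using Submodule.span_induction with
  | mem x hx =>
    obtain ⟨v, rfl⟩ := hx
    obtain ⟨j⟩ := ‹Nonempty κ›
    have h0 : b • v j = 0 := by rw [← algebraMap_smul C b, hb, zero_smul]
    conv_lhs => rw [← Function.update_eq_self j v, ← MultilinearMap.map_update_smul, h0]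
    exact MultilinearMap.map_coord_zero _ j (Function.update_self j 0 v)
  | zero => rw [smul_zero]
  | add x y _ _ hx hy => rw [smul_add, hx, hy, add_zero]
  | smul c x _ hx => rw [smul_comm, hx, smul_zero]

theorem toPolyQ_single (f : κ → Λ) :
    toPolyQ B C κ Λ (SymmetricPower.tprod B fun j => Finsupp.single (f j) 1) =
      MvPolynomial.monomial (cf f) 1 := by
  rw [toPolyQ_tprod, cf, MvPolynomial.monomial_sum_one]
  exact Finset.prod_congr rfl fun j _ => by simp [linForm, MvPolynomial.X]

theorem exists_combination (hC : Function.Surjective (algebraMap B C)) (s : SymmetricPower B κ (Λ →₀ C)) :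
    ∃ a : (κ → Λ) →₀ B, s = a.sum fun f c => c • SymmetricPower.tprod B fun j => Finsupp.single (f j) (1 : C) := by
  have hs : s ∈ Submodule.span B (Set.range fun f : κ → Λ =>
      SymmetricPower.tprod B fun j => Finsupp.single (f j) (1 : C)) := by
    refine Submodule.span_le.mpr ?_
      ((span_tprod_of_span (R := B) (κ := κ) (span_single_of_surjective (Λ := Λ) hC)).ge (Submodule.mem_top (x := s)))
    rintro _ ⟨v, hv, rfl⟩
    choose f hf using hv
    exact Submodule.subset_span ⟨f, congrArg _ (funext fun j => hf j)⟩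
  obtain ⟨a, ha⟩ := Finsupp.mem_span_range_iff_exists_finsupp.mp hs
  exact ⟨a, ha.symm⟩

theorem toPolyQ_injective [Nonempty κ] (hC : Function.Surjective (algebraMap B C)) :
    Function.Injective (toPolyQ B C κ Λ) := by
  classical
  let ℓ : C → B := Function.surjInv hC
  have hℓ : ∀ c, algebraMap B C (ℓ c) = c := Function.surjInv_eq hC
  have hdep : ∀ (b b' : B), algebraMap B C b = algebraMap B C b' → ∀ s : SymmetricPower B κ (Λ →₀ C),
      b • s = b' • s := fun b b' h s => by
    rw [show b = b' + (b - b') by ring, add_smul,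
      smul_eq_zero_of_algebraMap_eq_zero (b := b - b') (by rw [map_sub, h, sub_self]) s, add_zero]
  let e : (Λ →₀ ℕ) → SymmetricPower B κ (Λ →₀ C) := fun m =>
    if h : ∃ f : κ → Λ, cf f = m then SymmetricPower.tprod B fun j => Finsupp.single (h.choose j) (1 : C) else 0
  let U : MvPolynomial Λ C →+ SymmetricPower B κ (Λ →₀ C) :=
    (Finsupp.liftAddHom fun m => AddMonoidHom.mk' (fun c => ℓ c • e m) fun c d => by
      rw [← add_smul]
      exact hdep _ _ (by rw [map_add, hℓ, hℓ, hℓ]) _).comp
      (MvPolynomial.basisMonomials Λ C).repr.toLinearMap.toAddMonoidHom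
  have hU : ∀ (f : κ → Λ) (b : B), U (b • MvPolynomial.monomial (cf f) 1) =
      b • SymmetricPower.tprod B fun j => Finsupp.single (f j) (1 : C) := fun f b => by
    have h : ∃ g : κ → Λ, cf g = cf f := ⟨f, rfl⟩
    have e1 : (MvPolynomial.basisMonomials Λ C).repr (b • MvPolynomial.monomial (cf f) (1 : C)) =
        Finsupp.single (cf f) (algebraMap B C b) := by
      rw [← algebraMap_smul C b, show MvPolynomial.monomial (cf f) (1 : C) = MvPolynomial.basisMonomials Λ C (cf f) by simp,
        map_smul, Module.Basis.repr_self, Finsupp.smul_single, smul_eq_mul, mul_one]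
    simp only [U, AddMonoidHom.comp_apply, LinearMap.toAddMonoidHom_coe, LinearEquiv.coe_coe, e1,
      Finsupp.liftAddHom_apply_single, AddMonoidHom.mk'_apply]
    rw [hdep _ _ (hℓ _) _]
    simp only [e, dif_pos h]
    obtain ⟨σ, hσ⟩ := exists_perm_of_cf h.choose_spec
    rw [← SymmetricPower.tprod_equiv σ fun j => Finsupp.single (f j) (1 : C)]
    exact congrArg _ (congrArg _ (funext fun j => by rw [hσ]))
  refine Function.LeftInverse.injective (g := U) fun s => ?_
  obtain ⟨a, rfl⟩ := exists_combination hC s
  simp only [map_finsuppSum, map_smul, toPolyQ_single]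
  exact Finset.sum_congr rfl fun f _ => hU f _

theorem toPolyQ_eq_zero_of_mem [Nonempty κ] (hC : Function.Surjective (algebraMap B C))
    {s : SymmetricPower B κ (Λ →₀ C)}
    (h : toPolyQ B C κ Λ s ∈ MvPolynomial.idealOfVars Λ C ^ (Fintype.card κ + 1)) : s = 0 := by
  classical
  refine toPolyQ_injective hC (Eq.trans ?_ (map_zero _).symm)
  ext m
  rw [MvPolynomial.coeff_zero]
  by_cases hm : Finsupp.degree m = Fintype.card κ
  · exact (MvPolynomial.mem_pow_idealOfVars_iff' _ _).mp h m (by omega)
  · obtain ⟨a, rfl⟩ := exists_combination hC s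
    rw [map_finsuppSum, Finsupp.sum, MvPolynomial.coeff_sum]
    refine Finset.sum_eq_zero fun f _ => ?_
    rw [map_smul, toPolyQ_single]
    rw [MvPolynomial.coeff_smul, MvPolynomial.coeff_monomial, if_neg fun (hf : cf f = m) => hm (hf ▸ degree_cf f),
      smul_zero]

end freeQ

end Groth.Agent.PP16Lib

end
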