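import Groth.Agent.PP16Lib.Basic
import Groth.Agent.DiffOp.Basic
import Mathlib.Algebra.Algebra.Operations
import Mathlib.Algebra.BigOperators.Ring.Finset
import Mathlib.Data.Fintype.Pi
import Mathlib.Order.Interval.Finset.Nat

/-!
Monomials in `1 ⊗ z_i - z_i ⊗ 1`: they span the graded pieces of the diagonal ideal; the duality
with operators acting on monomials by binomial coefficients; bases of principal parts.
-/

set_option autoImplicit false
set_option linter.unusedSectionVars false

universe u v

open scoped TensorProduct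

noncomputable section

namespace Groth.Agent.PP16Lib

variable {A B : Type u} [CommRing A] [CommRing B] [Algebra A B] {ι : Type v} [Fintype ι]

/-- The monomial `∏ (1 ⊗ z_i - z_i ⊗ 1)^(p_i)`. -/
def mon (z : ι → B) (p : ι → ℕ) : B ⊗[A] B := ∏ i, dlt A B (z i) ^ p i

local notation "I" => KaehlerDifferential.ideal A B

theorem mon_zero (z : ι → B) : mon (A := A) z 0 = 1 := by simp [mon]

theorem mon_add (z : ι → B) (p q : ι → ℕ) : mon (A := A) z (p + q) = mon z p * mon z q := by
  simp only [mon, Pi.add_apply, pow_add, Finset.prod_mul_distrib]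

theorem mon_single [DecidableEq ι] (z : ι → B) (i : ι) :
    mon (A := A) z (Pi.single i 1) = dlt A B (z i) := by
  rw [mon, Finset.prod_eq_single i (fun j _ hj => by simp [hj]) (by simp), Pi.single_eq_same, pow_one]

theorem mon_mem (z : ι → B) (p : ι → ℕ) : mon (A := A) z p ∈ I ^ (∑ i, p i) := by
  classical
  have : ∀ s : Finset ι, ∏ i ∈ s, dlt A B (z i) ^ p i ∈ I ^ (∑ i ∈ s, p i) := fun s => by
    induction s using Finset.induction_on with
    | empty => simp
    | insert a s ha ih =>
      rw [Finset.prod_insert ha, Finset.sum_insert ha, pow_add]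
      exact Ideal.mul_mem_mul (Ideal.pow_mem_pow (dlt_mem _) _) ih
  exact this Finset.univ

theorem smul_mem_ideal (J : Ideal (B ⊗[A] B)) (c : B) {x : B ⊗[A] B} (hx : x ∈ J) : c • x ∈ J :=
  (J.restrictScalars B).smul_mem c hx

/-- The `B`-span of the monomials of degree `n`. -/
def degSpan (z : ι → B) (n : ℕ) : Submodule B (B ⊗[A] B) :=
  Submodule.span B (mon z '' {p | ∑ i, p i = n})

theorem toCotangent_dlt (b : B) :
    KaehlerDifferential.fromIdeal A B ⟨dlt A B b, dlt_mem b⟩ = KaehlerDifferential.D A B b :=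
  (KaehlerDifferential.D_apply A B b).symm

theorem toCotangent_smul (c : B) {x : B ⊗[A] B} (hx : x ∈ I) :
    KaehlerDifferential.fromIdeal A B ⟨c • x, smul_mem_ideal I c hx⟩ =
      (c • KaehlerDifferential.fromIdeal A B ⟨x, hx⟩ : KaehlerDifferential A B) :=
  LinearMap.map_smul_of_tower (KaehlerDifferential.fromIdeal A B) c ⟨x, hx⟩

/-- Generation of `I / I²`. -/
theorem exists_sub_mem_sq (z : ι → B)
    (hz : Submodule.span B (Set.range fun i => KaehlerDifferential.D A B (z i)) = ⊤)
    {x : B ⊗[A] B} (hx : x ∈ I) : ∃ a : ι → B, x - ∑ i, a i • dlt A B (z i) ∈ I ^ 2 := by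
  obtain ⟨a, ha⟩ := (Submodule.mem_span_range_iff_exists_fun B).mp
    (hz ▸ (Submodule.mem_top : (KaehlerDifferential.fromIdeal A B ⟨x, hx⟩ : KaehlerDifferential A B) ∈
      (⊤ : Submodule B (KaehlerDifferential A B))))
  refine ⟨a, ?_⟩
  have hmem : ∑ i, a i • dlt A B (z i) ∈ I :=
    sum_mem fun i _ => smul_mem_ideal I _ (dlt_mem _)
  refine (Ideal.toCotangent_eq I (x := ⟨x, hx⟩) (y := ⟨_, hmem⟩)).mp ?_
  refine ha.symm.trans ?_
  have e : (⟨_, hmem⟩ : I) = ∑ i, a i • (⟨dlt A B (z i), dlt_mem _⟩ : I) := by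
    apply Subtype.ext
    simp
  show _ = KaehlerDifferential.fromIdeal A B ⟨_, hmem⟩
  rw [e, map_sum]
  exact Finset.sum_congr rfl fun i _ => by rw [LinearMap.map_smul_of_tower, toCotangent_dlt]

theorem pow_le_degSpan_sup (z : ι → B)
    (hz : Submodule.span B (Set.range fun i => KaehlerDifferential.D A B (z i)) = ⊤) (n : ℕ) :
    (I ^ n).restrictScalars B ≤ degSpan z n ⊔ (I ^ (n + 1)).restrictScalars B := by
  classical
  induction n with
  | zero =>
    intro x _
    refine Submodule.mem_sup.mpr ⟨Algebra.TensorProduct.lmul' A x • 1, ?_,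
      x - Algebra.TensorProduct.lmul' A x • 1, ?_, by abel⟩
    · exact Submodule.smul_mem _ _ (Submodule.subset_span ⟨0, by simp, mon_zero z⟩)
    · show _ ∈ I ^ (0 + 1)
      rw [zero_add, pow_one, KaehlerDifferential.ideal, RingHom.mem_ker, ← Algebra.algebraMap_eq_smul_one,
        map_sub, Algebra.TensorProduct.algebraMap_apply, Algebra.TensorProduct.lmul'_apply_tmul,
        mul_one, Algebra.algebraMap_self_apply, sub_self]
  | succ n ih =>
    intro x hx
    rw [Submodule.restrictScalars_mem, pow_succ] at hx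
    refine Submodule.mul_induction_on hx (fun r hr s hs => ?_) fun x y hx hy => add_mem hx hy
    obtain ⟨g, hg, h, hh, rfl⟩ := Submodule.mem_sup.mp (ih hr)
    obtain ⟨a, ha⟩ := exists_sub_mem_sq z hz hs
    set t := ∑ i, a i • dlt A B (z i) with ht
    rw [show (g + h) * s = g * t + (g * (s - t) + h * s) by ring]
    have hgn : g ∈ I ^ n := by
      refine Submodule.span_le (p := (I ^ n).restrictScalars B).mpr ?_ hg
      rintro _ ⟨p, hp, rfl⟩
      exact (hp : ∑ i, p i = n) ▸ mon_mem z p
    refine Submodule.add_mem_sup ?_ ?_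
    · rw [ht, Finset.mul_sum]
      refine sum_mem fun i _ => ?_
      rw [mul_smul_comm]
      refine Submodule.smul_mem _ _ ?_
      refine Submodule.span_induction ?_ ?_ ?_ ?_ hg
      · rintro _ ⟨p, hp, rfl⟩
        refine Submodule.subset_span ⟨p + Pi.single i 1, ?_, by rw [mon_add, mon_single]⟩
        rw [Set.mem_ofPred_eq] at hp ⊢
        simp [Finset.sum_add_distrib, hp]
      · simp
      · intro u w _ _ hu hw; rw [add_mul]; exact add_mem hu hw
      · intro c u _ hu; rw [smul_mul_assoc]; exact Submodule.smul_mem _ c hu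
    · refine add_mem ?_ ?_
      · have := Ideal.mul_mem_mul hgn ha
        rwa [← pow_add] at this
      · have := Ideal.mul_mem_mul (hh : h ∈ I ^ (n + 1)) hs
        rwa [← pow_succ] at this

/-- A `B`-subspace containing the monomials of degree in `[m, N]` and `I^(N+1)` contains `I^m`. -/
theorem pow_le_of_mon_mem (z : ι → B)
    (hz : Submodule.span B (Set.range fun i => KaehlerDifferential.D A B (z i)) = ⊤)
    {W : Submodule B (B ⊗[A] B)} {m N : ℕ} (hmN : m ≤ N + 1)
    (h : ∀ p, m ≤ ∑ i, p i → ∑ i, p i ≤ N → mon z p ∈ W)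
    (hN : (I ^ (N + 1)).restrictScalars B ≤ W) : (I ^ m).restrictScalars B ≤ W := by
  induction d : N + 1 - m generalizing m with
  | zero => exact (show N + 1 = m by omega) ▸ hN
  | succ d' ih =>
    refine (pow_le_degSpan_sup z hz m).trans (sup_le ?_ (ih (by omega) (fun p hp => h p (by omega)) (by omega)))
    refine Submodule.span_le.mpr ?_
    rintro _ ⟨p, hp, rfl⟩
    exact h p (hp : ∑ i, p i = m).ge ((hp : ∑ i, p i = m).le.trans (by omega))

/-! ### Operators acting on monomials by binomial coefficients -/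

/-- `D` acts on the monomials in `z` as `c` times the divided derivative of index `p`. -/
def IsBinom (z : ι → B) (p : ι → ℕ) (c : B) (D : B →ₗ[A] B) : Prop :=
  ∀ q : ι → ℕ, D (∏ i, z i ^ q i) =
    c * (((∏ i, Nat.choose (q i) (p i) : ℕ) : B) * ∏ i, z i ^ (q i - p i))

theorem choose_succ_mul (a : ℕ) (r : ℕ) (x : B) :
    (Nat.choose (r + 1) (a + 1) : B) * x ^ (r + 1 - (a + 1)) -
        x * ((Nat.choose r (a + 1) : B) * x ^ (r - (a + 1))) =
      (Nat.choose r a : B) * x ^ (r - a) := by
  rw [Nat.choose_succ_succ, Nat.cast_add, Nat.add_sub_add_right]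
  rcases Nat.lt_or_ge r (a + 1) with h | h
  · rw [Nat.choose_eq_zero_of_lt h]
    push_cast
    ring
  · rw [show r - a = r - (a + 1) + 1 by omega, pow_succ]
    ring

theorem IsBinom.commutator [DecidableEq ι] {z : ι → B} {p : ι → ℕ} {c : B} {D : B →ₗ[A] B}
    (h : IsBinom z p c D) (i : ι) :
    IsBinom z (Function.update p i (p i - 1)) (if p i = 0 then 0 else c)
      (Diff16.commutator A B B B D (z i)) := by
  intro r
  have e1 : z i * ∏ j, z j ^ r j = ∏ j, z j ^ Function.update r i (r i + 1) j := by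
    rw [Fintype.prod_eq_mul_prod_compl i, Fintype.prod_eq_mul_prod_compl i,
      Function.update_self, pow_succ', mul_assoc]
    congr 2
    exact Finset.prod_congr rfl fun j hj => by
      rw [Function.update_of_ne (Finset.notMem_singleton.mp (Finset.mem_compl.mp hj))]
  rw [DiffOp.commutator_apply, smul_eq_mul, smul_eq_mul, e1, h, h]
  push_cast
  rw [← Finset.prod_mul_distrib, ← Finset.prod_mul_distrib, ← Finset.prod_mul_distrib,
    Fintype.prod_eq_mul_prod_compl i, Fintype.prod_eq_mul_prod_compl i,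
    Fintype.prod_eq_mul_prod_compl i, Function.update_self, Function.update_self]
  have e2 : ∀ j ∈ ({i} : Finset ι)ᶜ,
      (Nat.choose (Function.update r i (r i + 1) j) (p j) : B) *
          z j ^ (Function.update r i (r i + 1) j - p j) =
        (Nat.choose (r j) (p j) : B) * z j ^ (r j - p j) ∧
      (Nat.choose (r j) (Function.update p i (p i - 1) j) : B) *
          z j ^ (r j - Function.update p i (p i - 1) j) =
        (Nat.choose (r j) (p j) : B) * z j ^ (r j - p j) := fun j hj => by
    have hji : j ≠ i := Finset.notMem_singleton.mp (Finset.mem_compl.mp hj)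
    simp [Function.update_of_ne hji]
  rw [Finset.prod_congr rfl fun j hj => (e2 j hj).1, Finset.prod_congr rfl fun j hj => (e2 j hj).2]
  generalize hP : ∏ j ∈ ({i} : Finset ι)ᶜ, (Nat.choose (r j) (p j) : B) * z j ^ (r j - p j) = P
  split_ifs with hp
  · rw [hp]
    simp only [Nat.choose_zero_right, Nat.cast_one, one_mul, Nat.sub_zero, zero_tsub, pow_succ']
    ring
  · obtain ⟨a, ha⟩ : ∃ a, p i = a + 1 := ⟨p i - 1, by omega⟩
    have hc := choose_succ_mul a (r i) (z i)
    rw [ha, Nat.add_sub_cancel]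
    linear_combination (c * P) * hc

theorem IsBinom.phi_mon {z : ι → B} [DecidableEq ι] {p : ι → ℕ} {c : B} {D : B →ₗ[A] B}
    (h : IsBinom z p c D) (q : ι → ℕ) :
    DiffOp.phi D (1 : B) (mon z q) = if p = q then c else 0 := by
  induction hn : ∑ i, q i generalizing p c D q with
  | zero =>
    have hq : q = 0 := funext fun i => Finset.sum_eq_zero_iff.mp hn i (Finset.mem_univ i)
    subst hq
    rw [mon_zero, Algebra.TensorProduct.one_def, DiffOp.phi_tmul, one_smul, one_smul]
    have := h 0
    simp only [Pi.zero_apply, pow_zero, Finset.prod_const_one, zero_tsub, mul_one] at this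
    rw [this]
    split_ifs with hp
    · subst hp; simp
    · obtain ⟨i, hi⟩ := Function.ne_iff.mp hp
      rw [Finset.prod_eq_zero (Finset.mem_univ i) (Nat.choose_eq_zero_of_lt (Nat.pos_of_ne_zero hi)),
        Nat.cast_zero, mul_zero]
  | succ n ih =>
    obtain ⟨i, hi⟩ : ∃ i, q i ≠ 0 := by
      by_contra h0
      push Not at h0
      simp [h0] at hn
    set q' := Function.update q i (q i - 1) with hq'
    have e : q = Pi.single i 1 + q' := funext fun j => by
      by_cases hj : j = i
      · subst hj; simp [hq']; omega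
      · simp [hq', hj]
    have hn' : ∑ j, q' j = n := by
      rw [e] at hn
      simp [Finset.sum_add_distrib] at hn
      omega
    have hd : dlt A B (z i) = DiffOp.delta A B (z i) := rfl
    rw [e, mon_add, mon_single, hd, ← DiffOp.phi_commutator, ih (h.commutator i) q' hn', ← e]
    by_cases h3 : p = q
    · subst h3; rw [if_pos rfl, if_neg hi, if_pos rfl]
    · rw [if_neg h3]
      split_ifs with h1 h2
      · rfl
      · exfalso
        apply h3
        funext j
        by_cases hj : j = i
        · subst hj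
          have := congrFun h1 j
          simp [hq'] at this
          omega
        · simpa [hq', hj] using congrFun h1 j
      · rfl

theorem phi_smul (D : B →ₗ[A] B) (c : B) (x : B ⊗[A] B) (t : B) :
    DiffOp.phi D t (c • x) = c • DiffOp.phi D t x := by
  rw [Algebra.smul_def, Algebra.TensorProduct.algebraMap_apply, DiffOp.phi_mul_tmul,
    Algebra.algebraMap_self_apply, one_smul]

/-- `phi D t` as a `B`-linear map for the first factor. -/
def phiB (D : B →ₗ[A] B) (t : B) : B ⊗[A] B →ₗ[B] B where
  toFun := DiffOp.phi D t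
  map_add' := map_add _
  map_smul' c x := phi_smul D c x t

@[simp] theorem phiB_apply (D : B →ₗ[A] B) (t : B) (x : B ⊗[A] B) : phiB D t x = DiffOp.phi D t x := rfl

theorem pow_le_ker_phiB {k N : ℕ} {D : B →ₗ[A] B} (hD : Diff16.IsDiffOpLE A B B B k D) (hk : k ≤ N)
    (t : B) : (I ^ (N + 1)).restrictScalars B ≤ LinearMap.ker (phiB D t) := fun x hx =>
  DiffOp.mem_annIdeal.mp ((DiffOp.le_iff_pow D).mp hD (Ideal.pow_le_pow_right (by omega) hx)) t

/-- Monomials are linearly independent modulo higher powers of `I`, in each degree. -/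
def GrInd (A : Type u) {B : Type u} [CommRing A] [CommRing B] [Algebra A B] (z : ι → B) : Prop :=
  ∀ (n : ℕ) (a : {p : ι → ℕ // ∑ i, p i = n} →₀ B),
    a.sum (fun p c => c • mon (A := A) z p.1) ∈ KaehlerDifferential.ideal A B ^ (n + 1) → a = 0

section ops

variable [DecidableEq ι] (z : ι → B)
  (hz : Submodule.span B (Set.range fun i => KaehlerDifferential.D A B (z i)) = ⊤)
  (Dp : (ι → ℕ) → (B →ₗ[A] B)) (hD : ∀ p, ∃ k : ℕ, Diff16.IsDiffOpLE A B B B k (Dp p))
  (hB : ∀ p, IsBinom z p 1 (Dp p))

include hz hD hB in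
theorem phiB_ops_eq_zero (p : ι → ℕ) {m : ℕ} (hm : ∑ i, p i < m) {x : B ⊗[A] B} (hx : x ∈ I ^ m) :
    phiB (Dp p) 1 x = 0 := by
  obtain ⟨k, hk⟩ := hD p
  refine pow_le_of_mon_mem z hz (W := LinearMap.ker (phiB (Dp p) 1)) (N := max m k) (by omega)
    (fun q hq _ => ?_) (pow_le_ker_phiB hk (le_max_right _ _) 1) hx
  rw [LinearMap.mem_ker, phiB_apply, (hB p).phi_mon, if_neg (by rintro rfl; omega)]

include hz hD hB in
theorem isDiffOpLE_ops (p : ι → ℕ) : Diff16.IsDiffOpLE A B B B (∑ i, p i) (Dp p) := by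
  refine (DiffOp.le_iff_pow _).mpr fun x hx => DiffOp.mem_annIdeal.mpr fun t => ?_
  have h := phiB_ops_eq_zero z hz Dp hD hB p (Nat.lt_succ_self _)
    (Ideal.mul_mem_left _ ((1 : B) ⊗ₜ[A] t) hx)
  rwa [phiB_apply, DiffOp.phi_mul_tmul, one_smul, smul_eq_mul, mul_one] at h

include hz hD hB in
theorem grInd_of_ops : GrInd A z := by
  intro n a ha
  ext q
  have h := phiB_ops_eq_zero z hz Dp hD hB q.1 (Nat.lt_succ_of_le q.2.le) ha
  rw [map_finsuppSum, Finsupp.sum] at h
  simp only [map_smul, phiB_apply, (hB q.1).phi_mon, smul_eq_mul] at h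
  rw [Finset.sum_eq_single q (fun p _ hp => by rw [if_neg (fun e => hp (Subtype.ext e.symm)), mul_zero])
    (fun hq => by rw [Finsupp.notMem_support_iff.mp hq, zero_mul]), if_pos rfl, mul_one] at h
  simpa using h

end ops

/-! ### Bases of principal parts -/

variable (z : ι → B)

theorem mkP_mon (m : ℕ) (p : ι → ℕ) :
    mkP m A B (mon z p) =
      ∏ i, (PP16.dn m A B (z i) - algebraMap B (PP16.P m A B) (z i)) ^ p i := by
  simp only [mon, map_prod, map_pow, mkP_dlt]

theorem mkP_smul (m : ℕ) (c : B) (x : B ⊗[A] B) : mkP m A B (c • x) = c • mkP m A B x := rfl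

theorem finite_le (m : ℕ) : Finite {p : ι → ℕ // ∑ i, p i ≤ m} := by
  classical
  refine Finite.of_injective (fun p i => (⟨p.1 i, Nat.lt_succ_of_le
    ((Finset.single_le_sum (fun j _ => (p.1 j).zero_le) (Finset.mem_univ i)).trans p.2)⟩ : Fin (m + 1)))
    fun p q h => Subtype.ext (funext fun i => congrArg Fin.val (congrFun h i))

theorem span_mkP_mon (hz : Submodule.span B (Set.range fun i => KaehlerDifferential.D A B (z i)) = ⊤)
    (m : ℕ) :
    ⊤ ≤ Submodule.span B (Set.range fun p : {p : ι → ℕ // ∑ i, p i ≤ m} => mkP m A B (mon z p.1)) := by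
  rintro x -
  obtain ⟨x, rfl⟩ := Ideal.Quotient.mk_surjective x
  let π : B ⊗[A] B →ₗ[B] PP16.P m A B :=
    { toFun := mkP m A B, map_add' := map_add _, map_smul' := fun c y => mkP_smul m c y }
  have key : (I ^ 0).restrictScalars B ≤ Submodule.comap π
      (Submodule.span B (Set.range fun p : {p : ι → ℕ // ∑ i, p i ≤ m} => mkP m A B (mon z p.1))) := by
    refine pow_le_of_mon_mem z hz (N := m) (by omega) (fun q _ hq => ?_) (fun y hy => ?_)
    · exact Submodule.subset_span ⟨⟨q, hq⟩, rfl⟩
    · show mkP m A B y ∈ Submodule.span B (Set.range fun p : {p : ι → ℕ // ∑ i, p i ≤ m} => mkP m A B (mon z p.1))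
      rw [show mkP m A B y = 0 from Ideal.Quotient.eq_zero_iff_mem.mpr hy]
      exact zero_mem _
  exact key (show x ∈ I ^ 0 by simp)

theorem GrInd.eq_zero {z : ι → B} (h : GrInd A z) {m : ℕ} (a : (ι → ℕ) →₀ B)
    (ha : ∀ p ∈ a.support, ∑ i, p i ≤ m)
    (hs : a.sum (fun p c => c • mon (A := A) z p) ∈ I ^ (m + 1)) : a = 0 := by
  classical
  suffices H : ∀ d p, ∑ i, p i = d → a p = 0 from Finsupp.ext fun p => H _ p rfl
  intro d
  induction d using Nat.strong_induction_on with
  | _ d ih =>
    by_cases hd : m < d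
    · intro p hp
      by_contra hne
      have := ha p (Finsupp.mem_support_iff.mpr hne)
      omega
    have h1 : (a.filter fun p => ∑ i, p i = d).sum (fun p c => c • mon (A := A) z p) ∈ I ^ (d + 1) := by
      have h2 : (a.filter fun p => ¬ ∑ i, p i = d).sum (fun p c => c • mon (A := A) z p) ∈ I ^ (d + 1) := by
        refine Ideal.sum_mem _ fun p hp => ?_
        rw [Finsupp.support_filter, Finset.mem_filter, Finsupp.mem_support_iff] at hp
        have : d < ∑ i, p i := by
          rcases lt_trichotomy (∑ i, p i) d with h' | h' | h'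
          · exact absurd (ih _ h' p rfl) hp.1
          · exact absurd h' hp.2
          · exact h'
        exact smul_mem_ideal _ _ (Ideal.pow_le_pow_right this (mon_mem z p))
      rw [← Finsupp.filter_add_filter_not a (fun p => ∑ i, p i = d),
        Finsupp.sum_add_index' (h := fun p c => c • mon (A := A) z p) (fun p => zero_smul B _)
          (fun p c c' => add_smul c c' _)] at hs
      exact (Ideal.add_mem_iff_left _ h2).mp (Ideal.pow_le_pow_right (by omega) hs)
    intro p hp
    have h3 := h d (a.subtypeDomain fun p => ∑ i, p i = d) (by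
      convert h1 using 1
      rw [Finsupp.sum, Finsupp.sum, Finsupp.support_subtypeDomain, Finsupp.support_filter,
        ← Finset.sum_subtype_eq_sum_filter]
      exact Finset.sum_congr rfl fun q _ => by
        rw [Finsupp.filter_apply_pos (fun p => ∑ i, p i = d) a q.2, Finsupp.subtypeDomain_apply])
    simpa using DFunLike.congr_fun h3 ⟨p, hp⟩

theorem exists_basis (hz : Submodule.span B (Set.range fun i => KaehlerDifferential.D A B (z i)) = ⊤)
    (h : GrInd A z) (m : ℕ) :
    ∃ b : Module.Basis {p : ι → ℕ // ∑ i, p i ≤ m} B (PP16.P m A B),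
      ∀ p, b p = ∏ i, (PP16.dn m A B (z i) - algebraMap B (PP16.P m A B) (z i)) ^ (p.1 i) := by
  classical
  have li : LinearIndependent B fun p : {p : ι → ℕ // ∑ i, p i ≤ m} => mkP m A B (mon z p.1) := by
    refine linearIndependent_iff.mpr fun l hl => ?_
    have := h.eq_zero (m := m) (l.mapDomain Subtype.val) (fun p hp => by
      obtain ⟨q, -, rfl⟩ := Finset.mem_image.mp (Finsupp.mapDomain_support hp)
      exact q.2) (by
      rw [Finsupp.sum_mapDomain_index (h := fun p c => c • mon (A := A) z p) (fun p => zero_smul B _) (fun p c c' => add_smul c c' _)]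
      refine Ideal.Quotient.eq_zero_iff_mem.mp ?_
      rw [map_finsuppSum]
      exact hl)
    exact Finsupp.mapDomain_injective Subtype.val_injective (this.trans Finsupp.mapDomain_zero.symm)
  exact ⟨Module.Basis.mk li (span_mkP_mon z hz m), fun p => by
    rw [Module.Basis.mk_apply, mkP_mon]⟩

/-- `1 ⊗ ∏ z^q` in terms of monomials. -/
theorem one_tmul_prod_pow [DecidableEq ι] (q : ι → ℕ) :
    (1 : B) ⊗ₜ[A] (∏ i, z i ^ q i) =
      ∑ x ∈ Fintype.piFinset fun i => Finset.range (q i + 1),
        (∏ i, (z i ^ (q i - x i) * (Nat.choose (q i) (x i) : B))) • mon z x := by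
  have e : (1 : B) ⊗ₜ[A] (∏ i, z i ^ q i) =
      ∏ i, (dlt A B (z i) + algebraMap B (B ⊗[A] B) (z i)) ^ q i := by
    rw [show (1 : B) ⊗ₜ[A] (∏ i, z i ^ q i) =
      (Algebra.TensorProduct.includeRight : B →ₐ[A] B ⊗[A] B) (∏ i, z i ^ q i) from rfl, map_prod]
    refine Finset.prod_congr rfl fun i _ => ?_
    rw [map_pow, Algebra.TensorProduct.algebraMap_apply, Algebra.algebraMap_self_apply, dlt,
      sub_add_cancel]
    rfl
  rw [e, Finset.prod_congr rfl fun i _ => add_pow (dlt A B (z i)) (algebraMap B _ (z i)) (q i),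
    Finset.prod_univ_sum]
  refine Finset.sum_congr rfl fun x _ => ?_
  rw [Algebra.smul_def, map_prod, mon, ← Finset.prod_mul_distrib]
  refine Finset.prod_congr rfl fun i _ => ?_
  rw [map_mul, map_pow, map_natCast]
  ring

/-- The coordinate operators of a basis of monomials. -/
theorem exists_ops [DecidableEq ι] (hz : Submodule.span B (Set.range fun i => KaehlerDifferential.D A B (z i)) = ⊤)
    (h : GrInd A z) :
    ∃ Dp : (ι → ℕ) → (B →ₗ[A] B), (∀ p, Diff16.IsDiffOpLE A B B B (∑ i, p i) (Dp p)) ∧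
      ∀ p, IsBinom z p 1 (Dp p) := by
  choose b hb using fun m => exists_basis z hz h m
  let co : ∀ p : ι → ℕ, PP16.P (∑ i, p i) A B →ₗ[B] B := fun p => (b _).coord ⟨p, le_rfl⟩
  let Dp : (ι → ℕ) → (B →ₗ[A] B) := fun p =>
    ((co p).restrictScalars A).comp (PP16.dn (∑ i, p i) A B).toLinearMap
  have hphi : ∀ p x t, DiffOp.phi (Dp p) t x = co p (mkP _ A B (x * (1 ⊗ₜ[A] t))) := fun p x t => by
    induction x using TensorProduct.induction_on with
    | zero => simp
    | tmul a c =>
      rw [DiffOp.phi_tmul, Algebra.TensorProduct.tmul_mul_tmul, mul_one, mkP_tmul, ← Algebra.smul_def]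
      exact (LinearMap.map_smul (co p) a _).symm
    | add x y hx hy => rw [map_add, add_mul, map_add, map_add, hx, hy]
  refine ⟨Dp, fun p => (DiffOp.le_iff_pow _).mpr fun x hx => DiffOp.mem_annIdeal.mpr fun t => ?_,
    fun p q => ?_⟩
  · rw [hphi, show mkP _ A B (x * (1 ⊗ₜ[A] t)) = 0 from
      Ideal.Quotient.eq_zero_iff_mem.mpr (Ideal.mul_mem_right _ _ hx), map_zero]
  · show co p (PP16.dn _ A B (∏ i, z i ^ q i)) = _
    rw [dn_apply, one_tmul_prod_pow, map_sum, map_sum, one_mul]
    simp only [mkP_smul, map_smul, smul_eq_mul]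
    have key : ∀ x, co p (mkP _ A B (mon z x)) = if x = p then 1 else 0 := fun x => by
      by_cases hx : ∑ i, x i ≤ ∑ i, p i
      · rw [mkP_mon, ← hb _ ⟨x, hx⟩]
        show (b _).coord ⟨p, le_rfl⟩ _ = _
        rw [Module.Basis.coord_apply, Module.Basis.repr_self, Finsupp.single_apply]
        simp only [Subtype.mk.injEq]
      · rw [show mkP _ A B (mon z x) = 0 from Ideal.Quotient.eq_zero_iff_mem.mpr
          (Ideal.pow_le_pow_right (by omega) (mon_mem z x)), map_zero, if_neg (by rintro rfl; exact hx le_rfl)]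
    simp only [key, mul_ite, mul_one, mul_zero, Finset.sum_ite_eq']
    by_cases hp : p ∈ Fintype.piFinset fun i => Finset.range (q i + 1)
    · rw [if_pos hp, Finset.prod_mul_distrib, Nat.cast_prod, mul_comm]
    · rw [if_neg hp]
      rw [Fintype.mem_piFinset] at hp
      push Not at hp
      obtain ⟨i, hi⟩ := hp
      rw [Finset.mem_range] at hi
      rw [Finset.prod_eq_zero (f := fun i => Nat.choose (q i) (p i)) (Finset.mem_univ i)
        (Nat.choose_eq_zero_of_lt (by omega)), Nat.cast_zero, zero_mul]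

end Groth.Agent.PP16Lib

end
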