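import Groth.Agent.PP16Lib.GrJ
import Groth.Prelude.Def_CAlgX
import Mathlib.RingTheory.MvPolynomial.Homogeneous
import Mathlib.Data.Finsupp.Multiset

/-!
Quasi-regular sequences versus freeness of `J/J²` and bijectivity of `Sym^n(J/J²) → J^n/J^(n+1)`.
-/

set_option autoImplicit false
set_option linter.unusedSectionVars false

universe u v

open MvPolynomial

noncomputable section

namespace Groth.Agent.PP16Lib

theorem sum_map_single {Λ : Type u} [DecidableEq Λ] (l : List Λ) :
    (l.map fun a => Finsupp.single a 1).sum = Multiset.toFinsupp (l : Multiset Λ) := by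
  induction l with
  | nil => simp
  | cons a l ih => rw [List.map_cons, List.sum_cons, ih, ← Multiset.cons_coe, ← Multiset.singleton_add, map_add,
      Multiset.toFinsupp_singleton]

theorem exists_cf {Λ : Type u} {n : ℕ} (d : Λ →₀ ℕ) (hd : Finsupp.degree d = n) :
    ∃ g : ULift.{u} (Fin n) → Λ, cf g = d := by
  classical
  have hlen : (Finsupp.toMultiset d).toList.length = n := by
    rw [Multiset.length_toList, Finsupp.card_toMultiset, ← hd]
    rfl
  subst hlen
  refine ⟨fun j => (Finsupp.toMultiset d).toList[(j.down : ℕ)], ?_⟩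
  rw [cf, ← Equiv.ulift.symm.sum_comp]
  show ∑ i : Fin _, Finsupp.single (Finsupp.toMultiset d).toList[(i : ℕ)] 1 = d
  rw [← List.sum_ofFn, List.ofFn_getElem_eq_map (Finsupp.toMultiset d).toList fun a => Finsupp.single a 1, sum_map_single, Multiset.coe_toList,
    Finsupp.toMultiset_toFinsupp]

variable {R : Type u} [CommRing R] (J : Ideal R) {Λ : Type u} (x : Λ → J)

/-- Linear combinations of the classes of `x`. -/
def classMap : (Λ →₀ R ⧸ J) →ₗ[R] J.Cotangent :=
  (Finsupp.linearCombination (R ⧸ J) fun a => J.toCotangent (x a)).restrictScalars R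

theorem classMap_single (a : Λ) : classMap J x (Finsupp.single a 1) = J.toCotangent (x a) := by
  simp [classMap]

theorem classMap_surjective (hx : Ideal.span (Set.range fun a => (x a : R)) = J) :
    Function.Surjective (classMap J x) := by
  rw [← LinearMap.range_eq_top, eq_top_iff]
  rintro z -
  obtain ⟨y, rfl⟩ := J.toCotangent_surjective z
  have hy : y ∈ Submodule.span R (Set.range x) := by
    obtain ⟨c, hc⟩ := (Finsupp.mem_span_range_iff_exists_finsupp).mp ((congrArg (y.1 ∈ ·) hx).mpr y.2)
    refine Finsupp.mem_span_range_iff_exists_finsupp.mpr ⟨c, Subtype.ext ?_⟩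
    rw [← hc, Finsupp.sum, Finsupp.sum, Submodule.coe_sum]
    rfl
  induction hy using Submodule.span_induction with
  | mem z hz =>
    obtain ⟨a, rfl⟩ := hz
    exact ⟨_, classMap_single J x a⟩
  | zero => exact ⟨0, by simp⟩
  | add a b _ _ ha hb =>
    obtain ⟨a', ha'⟩ := ha
    obtain ⟨b', hb'⟩ := hb
    exact ⟨a' + b', by rw [map_add, map_add, ha', hb']⟩
  | smul c a _ ha =>
    obtain ⟨a', ha'⟩ := ha
    exact ⟨c • a', by rw [map_smul, map_smul, ha']⟩

theorem eval_mem_pow {P : MvPolynomial Λ R} {n : ℕ} (hP : P.IsHomogeneous n) :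
    eval (fun a => (x a : R)) P ∈ J ^ n := by
  rw [eval_eq]
  refine Ideal.sum_mem _ fun m hm => Ideal.mul_mem_left _ _ ?_
  rw [hP.degree_eq_sum_deg_support hm, ← Finset.prod_pow_eq_pow_sum]
  exact Ideal.prod_mem_prod fun i _ => Ideal.pow_mem_pow (x i).2 _

theorem eval_monomial_cf {κ : Type u} [Fintype κ] (g : κ → Λ) (c : R) :
    eval (fun a => (x a : R)) (monomial (cf g) c) = c * ∏ j, (x (g j) : R) := by
  rw [show monomial (cf g) c = C c * monomial (cf g) 1 by rw [C_mul_monomial, mul_one], map_mul, eval_C, cf,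
    MvPolynomial.monomial_sum_one, map_prod]
  exact congrArg _ (Finset.prod_congr rfl fun j _ => by rw [← MvPolynomial.X, eval_X])

/-- Every symmetric tensor is given by a homogeneous polynomial, compatibly with `toPolyQ` and `canonJ`. -/
theorem exists_poly {κ : Type u} [Fintype κ] (s : SymmetricPower R κ (Λ →₀ R ⧸ J)) :
    ∃ P : MvPolynomial Λ R, P.IsHomogeneous (Fintype.card κ) ∧
      toPolyQ R (R ⧸ J) κ Λ s = MvPolynomial.map (Ideal.Quotient.mk J) P ∧
      ∃ h, canonJ J κ (symMap κ (classMap J x) s) =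
        (Submodule.Quotient.mk ⟨eval (fun a => (x a : R)) P, h⟩ : PP16.grJ R J (Fintype.card κ)) := by
  obtain ⟨a, rfl⟩ := exists_combination (B := R) (C := R ⧸ J) Ideal.Quotient.mk_surjective s
  refine ⟨∑ g ∈ a.support, monomial (cf g) (a g), IsHomogeneous.sum _ _ _ fun g _ => ?_, ?_, ?_⟩
  · exact isHomogeneous_monomial _ (degree_cf g)
  · rw [map_finsuppSum, map_sum]
    refine Finset.sum_congr rfl fun g _ => ?_
    show toPolyQ R (R ⧸ J) κ Λ (a g • _) = _
    rw [map_smul, toPolyQ_single, map_monomial, smul_monomial, ← Algebra.algebraMap_eq_smul_one]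
    rfl
  · have hmem : eval (fun a => (x a : R)) (∑ g ∈ a.support, monomial (cf g) (a g)) ∈ J ^ Fintype.card κ :=
      eval_mem_pow J x (IsHomogeneous.sum _ _ _ fun g _ => isHomogeneous_monomial _ (degree_cf g))
    refine ⟨hmem, ?_⟩
    rw [map_finsuppSum, map_finsuppSum, Finsupp.sum]
    simp only [map_smul, symMap_tprod, classMap_single, canonJ_tprod, PP16.zetaJ, ← Submodule.Quotient.mk_smul]
    rw [← Submodule.mkQ_apply]
    simp only [← Submodule.mkQ_apply]
    rw [← map_sum]
    refine congrArg _ (Subtype.ext ?_)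
    simp only [Submodule.coe_sum, map_sum]
    exact Finset.sum_congr rfl fun g _ => (eval_monomial_cf J x g (a g)).symm

theorem injective_of_coeff {κ : Type u} [Fintype κ] [Nonempty κ]
    (hq : ∀ P : MvPolynomial Λ R, P.IsHomogeneous (Fintype.card κ) →
      eval (fun a => (x a : R)) P ∈ J ^ (Fintype.card κ + 1) → ∀ d, P.coeff d ∈ J)
    (s : SymmetricPower R κ (Λ →₀ R ⧸ J)) (h : canonJ J κ (symMap κ (classMap J x) s) = 0) : s = 0 := by
  obtain ⟨P, hP, hpoly, hm, hcan⟩ := exists_poly J x s
  rw [hcan, Submodule.Quotient.mk_eq_zero] at h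
  refine toPolyQ_injective (B := R) (C := R ⧸ J) Ideal.Quotient.mk_surjective (Eq.trans ?_ (map_zero _).symm)
  ext d
  rw [hpoly, coeff_map, coeff_zero]
  exact Ideal.Quotient.eq_zero_iff_mem.mpr (hq P hP h d)

theorem coeff_of_injective {n : ℕ} (hn : n ≠ 0) (P : MvPolynomial Λ R) (hP : P.IsHomogeneous n)
    (he : eval (fun a => (x a : R)) P ∈ J ^ (n + 1))
    (hinj : ∀ s : SymmetricPower R (ULift.{u} (Fin n)) (Λ →₀ R ⧸ J),
      canonJ J _ (symMap _ (classMap J x) s) = 0 → s = 0) (d : Λ →₀ ℕ) : P.coeff d ∈ J := by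
  classical
  haveI : Nonempty (Fin n) := ⟨⟨0, Nat.pos_of_ne_zero hn⟩⟩
  choose g hg using fun e : {e : Λ →₀ ℕ // e ∈ P.support} => exists_cf (n := n) e.1
    (by
      rw [Finsupp.degree_eq_weight_one]
      exact hP (mem_support_iff.mp e.2))
  let s : SymmetricPower R (ULift.{u} (Fin n)) (Λ →₀ R ⧸ J) :=
    ∑ e : {e : Λ →₀ ℕ // e ∈ P.support}, P.coeff e.1 • SymmetricPower.tprod R fun j => Finsupp.single (g e j) 1
  have hpoly : toPolyQ R (R ⧸ J) _ Λ s = MvPolynomial.map (Ideal.Quotient.mk J) P := by
    conv_rhs => rw [P.as_sum, ← Finset.sum_coe_sort]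
    rw [map_sum, map_sum]
    refine Finset.sum_congr rfl fun e _ => ?_
    rw [map_smul, toPolyQ_single, hg, map_monomial, smul_monomial, ← Algebra.algebraMap_eq_smul_one]
    rfl
  have hs : s = 0 := hinj s (by
    simp only [s, map_sum, map_smul, symMap_tprod, classMap_single, canonJ_tprod, PP16.zetaJ,
      ← Submodule.Quotient.mk_smul]
    simp only [← Submodule.mkQ_apply]
    rw [← map_sum, Submodule.mkQ_apply, Submodule.Quotient.mk_eq_zero, Submodule.mem_comap, Submodule.subtype_apply]
    simp only [Submodule.coe_sum, Fintype.card_ulift, Fintype.card_fin]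
    refine (congrArg (· ∈ J ^ (n + 1)) ?_).mp he
    conv_lhs => rw [P.as_sum, ← Finset.sum_coe_sort, map_sum]
    refine Finset.sum_congr rfl fun e _ => ?_
    conv_lhs => rw [← hg e, eval_monomial_cf, hg e]
    rfl)
  have h := congrArg (MvPolynomial.coeff d) hpoly
  rw [hs, map_zero, coeff_zero, coeff_map] at h
  exact Ideal.Quotient.eq_zero_iff_mem.mp h.symm

theorem classMap_injective (hinj : ∀ (κ : Type u) [Fintype κ] [Nonempty κ]
      (s : SymmetricPower R κ (Λ →₀ R ⧸ J)), canonJ J κ (symMap κ (classMap J x) s) = 0 → s = 0) :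
    Function.Injective (classMap J x) := by
  rw [injective_iff_map_eq_zero]
  intro y hy
  have h := hinj PUnit (SymmetricPower.tprod R fun _ => y) (by
    rw [symMap_tprod, MultilinearMap.map_coord_zero _ PUnit.unit hy, map_zero])
  have h2 := congrArg (toPolyQ R (R ⧸ J) PUnit Λ) h
  rw [toPolyQ_tprod, map_zero, Fintype.prod_unique] at h2
  refine Finsupp.ext fun a => ?_
  have h3 := congrArg (MvPolynomial.coeff (Finsupp.single a 1)) h2
  rw [linForm, Finsupp.linearCombination_apply, Finsupp.sum, coeff_sum, coeff_zero] at h3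
  classical
  simp only [coeff_smul, coeff_X', smul_eq_mul, mul_ite, mul_one, mul_zero, Finsupp.single_left_inj one_ne_zero] at h3
  simpa [Finset.sum_ite_eq'] using h3

/-- Quasi-regularity says exactly that the classes form a basis and the symmetric algebra maps bijectively. -/
theorem forall_coeff_iff (hx : Ideal.span (Set.range fun a => (x a : R)) = J) :
    (∀ (n : ℕ) (P : MvPolynomial Λ R), P.IsHomogeneous n →
      eval (fun a => (x a : R)) P ∈ J ^ (n + 1) → ∀ d, P.coeff d ∈ J) ↔
    Function.Bijective (classMap J x) ∧ PP16.SymGrBijective R J := by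
  constructor
  · intro h
    have hinj : ∀ (κ : Type u) [Fintype κ] [Nonempty κ] (s : SymmetricPower R κ (Λ →₀ R ⧸ J)),
        canonJ J κ (symMap κ (classMap J x) s) = 0 → s = 0 := fun κ _ _ => injective_of_coeff J x (h _)
    refine ⟨⟨classMap_injective J x hinj, classMap_surjective J x hx⟩, (symGrBijective_iff J).mpr fun κ _ _ => ?_⟩
    let e := LinearEquiv.ofBijective _ ⟨classMap_injective J x hinj, classMap_surjective J x hx⟩
    rw [injective_iff_map_eq_zero]
    intro y hy
    have hy' : symMap κ (classMap J x) (symMap κ e.symm.toLinearMap y) = y :=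
      symMap_symMap κ (classMap J x) e.symm.toLinearMap (LinearMap.ext fun z => e.apply_symm_apply z) y
    rw [← hy'] at hy ⊢
    rw [hinj κ _ hy, map_zero]
  · rintro ⟨hb, hG⟩ n P hP he d
    rcases eq_or_ne n 0 with rfl | hn
    · by_cases hd : P.coeff d = 0
      · rw [hd]; exact zero_mem _
      obtain rfl : d = 0 := by
        have h := hP hd
        exact (Finsupp.degree_eq_zero_iff d).mp (by rw [Finsupp.degree_eq_weight_one]; exact h)
      rw [(totalDegree_eq_zero_iff_eq_C).mp (Nat.eq_zero_of_le_zero hP.totalDegree_le), eval_C, zero_add,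
        pow_one] at he
      exact he
    · refine coeff_of_injective J x hn P hP he (fun s hs => ?_) d
      haveI : Nonempty (Fin n) := ⟨⟨0, Nat.pos_of_ne_zero hn⟩⟩
      let e := LinearEquiv.ofBijective _ hb
      have h := (injective_iff_map_eq_zero _).mp ((symGrBijective_iff J).mp hG _) _ hs
      rw [← symMap_symMap _ e.symm.toLinearMap (classMap J x) (LinearMap.ext fun z => e.symm_apply_apply z) s, h,
        map_zero]

theorem isQuasiRegular_iff_bijective {r : ℕ} (f : Fin r → R) (J : Ideal R)
    (hJ : Ideal.span (Set.range f) = J) :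
    CAlgX.IsQuasiRegular f ↔ Function.Bijective (classMap J fun a : ULift.{u} (Fin r) =>
      (⟨f a.down, hJ ▸ Ideal.subset_span ⟨a.down, rfl⟩⟩ : J)) ∧ PP16.SymGrBijective R J := by
  subst hJ
  rw [← forall_coeff_iff _ _ (congrArg Ideal.span (Equiv.ulift.surjective.range_comp f))]
  constructor
  · intro h n P hP he d
    have h2 := h n (rename ULift.down P) hP.rename_isHomogeneous (by rwa [eval_rename]) (d.mapDomain ULift.down)
    rwa [coeff_rename_mapDomain _ ULift.down_injective] at h2
  · intro h n P hP he d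
    have h2 := h n (rename ULift.up P) hP.rename_isHomogeneous (by rwa [eval_rename]) (d.mapDomain ULift.up)
    rwa [coeff_rename_mapDomain _ ULift.up_injective] at h2

end Groth.Agent.PP16Lib

end
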