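import Groth.Agent.PP16Lib.FreeSym

/-!
For differentially smooth algebras the principal parts are projective and `I^n/I^(n+1) → P^n` splits.
-/

set_option autoImplicit false
set_option linter.unusedSectionVars false

universe u

open scoped TensorProduct

noncomputable section

namespace Groth.Agent.PP16Lib

variable (A B : Type u) [CommRing A] [CommRing B] [Algebra A B]

local notation "I" => KaehlerDifferential.ideal A B

/-- `B ⊗ B → P^m` as a `B`-linear map. -/
def mkPL (m : ℕ) : B ⊗[A] B →ₗ[B] PP16.P m A B :=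
  (Ideal.Quotient.mkₐ B (I ^ (m + 1))).toLinearMap

/-- `I^m/I^(m+1) → P^m`. -/
def incl (m : ℕ) : PP16.grI A B m →ₗ[B] PP16.P m A B :=
  Submodule.liftQ _ ((mkPL A B m).comp ((I ^ m).restrictScalars B).subtype) fun _ hx =>
    Ideal.Quotient.eq_zero_iff_mem.mpr hx

theorem incl_mk (m : ℕ) (x : ((I ^ m).restrictScalars B)) :
    incl A B m (Submodule.Quotient.mk x) = mkP m A B (x : B ⊗[A] B) := rfl

theorem incl_injective (m : ℕ) : Function.Injective (incl A B m) := by
  rw [← LinearMap.ker_eq_bot, LinearMap.ker_eq_bot']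
  intro x hx
  obtain ⟨x, rfl⟩ := Submodule.Quotient.mk_surjective _ x
  rw [Submodule.Quotient.mk_eq_zero]
  exact Ideal.Quotient.eq_zero_iff_mem.mp hx

/-- `P^(m+1) → P^m`. -/
def proj (m : ℕ) : PP16.P (m + 1) A B →ₗ[B] PP16.P m A B :=
  (Ideal.Quotient.factorₐ B (show I ^ (m + 1 + 1) ≤ I ^ (m + 1) from
    Ideal.pow_le_pow_right (Nat.le_succ (m + 1)))).toLinearMap

theorem proj_mk (m : ℕ) (x : B ⊗[A] B) : proj A B m (mkP (m + 1) A B x) = mkP m A B x := rfl

theorem proj_surjective (m : ℕ) : Function.Surjective (proj A B m) := fun y => by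
  obtain ⟨x, rfl⟩ := Ideal.Quotient.mk_surjective y
  exact ⟨mkP (m + 1) A B x, rfl⟩

theorem ker_proj_le (m : ℕ) : LinearMap.ker (proj A B m) ≤ LinearMap.range (incl A B (m + 1)) := by
  intro y hy
  obtain ⟨x, rfl⟩ := Ideal.Quotient.mk_surjective y
  exact ⟨Submodule.Quotient.mk ⟨x, Ideal.Quotient.eq_zero_iff_mem.mp hy⟩, rfl⟩

variable {A B}

theorem exists_retraction_of_projective (m : ℕ) [Module.Projective B (PP16.P m A B)] :
    ∃ (σ : PP16.P m A B →ₗ[B] PP16.P (m + 1) A B) (ρ : PP16.P (m + 1) A B →ₗ[B] PP16.grI A B (m + 1)),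
      ρ.comp (incl A B (m + 1)) = LinearMap.id ∧
        ∀ y, y = incl A B (m + 1) (ρ y) + σ (proj A B m y) := by
  obtain ⟨σ, hσ⟩ := Module.projective_lifting_property (proj A B m) LinearMap.id (proj_surjective A B m)
  have hmem : ∀ y, y - σ (proj A B m y) ∈ LinearMap.range (incl A B (m + 1)) := fun y =>
    ker_proj_le A B m (by
      rw [LinearMap.mem_ker, map_sub, show proj A B m (σ (proj A B m y)) = proj A B m y from
        LinearMap.congr_fun hσ _, sub_self])
  let e := LinearEquiv.ofInjective (incl A B (m + 1)) (incl_injective A B (m + 1))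
  refine ⟨σ, e.symm.toLinearMap.comp ((LinearMap.id - σ.comp (proj A B m)).codRestrict _ hmem),
    LinearMap.ext fun x => ?_, fun y => ?_⟩
  · apply incl_injective A B (m + 1)
    show incl A B (m + 1) (e.symm ⟨_, hmem _⟩) = incl A B (m + 1) x
    rw [← LinearEquiv.ofInjective_apply (incl A B (m + 1)) (h := incl_injective A B (m + 1)) (e.symm _),
      LinearEquiv.apply_symm_apply]
    show incl A B (m + 1) x - σ (proj A B m (incl A B (m + 1) x)) = incl A B (m + 1) x
    obtain ⟨x, rfl⟩ := Submodule.Quotient.mk_surjective _ x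
    rw [incl_mk, proj_mk, show mkP m A B (x : B ⊗[A] B) = 0 from Ideal.Quotient.eq_zero_iff_mem.mpr x.2,
      map_zero, sub_zero]
  · show y = incl A B (m + 1) (e.symm ⟨_, hmem y⟩) + σ (proj A B m y)
    rw [← LinearEquiv.ofInjective_apply (incl A B (m + 1)) (h := incl_injective A B (m + 1)) (e.symm _),
      LinearEquiv.apply_symm_apply]
    show y = y - σ (proj A B m y) + σ (proj A B m y)
    rw [sub_add_cancel]

theorem incl_zero_bijective : Function.Bijective (incl A B 0) :=
  ⟨incl_injective A B 0, fun y => by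
    obtain ⟨x, rfl⟩ := Ideal.Quotient.mk_surjective y
    exact ⟨Submodule.Quotient.mk ⟨x, show x ∈ I ^ 0 by simp⟩, rfl⟩⟩

theorem grI_projective (h : PP16.IsDiffSmooth A B) (m : ℕ) : Module.Projective B (PP16.grI A B m) := by
  obtain ⟨hP, hinj⟩ := (isDiffSmooth_iff A B).mp h
  obtain ⟨κ, _, rfl⟩ : ∃ (κ : Type u) (_ : Fintype κ), Fintype.card κ = m :=
    ⟨ULift (Fin m), inferInstance, by simp⟩
  haveI := projective_symmetricPower B κ (KaehlerDifferential A B)
  exact Module.Projective.of_equiv (LinearEquiv.ofBijective (canon A B κ) ⟨hinj κ, canon_surjective A B κ⟩)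

theorem P_projective (h : PP16.IsDiffSmooth A B) (m : ℕ) : Module.Projective B (PP16.P m A B) := by
  induction m with
  | zero =>
    haveI := grI_projective h 0
    exact Module.Projective.of_equiv (LinearEquiv.ofBijective (incl A B 0) incl_zero_bijective)
  | succ m ih =>
    haveI := grI_projective h (m + 1)
    obtain ⟨σ, ρ, -, hy⟩ := exists_retraction_of_projective (A := A) (B := B) m
    exact Module.Projective.of_split (ρ.prod (proj A B m))
      ((incl A B (m + 1)).coprod σ) (LinearMap.ext fun y => (hy y).symm)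

theorem exists_retraction (h : PP16.IsDiffSmooth A B) (m : ℕ) :
    ∃ ρ : PP16.P m A B →ₗ[B] PP16.grI A B m, ρ.comp (incl A B m) = LinearMap.id := by
  cases m with
  | zero =>
    exact ⟨(LinearEquiv.ofBijective (incl A B 0) incl_zero_bijective).symm.toLinearMap,
      LinearMap.ext fun x => (LinearEquiv.ofBijective (incl A B 0) incl_zero_bijective).symm_apply_apply x⟩
  | succ m =>
    haveI := P_projective h m
    obtain ⟨σ, ρ, h1, -⟩ := exists_retraction_of_projective (A := A) (B := B) m
    exact ⟨ρ, h1⟩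

end Groth.Agent.PP16Lib

end
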