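import Groth.Agent.PP16Lib.Graded
import Mathlib.LinearAlgebra.PiTensorProduct.Basic
import Mathlib.RingTheory.MvPolynomial.Basic
import Mathlib.Algebra.Module.Projective
import Mathlib.LinearAlgebra.Multilinear.Basic

/-!
The canonical maps `Sym^n(Ω) → I^n/I^(n+1)`, and differential smoothness in terms of monomials.
-/

set_option autoImplicit false
set_option linter.unusedSectionVars false

universe u v w

open scoped TensorProduct

noncomputable section

namespace Groth.Agent.PP16Lib

section sym

variable {R : Type u} [CommRing R] {κ : Type u} {M : Type v} [AddCommGroup M] [Module R M]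
  {N : Type w} [AddCommGroup N] [Module R N]

/-- A symmetric multilinear map induces a linear map on the symmetric power. -/
def symLift (g : MultilinearMap R (fun _ : κ => M) N)
    (hg : ∀ (e : Equiv.Perm κ) (v : κ → M), g (fun i => v (e i)) = g v) :
    SymmetricPower R κ M →ₗ[R] N where
  toFun := AddCon.lift _ (PiTensorProduct.lift g).toAddMonoidHom (AddCon.addConGen_le.mpr (fun x y h => by
    obtain ⟨e, f⟩ := h
    show PiTensorProduct.lift g (PiTensorProduct.tprod R f) =
      PiTensorProduct.lift g (PiTensorProduct.tprod R fun i => f (e i))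
    rw [PiTensorProduct.lift.tprod, PiTensorProduct.lift.tprod, hg]))
  map_add' x y := map_add _ x y
  map_smul' r x := AddCon.induction_on x fun x => map_smul (PiTensorProduct.lift g) r x

theorem symLift_tprod (g : MultilinearMap R (fun _ : κ => M) N)
    (hg : ∀ (e : Equiv.Perm κ) (v : κ → M), g (fun i => v (e i)) = g v) (v : κ → M) :
    symLift g hg (SymmetricPower.tprod R v) = g v :=
  PiTensorProduct.lift.tprod v

/-- Products of generators span the symmetric power. -/
theorem span_tprod_of_span [Finite κ] {s : Set M} (hs : Submodule.span R s = ⊤) :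
    Submodule.span R (SymmetricPower.tprod R '' {v : κ → M | ∀ i, v i ∈ s}) = ⊤ := by
  classical
  haveI := Fintype.ofFinite κ
  rw [eq_top_iff, ← SymmetricPower.span_tprod_eq_top (R := R) (ι := κ) (M := M), Submodule.span_le]
  rintro _ ⟨v, rfl⟩
  suffices ∀ (t : Finset κ) (v : κ → M), (∀ i ∉ t, v i ∈ s) →
      SymmetricPower.tprod R v ∈ Submodule.span R (SymmetricPower.tprod R '' {v : κ → M | ∀ i, v i ∈ s}) from
    this Finset.univ v fun i hi => absurd (Finset.mem_univ i) hi
  intro t
  induction t using Finset.induction_on with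
  | empty => exact fun v hv => Submodule.subset_span ⟨v, fun i => hv i (Finset.notMem_empty i), rfl⟩
  | insert a t ha ih =>
    intro v hv
    have key : ∀ m ∈ Submodule.span R s, SymmetricPower.tprod R (Function.update v a m) ∈
        Submodule.span R (SymmetricPower.tprod R '' {v : κ → M | ∀ i, v i ∈ s}) := by
      intro m hm
      induction hm using Submodule.span_induction with
      | mem x hx =>
        refine ih _ fun i hi => ?_
        by_cases hia : i = a
        · subst hia; rwa [Function.update_self]
        · rw [Function.update_of_ne hia]; exact hv i (by simp [hia, hi])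
      | zero =>
        rw [MultilinearMap.map_coord_zero _ a (Function.update_self a 0 v)]
        exact zero_mem _
      | add x y _ _ hx hy => rw [MultilinearMap.map_update_add]; exact add_mem hx hy
      | smul c x _ hx => rw [MultilinearMap.map_update_smul]; exact Submodule.smul_mem _ c hx
    simpa using key (v a) (hs ▸ Submodule.mem_top)

theorem prod_mem_pow' {S : Type*} [CommRing S] (J : Ideal S) {ι : Type*} (t : Finset ι) (x : ι → S)
    (hx : ∀ i ∈ t, x i ∈ J) : ∏ i ∈ t, x i ∈ J ^ t.card := by
  classical
  induction t using Finset.induction_on with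
  | empty => simp
  | insert a t ha ih =>
    rw [Finset.prod_insert ha, Finset.card_insert_of_notMem ha, pow_succ']
    exact Ideal.mul_mem_mul (hx a (Finset.mem_insert_self a t))
      (ih fun i hi => hx i (Finset.mem_insert_of_mem hi))

theorem prod_sub_prod_mem {S : Type*} [CommRing S] (J : Ideal S) {ι : Type*} (t : Finset ι)
    (x y : ι → S) (hx : ∀ i ∈ t, x i ∈ J) (hy : ∀ i ∈ t, y i ∈ J)
    (h : ∀ i ∈ t, x i - y i ∈ J ^ 2) : ∏ i ∈ t, x i - ∏ i ∈ t, y i ∈ J ^ (t.card + 1) := by
  classical
  induction t using Finset.induction_on with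
  | empty => simp
  | insert a t ha ih =>
    rw [Finset.prod_insert ha, Finset.prod_insert ha, Finset.card_insert_of_notMem ha,
      show x a * ∏ i ∈ t, x i - y a * ∏ i ∈ t, y i =
        (x a - y a) * ∏ i ∈ t, x i + y a * (∏ i ∈ t, x i - ∏ i ∈ t, y i) by ring]
    have hp : ∏ i ∈ t, x i ∈ J ^ t.card := prod_mem_pow' J t x fun i hi => hx i (Finset.mem_insert_of_mem hi)
    refine add_mem ?_ ?_
    · have := Ideal.mul_mem_mul (h a (Finset.mem_insert_self a t)) hp
      rwa [← pow_add, show 2 + t.card = t.card + 1 + 1 by omega] at this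
    · have := Ideal.mul_mem_mul (hy a (Finset.mem_insert_self a t))
        (ih (fun i hi => hx i (Finset.mem_insert_of_mem hi))
          (fun i hi => hy i (Finset.mem_insert_of_mem hi)) (fun i hi => h i (Finset.mem_insert_of_mem hi)))
      rwa [← pow_succ'] at this

end sym

variable {A B : Type u} [CommRing A] [CommRing B] [Algebra A B]

local notation "I" => KaehlerDifferential.ideal A B

variable (A B) in
/-- A section of `I → Ω`. -/
def sec (w : KaehlerDifferential A B) : B ⊗[A] B :=
  (Function.surjInv (KaehlerDifferential.fromIdeal_surjective A B) w).1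

theorem sec_mem (w : KaehlerDifferential A B) : sec A B w ∈ I :=
  (Function.surjInv (KaehlerDifferential.fromIdeal_surjective A B) w).2

theorem fromIdeal_sec (w : KaehlerDifferential A B) :
    KaehlerDifferential.fromIdeal A B ⟨sec A B w, sec_mem w⟩ = w :=
  Function.surjInv_eq (KaehlerDifferential.fromIdeal_surjective A B) w

theorem sub_mem_sq {x : B ⊗[A] B} (hx : x ∈ I) {w : KaehlerDifferential A B}
    (h : KaehlerDifferential.fromIdeal A B ⟨x, hx⟩ = w) : x - sec A B w ∈ I ^ 2 :=
  (Ideal.toCotangent_eq I (x := ⟨x, hx⟩) (y := ⟨_, sec_mem w⟩)).mp (h.trans (fromIdeal_sec w).symm)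

section canon

variable (A B) (κ : Type u) [Fintype κ]

/-- The class of a product of elements of `I`. -/
def cls (x : κ → B ⊗[A] B) (hx : ∀ i, x i ∈ I) : PP16.grI A B (Fintype.card κ) :=
  Submodule.Quotient.mk ⟨∏ i, x i, by
    simpa using PP16.prod_mem_pow I Finset.univ x (fun i _ => hx i)⟩

theorem cls_eq {x y : κ → B ⊗[A] B} (hx : ∀ i, x i ∈ I) (hy : ∀ i, y i ∈ I)
    (h : ∀ i, x i - y i ∈ I ^ 2) : cls A B κ x hx = cls A B κ y hy := by
  refine (Submodule.Quotient.eq _).mpr ?_
  show ∏ i, x i - ∏ i, y i ∈ I ^ (Fintype.card κ + 1)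
  exact prod_sub_prod_mem I Finset.univ x y (fun i _ => hx i) (fun i _ => hy i) fun i _ => h i

theorem cls_eq_update [DecidableEq κ] (v : κ → KaehlerDifferential A B) (j : κ) {x : B ⊗[A] B}
    (hx : x ∈ I) {w : KaehlerDifferential A B} (h : KaehlerDifferential.fromIdeal A B ⟨x, hx⟩ = w) :
    cls A B κ (fun i => sec A B (Function.update v j w i)) (fun _ => sec_mem _) =
      cls A B κ (Function.update (fun i => sec A B (v i)) j x) (fun i => by
        by_cases hij : i = j
        · subst hij; rwa [Function.update_self]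
        · rw [Function.update_of_ne hij]; exact sec_mem _) := by
  refine cls_eq A B κ _ _ fun i => ?_
  by_cases hij : i = j
  · subst hij
    rw [Function.update_self, Function.update_self]
    simpa using (I ^ 2).neg_mem (sub_mem_sq hx h)
  · rw [Function.update_of_ne hij, Function.update_of_ne hij, sub_self]
    exact zero_mem _

/-- The multilinear map `Ω^κ → I^n/I^(n+1)`. -/
def canonMulti : MultilinearMap B (fun _ : κ => KaehlerDifferential A B) (PP16.grI A B (Fintype.card κ)) where
  toFun v := cls A B κ (fun i => sec A B (v i)) (fun _ => sec_mem _)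
  map_update_add' {_} v j a b := by
    classical
    have hab : sec A B a + sec A B b ∈ I := add_mem (sec_mem a) (sec_mem b)
    rw [cls_eq_update A B κ v j hab (by
      refine (map_add (KaehlerDifferential.fromIdeal A B) ⟨_, sec_mem a⟩ ⟨_, sec_mem b⟩).trans ?_
      rw [fromIdeal_sec, fromIdeal_sec]),
      cls_eq_update A B κ v j (sec_mem a) (fromIdeal_sec a),
      cls_eq_update A B κ v j (sec_mem b) (fromIdeal_sec b)]
    rw [cls, cls, cls, ← Submodule.Quotient.mk_add]
    congr 1
    ext1
    simp only [Submodule.coe_add, Finset.prod_update_of_mem (Finset.mem_univ j)]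
    rw [add_mul]
  map_update_smul' {_} v j c a := by
    classical
    rw [cls_eq_update A B κ v j (smul_mem_ideal I c (sec_mem a)) (by
      refine (LinearMap.map_smul_of_tower (KaehlerDifferential.fromIdeal A B) c ⟨_, sec_mem a⟩).trans ?_
      rw [fromIdeal_sec]),
      cls_eq_update A B κ v j (sec_mem a) (fromIdeal_sec a)]
    rw [cls, cls, ← Submodule.Quotient.mk_smul]
    congr 1
    ext1
    simp only [Submodule.coe_smul, Finset.prod_update_of_mem (Finset.mem_univ j)]
    rw [smul_mul_assoc]

theorem canonMulti_eq {v : κ → KaehlerDifferential A B} {x : κ → B ⊗[A] B} (hx : ∀ i, x i ∈ I)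
    (h : ∀ i, KaehlerDifferential.fromIdeal A B ⟨x i, hx i⟩ = v i) :
    canonMulti A B κ v = cls A B κ x hx :=
  cls_eq A B κ (fun _ => sec_mem _) hx fun i => by simpa using (I ^ 2).neg_mem (sub_mem_sq (hx i) (h i))

theorem canonMulti_symm (e : Equiv.Perm κ) (v : κ → KaehlerDifferential A B) :
    canonMulti A B κ (fun i => v (e i)) = canonMulti A B κ v := by
  show cls A B κ (fun i => sec A B (v (e i))) (fun _ => sec_mem _) =
    cls A B κ (fun i => sec A B (v i)) (fun _ => sec_mem _)
  rw [cls, cls]
  congr 1
  ext1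
  exact Equiv.prod_comp e fun i => sec A B (v i)

/-- The canonical map `Sym^n(Ω) → I^n/I^(n+1)`. -/
def canon : SymmetricPower B κ (KaehlerDifferential A B) →ₗ[B] PP16.grI A B (Fintype.card κ) :=
  symLift (canonMulti A B κ) (canonMulti_symm A B κ)

theorem canon_tprod {v : κ → KaehlerDifferential A B} {x : κ → B ⊗[A] B} (hx : ∀ i, x i ∈ I)
    (h : ∀ i, KaehlerDifferential.fromIdeal A B ⟨x i, hx i⟩ = v i) :
    canon A B κ (SymmetricPower.tprod B v) = cls A B κ x hx :=
  (symLift_tprod _ _ v).trans (canonMulti_eq A B κ hx h)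

theorem canon_tprod_D (b : κ → B) :
    canon A B κ (SymmetricPower.tprod B fun i => KaehlerDifferential.D A B (b i)) = PP16.zetaProd A B b :=
  canon_tprod A B κ (x := fun i => dlt A B (b i)) (fun i => dlt_mem _) (fun i => toCotangent_dlt (b i))

theorem eq_canon (φ : SymmetricPower B κ (KaehlerDifferential A B) →ₗ[B] PP16.grI A B (Fintype.card κ))
    (hφ : ∀ b : κ → B, φ (SymmetricPower.tprod B fun i => KaehlerDifferential.D A B (b i)) =
      PP16.zetaProd A B b) : φ = canon A B κ := by
  refine LinearMap.ext_on (span_tprod_of_span (KaehlerDifferential.span_range_derivation A B)) ?_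
  rintro _ ⟨v, hv, rfl⟩
  choose b hb using hv
  rw [← funext hb]
  exact (hφ b).trans (canon_tprod_D A B κ b).symm

theorem pow_le_span_prod_sup (n : ℕ) :
    (I ^ n).restrictScalars B ≤
      Submodule.span B (Set.range fun b : Fin n → B => ∏ i, dlt A B (b i)) ⊔ (I ^ (n + 1)).restrictScalars B := by
  induction n with
  | zero =>
    intro x _
    refine Submodule.mem_sup.mpr ⟨Algebra.TensorProduct.lmul' A x • 1, ?_,
      x - Algebra.TensorProduct.lmul' A x • 1, ?_, by abel⟩
    · exact Submodule.smul_mem _ _ (Submodule.subset_span ⟨Fin.elim0, by simp⟩)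
    · show _ ∈ I ^ (0 + 1)
      rw [zero_add, pow_one, KaehlerDifferential.ideal, RingHom.mem_ker, ← Algebra.algebraMap_eq_smul_one,
        map_sub, Algebra.TensorProduct.algebraMap_apply, Algebra.TensorProduct.lmul'_apply_tmul,
        mul_one, Algebra.algebraMap_self_apply, sub_self]
  | succ n ih =>
    intro x hx
    rw [Submodule.restrictScalars_mem, pow_succ] at hx
    refine Submodule.mul_induction_on hx (fun r hr s hs => ?_) fun x y hx hy => add_mem hx hy
    obtain ⟨g, hg, h, hh, rfl⟩ := Submodule.mem_sup.mp (ih hr)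
    rw [add_mul]
    refine Submodule.add_mem_sup ?_ ?_
    · rw [← Submodule.restrictScalars_mem B, ← KaehlerDifferential.submodule_span_range_eq_ideal] at hs
      have hgs := Submodule.mul_mem_mul hg hs
      rw [Submodule.span_mul_span] at hgs
      refine Submodule.span_mono ?_ hgs
      rintro _ ⟨_, ⟨b, rfl⟩, _, ⟨c, rfl⟩, rfl⟩
      refine ⟨Fin.snoc b c, ?_⟩
      simp [Fin.prod_univ_castSucc, dlt]
    · have := Ideal.mul_mem_mul (hh : h ∈ I ^ (n + 1)) hs
      rwa [← pow_succ] at this

theorem canon_surjective : Function.Surjective (canon A B κ) := by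
  rw [← LinearMap.range_eq_top, eq_top_iff]
  rintro x -
  obtain ⟨⟨y, hy⟩, rfl⟩ := Submodule.Quotient.mk_surjective _ x
  obtain ⟨g, hg, h, hh, rfl⟩ := Submodule.mem_sup.mp (pow_le_span_prod_sup A B (Fintype.card κ) hy)
  induction hg using Submodule.span_induction generalizing h with
  | mem g hg =>
    obtain ⟨b, rfl⟩ := hg
    refine ⟨SymmetricPower.tprod B fun i => KaehlerDifferential.D A B (b (Fintype.equivFin κ i)), ?_⟩
    rw [canon_tprod_D]
    refine (Submodule.Quotient.eq _).mpr ?_
    show _ - _ ∈ _
    rw [Submodule.mem_comap, Submodule.subtype_apply]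
    show ∏ i, dlt A B (b (Fintype.equivFin κ i)) - (∏ i, dlt A B (b i) + h) ∈ I ^ (Fintype.card κ + 1)
    rw [Equiv.prod_comp (Fintype.equivFin κ) fun i => dlt A B (b i), sub_add_cancel_left]
    exact neg_mem hh
  | zero =>
    refine ⟨0, ?_⟩
    rw [map_zero, eq_comm, Submodule.Quotient.mk_eq_zero]
    simpa using hh
  | add g g' hg hg' ihg ihg' =>
    have m1 : g ∈ I ^ Fintype.card κ := Submodule.span_le (p := (I ^ Fintype.card κ).restrictScalars B).mpr
      (by rintro _ ⟨b, rfl⟩; simpa using prod_mem_pow' I Finset.univ (fun i => dlt A B (b i)) fun i _ => dlt_mem _) hg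
    have m2 : g' + h ∈ I ^ Fintype.card κ := by
      have : g + g' + h - g ∈ I ^ Fintype.card κ := sub_mem hy m1
      rwa [add_assoc, add_sub_cancel_left] at this
    convert add_mem (ihg (h := 0) (zero_mem _) (by rwa [add_zero])) (ihg' h hh m2) using 1
    rw [← Submodule.Quotient.mk_add]
    congr 1
    ext1
    simp [add_assoc]
  | smul c g hg ihg =>
    have m1 : g ∈ I ^ Fintype.card κ := Submodule.span_le (p := (I ^ Fintype.card κ).restrictScalars B).mpr
      (by rintro _ ⟨b, rfl⟩; simpa using prod_mem_pow' I Finset.univ (fun i => dlt A B (b i)) fun i _ => dlt_mem _) hg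
    convert Submodule.smul_mem _ c (ihg (h := 0) (zero_mem _) (by rwa [add_zero])) using 1
    rw [← Submodule.Quotient.mk_smul, Submodule.Quotient.eq, Submodule.mem_comap]
    simpa using hh

/-- Differential smoothness through the canonical maps. -/
theorem isDiffSmooth_iff : PP16.IsDiffSmooth A B ↔ Module.Projective B (KaehlerDifferential A B) ∧
    ∀ (κ : Type u) [Fintype κ], Function.Injective (canon A B κ) := by
  refine and_congr_right fun _ => ⟨fun h κ _ => ?_, fun h κ _ =>
    ⟨canon A B κ, canon_tprod_D A B κ, h κ, canon_surjective A B κ⟩⟩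
  obtain ⟨φ, h1, h2⟩ := h κ
  exact eq_canon A B κ φ h1 ▸ h2.1

end canon

end Groth.Agent.PP16Lib

end
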